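import Mathlib
import Cfsg.Prelude.Def_ChevE7
import Cfsg.Prelude.Def_ChevE6
import Cfsg.Prelude.Def_ChevStructure
import Cfsg.Prelude.Def_Solvable
import Cfsg.Agent.KFacts.RgdFiltChev
import Cfsg.Agent.KFacts.RgdBorelTits
import Cfsg.Agent.KFacts.RgdChevCoord
import Cfsg.Agent.BpExc.AsmN_m3
import Cfsg.Agent.H965.XZ.IdxD
import Cfsg.Agent.H965.XZ.Walk
import Cfsg.Agent.S1035
import Cfsg.Agent.S1064
import Cfsg.Agent.S0313
import Cfsg.Agent.Tits.ExtAux
import Cfsg.Agent.Lib.Cores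
import Cfsg.Agent.H557.LrE7
import Cfsg.Agent.KFacts.RgdCent
import Cfsg.Agent.H35.ExcIdxTw_m3
import Cfsg.Agent.S1054
import Cfsg.Agent.S1063
import Cfsg.Agent.Lib.FinFast
import Cfsg.Agent.H129.TorusMain
import Cfsg.Agent.Nodes.NormalForm
import Cfsg.Agent.H154.PQE.Opp
import Cfsg.Agent.SporRec.TwoSp6.Sp
import Cfsg.Agent.LieClassical.SympCenter
import Cfsg.Agent.S0270
import Cfsg.Agent.H501.TwoCyc.Ord_m3
import Cfsg.Agent.ClassicalGeometry.PSL2Basic
import Cfsg.Agent.H351.UnfE7.Desc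
import Cfsg.Agent.H122.Pw.Pc
import Cfsg.Agent.TitsThree.RTFast
import Cfsg.Agent.R2.E72T.Tor_m3
import Cfsg.Agent.H129.FE.ESeven
import Cfsg.Agent.H129.FE.Grp
import Cfsg.Agent.S2401
import Cfsg.Agent.S0765
import Cfsg.Agent.S0245
import Cfsg.Agent.S0246
import Cfsg.Agent.ClassicalGeometry.SympBasic
import Cfsg.Agent.S1057
import Cfsg.Agent.S1077
import Cfsg.Agent.S1078
import Cfsg.Agent.S0283
import Cfsg.Agent.SmallSimple.S1000.PSLFacts
import Cfsg.Agent.ChevFast.E7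
import Cfsg.Agent.ChevFast.Lin
import Cfsg.Agent.Lib.Refl
import Cfsg.Agent.H383.Cube.Crude_m3
import Cfsg.Agent.BpExc.TorChev
import Cfsg.Agent.GpExc.Field
import Cfsg.Agent.Nodes.RGDFoldSL
import Cfsg.Agent.R2.H27S.Cube
import Cfsg.Agent.ChevalleyStructure.StEmbed
import Cfsg.Agent.S1079
import Cfsg.Agent.Lib.ListFast
import Cfsg.Agent.S0249
import Cfsg.Agent.S0279
import Cfsg.Agent.S0280
import Cfsg.Agent.LieClassical.SLGen
import Cfsg.Agent.R2.E72T.T2tab
import Cfsg.Agent.S1066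
import Cfsg.Agent.S1070
import Cfsg.Agent.H65.MultE
import Cfsg.Agent.H155.Unit
import Cfsg.Agent.H133.USixMult
import Cfsg.Agent.H372.FxPsuA
import Cfsg.Agent.FastGrp
import Cfsg.Agent.Prune
set_option linter.all false

section
prune_inst 0x7ff8bcfb0fb83ddfdfff7e7ffed5dffdf9f91fffe6dff9cb7fe0e1ff2b9f6b0889e5fba50fe010ff1ed6e09410b87853f9ffeeffea6bdc7ffffd5ff45ffbee0ff5f6bd0851d68c340fb80fff03f07f8e7f3fffffffffdfffffffffffffffffbeffffffffffff

-- part: R2/H27/Box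
section
set_option linter.all false

/-!
# S5934: interface of the boxes (helper27)

`G7` is `E₇(2)`. Every box is a `Prop`; the owner proves it in his own file
(`theorem box_... : Box...`). Assembly: helper27.
-/

set_option autoImplicit false

namespace Cfsg.Agent.R2.H27

open Subgroup

/-- `E₇(2)` -/
abbrev G7 : Type := ↥(Cfsg.Lie.chevE7.group (ZMod 2))

/-- `|E₇(2)|` -/
def N7 : ℕ := 2 ^ 63 * 3 ^ 11 * 5 ^ 2 * 7 ^ 3 * 11 * 13 * 17 * 19 * 31 * 43 * 73 * 127
def oE6 : ℕ := 2 ^ 36 * 3 ^ 6 * 5 ^ 2 * 7 ^ 3 * 13 * 17 * 31 * 73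
def oTE6 : ℕ := 2 ^ 36 * 3 ^ 9 * 5 ^ 2 * 7 ^ 2 * 11 * 13 * 17 * 19
def oO12 : ℕ := 2 ^ 30 * 3 ^ 8 * 5 ^ 2 * 7 ^ 2 * 11 * 17 * 31
def oL8 : ℕ := 2 ^ 28 * 3 ^ 5 * 5 ^ 2 * 7 ^ 2 * 17 * 31 * 127
def oU8 : ℕ := 2 ^ 28 * 3 ^ 9 * 5 ^ 2 * 7 * 11 * 17 * 43
def oL6 : ℕ := 2 ^ 15 * 3 ^ 4 * 5 * 7 ^ 2 * 31
def oL3 : ℕ := 2 ^ 3 * 3 * 7
def oU6 : ℕ := 2 ^ 15 * 3 ^ 6 * 5 * 7 * 11
def oO8 : ℕ := 2 ^ 12 * 3 ^ 5 * 5 ^ 2 * 7
def oL2e : ℕ := 2 ^ 3 * 3 ^ 2 * 7
def oTD4 : ℕ := 2 ^ 12 * 3 ^ 4 * 7 ^ 2 * 13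
def oL128 : ℕ := 2 ^ 7 * 3 * 43 * 127
def oS6 : ℕ := 2 ^ 9 * 3 ^ 4 * 5 * 7
def oG2 : ℕ := 2 ^ 5 * 3 ^ 3 * 7
def oFi22 : ℕ := 2 ^ 17 * 3 ^ 9 * 5 ^ 2 * 7 * 11 * 13

/-! ## Box X/F context: properties of subgroups `M` of `E₇(2)` with `O₂(M) = 1` -/

/-- properties inherited by all subgroups of `E₇(2)` -/
structure Sub7 (M : Type*) [Group M] : Prop where
  fin : Finite M
  card : Nat.card M ∣ N7
  c127 : ∀ z : M, orderOf z = 127 → Nat.card (centralizer {z} : Subgroup M) ∣ 127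
  c73 : ∀ z : M, orderOf z = 73 → Nat.card (centralizer {z} : Subgroup M) ∣ 73
  c43 : ∀ z : M, orderOf z = 43 → Nat.card (centralizer {z} : Subgroup M) ∣ 129
  c19 : ∀ z : M, orderOf z = 19 → Nat.card (centralizer {z} : Subgroup M) ∣ 171
  n65 : ∀ z : M, orderOf z ≠ 65
  n13 : ∀ z : M, orderOf z ≠ 13 * 11 ∧ orderOf z ≠ 13 * 17 ∧ orderOf z ≠ 13 * 31
  notTE6 : ∀ X : Subgroup M, IsSimpleGroup ↥X → Nat.card ↥X ≠ oTE6

/-- context of the F-box -/
structure Ctx (M : Type*) [Group M] : Prop extends Sub7 M where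
  core : Cfsg.pCore 2 M = ⊥
  ne : Nat.card M ≠ N7

/-- Box X0 (helper14): `E₇(2)` and its subgroups satisfy `Sub7` -/
def BoxX0 : Prop := ∀ M : Subgroup G7, Sub7 ↥M

/-! ## Box F (helper14): abstract theorems about `M` with `Ctx M` -/

/-- 1: `X = E₆(2)` -/
def BoxF1 : Prop := ∀ (M : Type) [Group M], Ctx M → ∀ X : Subgroup M, IsSimpleGroup ↥X → Nat.card ↥X = oE6 →
  X.Normal ∧ Nat.card M ∣ 2 * oE6
/-- 2: `X = 3·²E₆(2)` -/
def BoxF2 : Prop := ∀ (M : Type) [Group M], Ctx M → ∀ X : Subgroup M, ⁅X, X⁆ = X →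
  IsSimpleGroup (↥X ⧸ center ↥X) → Nat.card ↥X = 3 * oTE6 → Nat.card ↥(center ↥X) = 3 →
  X.Normal ∧ Nat.card M ∣ 54 * oTE6 ∧ Nat.card ↥(Cfsg.pCore 3 M) ∣ 9
/-- 3: `X = Ω₁₂⁺(2)` -/
def BoxF3 : Prop := ∀ (M : Type) [Group M], Ctx M → ∀ X : Subgroup M, IsSimpleGroup ↥X → Nat.card ↥X = oO12 →
  X.Normal ∧ Nat.card M ∣ 2 * oO12 * Nat.card (centralizer (X : Set M) : Subgroup M)
/-- 4: `X = L₈(2)` -/
def BoxF4 : Prop := ∀ (M : Type) [Group M], Ctx M → ∀ X : Subgroup M, IsSimpleGroup ↥X → Nat.card ↥X = oL8 →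
  X.Normal ∧ Nat.card M ∣ 2 * oL8
/-- 5: `X = U₈(2)`; needs an element of order 129 in X (box X) to get `C(X) = 1` -/
def BoxF5 : Prop := ∀ (M : Type) [Group M], Ctx M → ∀ X : Subgroup M, IsSimpleGroup ↥X → Nat.card ↥X = oU8 →
  X.Normal ∧ centralizer (X : Set M) = ⊥ ∧ Nat.card M ∣ 2 * oU8
/-- 6: `X = L₆(2)`, `Y = L₃(2)` -/
def BoxF6 : Prop := ∀ (M : Type) [Group M], Ctx M → ∀ X Y : Subgroup M, IsSimpleGroup ↥X → Nat.card ↥X = oL6 →
  IsSimpleGroup ↥Y → Nat.card ↥Y = oL3 → centralizer (X : Set M) = Y → centralizer (Y : Set M) = X →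
  Nat.card M ∣ 4 * oL6 * oL3
/-- 7: `X = 3·U₆(2)` -/
def BoxF7 : Prop := ∀ (M : Type) [Group M], Ctx M → ∀ X : Subgroup M, ⁅X, X⁆ = X →
  IsSimpleGroup (↥X ⧸ center ↥X) → Nat.card ↥X = 3 * oU6 → Nat.card ↥(center ↥X) = 3 →
  Nat.card (centralizer (X : Set M) : Subgroup M) ∣ 2 ^ 3 * 3 ^ 4 → 3 ^ 10 ∣ Nat.card M →
  Cfsg.pCore 3 M ≠ ⊥ ∧ Nat.card ↥(Cfsg.pCore 3 M) ∣ 3 ^ 5 ∧ Cfsg.pCore 3 M ≤ centralizer (X : Set M)
/-- 8: `X = Ω₈⁺(2)`, `C(X) = S₃ × S₃ × S₃` -/
def BoxF8 : Prop := ∀ (M : Type) [Group M], Ctx M → ∀ X : Subgroup M, IsSimpleGroup ↥X → Nat.card ↥X = oO8 →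
  Nat.card (centralizer (X : Set M) : Subgroup M) ∣ 2 ^ 3 * 3 ^ 3 → 3 ^ 9 ∣ Nat.card M →
  Cfsg.pCore 3 M ≤ centralizer (X : Set M) ∧ (Cfsg.pCore 3 M ≠ ⊥ ∨ ∃ L : Subgroup M, L.Normal ∧ IsSimpleGroup ↥L ∧
    centralizer (L : Set M) = ⊥ ∧ X ≤ L ∧
    ((Nat.card ↥L = oU8 ∧ Nat.card M ∣ 2 * oU8) ∨ (Nat.card ↥L = oFi22 ∧ Nat.card M ∣ 2 * oFi22)))
/-- 9: `X = ³D₄(2)`, `Y = L₂(8)` -/
def BoxF9 : Prop := ∀ (M : Type) [Group M], Ctx M → ∀ X Y : Subgroup M, IsSimpleGroup ↥X → Nat.card ↥X = oTD4 →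
  IsSimpleGroup ↥Y → Nat.card ↥Y = oL2e → Y ≤ centralizer (X : Set M) →
  centralizer (X : Set M) ⊓ centralizer (Y : Set M) = ⊥ →
  ¬ 17 ∣ Nat.card (centralizer (Y : Set M) : Subgroup M) → ¬ 5 ∣ Nat.card M ∧ ¬ 127 ∣ Nat.card M
/-- 10: `X = L₂(128)` -/
def BoxF10 : Prop := ∀ (M : Type) [Group M], Ctx M → ∀ X : Subgroup M, IsSimpleGroup ↥X → Nat.card ↥X = oL128 →
  Nat.card M ∣ 7 * oL128
/-- 11: `A = 3^7`, `N₀ = A.Sp₆(2)` -/
def BoxF11 : Prop := ∀ (M : Type) [Group M], Ctx M → ∀ A N₀ : Subgroup M, Nat.card ↥A = 3 ^ 7 → A ≤ N₀ →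
  N₀ ≤ normalizer (A : Set M) → ⁅N₀, N₀⁆ = N₀ → Nat.card ↥N₀ = 3 ^ 7 * oS6 →
  (∀ B : Subgroup M, B ≤ A → N₀ ≤ normalizer (B : Set M) → B = ⊥ ∨ B = A) → centralizer (A : Set M) = A →
  (∀ B : Subgroup M, A ≤ B → B ≤ N₀ → N₀ ≤ normalizer (B : Set M) → B = A ∨ B = N₀) →
  Nat.card ↥(Cfsg.pCore 3 M) = 3 ^ 7

/-- 12: `X = Sp₆(2)`, `Y = U₃(3)` (no `O₂(M) = 1` needed) -/
def BoxF12 : Prop := ∀ (M : Type) [Group M], Sub7 M → ∀ X Y : Subgroup M, IsSimpleGroup ↥X → Nat.card ↥X = oS6 →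
  IsSimpleGroup ↥Y → Nat.card ↥Y = oG2 → Y ≤ centralizer (X : Set M) →
  centralizer (X : Set M) ⊓ centralizer (Y : Set M) = ⊥ → Cfsg.pCore 3 M = ⊥

/-! ## Box X (helper14): small exclusions -/

/-- `3 × Ω₈⁺(2)` is not contained in `U₈(2)` -/
def BoxX1 : Prop := ∀ (L : Type) [Group L], IsSimpleGroup L → Nat.card L = oU8 → ∀ X : Subgroup L, IsSimpleGroup ↥X →
  Nat.card ↥X = oO8 → ∀ c : L, orderOf c = 3 → c ∉ centralizer (X : Set L)
/-- no elements of order 117, 217 in `E₆(2)` -/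
def BoxX2 : Prop := ∀ x : ↥(Cfsg.Lie.chevE6.group (ZMod 2)), orderOf x ≠ 117 ∧ orderOf x ≠ 217
/-- a `7`-element of `L₂(8)`, ... : `Y × X` has elements of order `9 · 13` -/
def BoxX3 : Prop := ∀ (G : Type) [Group G], ∀ X Y : Subgroup G, IsSimpleGroup ↥X → Nat.card ↥X = oTD4 →
  IsSimpleGroup ↥Y → Nat.card ↥Y = oL2e → Y ≤ centralizer (X : Set G) → ∃ z ∈ X ⊔ Y, orderOf z = 117

/-! ## Boxes S (helper6): split subgroups -/

/-- 1: `E₆(2).2` -/
def BoxS1 : Prop := ∃ X H : Subgroup G7, Nonempty (↥X ≃* ↥(Cfsg.Lie.chevE6.group (ZMod 2))) ∧ X ≤ H ∧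
  H ≤ normalizer (X : Set G7) ∧ Nat.card ↥H = 2 * Nat.card ↥X
/-- 3: `S₃ × Ω₁₂⁺(2)` -/
def BoxS3 : Prop := ∃ X : Subgroup G7, IsSimpleGroup ↥X ∧ Nat.card ↥X = oO12 ∧
  Nat.card (centralizer (X : Set G7) : Subgroup G7) = 6
/-- 4: `L₈(2)` -/
def BoxS4 : Prop := ∃ X : Subgroup G7, IsSimpleGroup ↥X ∧ Nat.card ↥X = oL8
/-- 6: `L₃(2) × L₆(2)` -/
def BoxS6 : Prop := ∃ X Y : Subgroup G7, IsSimpleGroup ↥X ∧ Nat.card ↥X = oL6 ∧ IsSimpleGroup ↥Y ∧ Nat.card ↥Y = oL3 ∧
  centralizer (X : Set G7) = Y ∧ centralizer (Y : Set G7) = X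
/-- 8: `(S₃³ × Ω₈⁺(2)):3`; `E = ⟨c 0, c 1, c 2⟩` -/
def BoxS8 : Prop := ∃ (X H : Subgroup G7) (c t : Fin 3 → G7) (τ : G7), IsSimpleGroup ↥X ∧ Nat.card ↥X = oO8 ∧
  Nat.card (centralizer (X : Set G7) : Subgroup G7) = 2 ^ 3 * 3 ^ 3 ∧ X ≤ H ∧ centralizer (X : Set G7) ≤ H ∧ τ ∈ H ∧
  H ≤ normalizer (X : Set G7) ∧
  3 ^ 9 ∣ Nat.card ↥H ∧
  (∀ i, orderOf (c i) = 3 ∧ t i * c i * (t i)⁻¹ = (c i)⁻¹ ∧ c i ∈ centralizer (X : Set G7) ∧
    t i ∈ centralizer (X : Set G7) ∧ τ * c i * τ⁻¹ = c (i + 1)) ∧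
  (∀ i j, i ≠ j → Commute (c i) (c j) ∧ Commute (t i) (c j)) ∧
  (∀ P : Subgroup G7, IsPGroup 3 ↥P → centralizer (X : Set G7) ≤ normalizer (P : Set G7) →
    P ≤ centralizer (X : Set G7) → P ≤ Subgroup.closure (Set.range c)) ∧
  Nat.card ↥(Subgroup.closure (Set.range c)) = 27 ∧
  (∀ J : Subgroup G7, ⁅J, J⁆ = J → J ≤ centralizer (Set.range c) → ¬ 11 ∣ Nat.card ↥J)
/-- 12: `U₃(3) × Sp₆(2)` -/
def BoxS12 : Prop := ∃ X Y : Subgroup G7, IsSimpleGroup ↥X ∧ Nat.card ↥X = oS6 ∧ IsSimpleGroup ↥Y ∧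
  Nat.card ↥Y = oG2 ∧ Y ≤ centralizer (X : Set G7) ∧ centralizer (X : Set G7) ⊓ centralizer (Y : Set G7) = ⊥

/-! ## Boxes T (helper7): twisted forms -/

/-- 2: `3·²E₆(2)` -/
def BoxT2 : Prop := ∃ X : Subgroup G7, ⁅X, X⁆ = X ∧ IsSimpleGroup (↥X ⧸ center ↥X) ∧ Nat.card ↥X = 3 * oTE6 ∧
  Nat.card ↥(center ↥X) = 3
/-- 5: `U₈(2)` -/
def BoxT5 : Prop := ∃ X : Subgroup G7, IsSimpleGroup ↥X ∧ Nat.card ↥X = oU8
/-- 7: `X = 3·U₆(2)`, `z ∈ Z(X)`, `A = 3^7 ≤ C(z)` -/
def BoxT7 : Prop := ∃ (X A : Subgroup G7) (z : G7), ⁅X, X⁆ = X ∧ IsSimpleGroup (↥X ⧸ center ↥X) ∧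
  Nat.card ↥X = 3 * oU6 ∧ Nat.card ↥(center ↥X) = 3 ∧ z ∈ X ∧ orderOf z = 3 ∧ X ≤ centralizer {z} ∧
  Nat.card (centralizer (X : Set G7) : Subgroup G7) ∣ 2 ^ 3 * 3 ^ 4 ∧
  3 ^ 10 ∣ Nat.card (centralizer {z} : Subgroup G7) ∧ ¬ 19 ∣ Nat.card (centralizer {z} : Subgroup G7) ∧
  A ≤ centralizer {z} ∧ IsPGroup 3 ↥A ∧ centralizer (A : Set G7) = A ∧
  (∀ e ∈ A, e ≠ 1 → centralizer {z} ≤ normalizer (zpowers e : Set G7) → zpowers e = zpowers z)
/-- 9: `L₂(8) × ³D₄(2)` -/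
def BoxT9 : Prop := ∃ X Y : Subgroup G7, IsSimpleGroup ↥X ∧ Nat.card ↥X = oTD4 ∧ IsSimpleGroup ↥Y ∧
  Nat.card ↥Y = oL2e ∧ Y ≤ centralizer (X : Set G7) ∧ centralizer (X : Set G7) ⊓ centralizer (Y : Set G7) = ⊥ ∧
  ¬ 17 ∣ Nat.card (centralizer (Y : Set G7) : Subgroup G7)
/-- 10: `L₂(128)` -/
def BoxT10 : Prop := ∃ X : Subgroup G7, IsSimpleGroup ↥X ∧ Nat.card ↥X = oL128
/-- 11: `3^7:Sp₆(2)` -/
def BoxT11 : Prop := ∃ A N₀ : Subgroup G7, Nat.card ↥A = 3 ^ 7 ∧ A ≤ N₀ ∧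
  N₀ ≤ normalizer (A : Set G7) ∧ ⁅N₀, N₀⁆ = N₀ ∧ Nat.card ↥N₀ = 3 ^ 7 * oS6 ∧
  (∀ B : Subgroup G7, B ≤ A → N₀ ≤ normalizer (B : Set G7) → B = ⊥ ∨ B = A) ∧ centralizer (A : Set G7) = A ∧
  (∀ B : Subgroup G7, A ≤ B → B ≤ N₀ → N₀ ≤ normalizer (B : Set G7) → B = A ∨ B = N₀)

end Cfsg.Agent.R2.H27
end

-- part: R2/H27/Np
section
prune_inst 0x44200a040800020000180002800000004e00019200630800d1200944000677612000af01fc200a120122a2702038000000000059001000002000020040010020902872821300a10466000f80b807100000000000020000000000000000041000000000000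
set_option linter.all false
open scoped Cfsg.Agent.FastGrp

-- part: R2/H27/Par
section
/-!
# S5934, box P: the maximal parabolic subgroups of `E₇(2)` (helper27)
-/

set_option autoImplicit false

namespace Cfsg.Agent.R2.H27.Par

open CoxeterSystem Cfsg.Agent.ChevalleyStructure.CoxeterGeom Cfsg.Agent.Tits.Roots Cfsg.Agent.Tits.Core
  Cfsg.Agent.Tits.RootComb Cfsg.Agent.Nodes.Comb Cfsg.Agent.Nodes.Reps Cfsg.Agent.Nodes.BNOf
  Cfsg.Agent.Nodes.StabComb Cfsg.Agent.Nodes.Bruhat Cfsg.Agent.Nodes.LeviDec Cfsg.Agent.Nodes.OppDec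
open Cfsg.Lie Cfsg.Agent.ChevalleyStructure Cfsg.Agent.ChevalleyStructure.CoxeterGeomTypes
  Cfsg.Agent.ChevalleyStructure.NPerm
open Cfsg.Agent.Nodes Cfsg.Agent.Nodes.RGDChev Cfsg.Agent.KFacts.RgdBorelTits Cfsg.Agent.KFacts.RgdFilt
open Cfsg.Agent.KFacts.RgdChevCoord (TT XX nc)

/-- the type of `E₇` -/
theorem hp7 : IsType chevE7 7 CoxeterMatrix.E₇ := Cfsg.Agent.BpExc.RowsUntw.e7T

/-- the Weyl group -/
abbrev cs7 := CoxeterMatrix.E₇.toCoxeterSystem
abbrev h7 := hp7.isCartan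
abbrev T7 : Subgroup G7 := TT chevE7 (ZMod 2)
abbrev X7 : (Fin 7 → ℤ) → Subgroup G7 := XX chevE7 7 (ZMod 2)
abbrev n7 : Fin 7 → G7 := nc hp7 (ZMod 2)

instance finW7 : Finite CoxeterMatrix.E₇.Group := finite_W hp7 cs7
instance finG7 : Finite G7 := inferInstance

theorem R7 : RGD cs7 h7 2 T7 n7 X7 := rgd (K := ZMod 2) hp7 cs7 2

theorem G1_top : RGDLib.G1 cs7 h7 X7 = ⊤ := G1_eq_top hp7 cs7

theorem GG_top7 : GG cs7 h7 T7 X7 = ⊤ := GG_eq_top G1_top

theorem gen7 : RGD.B cs7 h7 T7 X7 ⊔ NN cs7 R7.nsys = ⊤ := gen hp7 cs7 2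

theorem T7_bot : T7 = ⊥ := by
  have h1 := Cfsg.Agent.S1035.result (F := ZMod 2) (q := 2) (by simp [ZMod.card]) (chevE7, Nat.gcd 2 (2 - 1)) (by simp)
  have h2 : Nat.card ↥(chevE7.diagonalSubgroup (ZMod 2)) = 1 := by
    simpa only [_root_.Subgroup.card_eq_one, _root_.Nat.add_one_sub_one, _root_.Nat.gcd_one_right, _root_.Nat.reduceGcd, _root_.one_mul, _root_.one_pow] using h1
  have h3 : chevE7.diagonalSubgroup (ZMod 2) = ⊥ := Subgroup.card_eq_one.1 h2
  show (chevE7.diagonalSubgroup (ZMod 2)).subgroupOf _ = ⊥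
  rw [h3]
  exact Subgroup.bot_subgroupOf _

theorem card_G7 : Nat.card G7 = N7 := by
  have h1 := Cfsg.Agent.S1064.result (F := ZMod 2) (q := 2) (by simp [ZMod.card])
  have h2 : Nat.gcd 2 (2 - 1) = 1 := by decide
  rw [h2, one_mul] at h1
  rw [h1]
  unfold N7
  norm_num

/-- the `j`-th maximal parabolic subgroup -/
def P7 (j : Fin 7) : Subgroup G7 := PJ cs7 h7 T7 X7 {i | i ≠ j}

theorem n_mem_iff {i : Fin 7} {J : Set (Fin 7)} : n7 i ∈ PJ cs7 h7 T7 X7 J ↔ i ∈ J := by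
  have h1 : Cell R7.nsys cs7 h7 X7 (cs7.simple i) (n7 i) :=
    ⟨1, one_mem _, n7 i, rp_simple cs7 R7.nsys i, 1, one_mem _, by group⟩
  rw [cell_mem_PJ_iff R7 h1]
  exact ⟨fun h => Cfsg.Agent.Tits.Ext.mem_of_simple_mem_WJ
    Cfsg.Agent.Tits.Ext.simple_injective h, fun h => Cfsg.Agent.Tits.Exchange.simple_mem_WJ cs7 h⟩

theorem B_le (j : Fin 7) : RGD.B cs7 h7 T7 X7 ≤ P7 j := B_le_PJ

/-- subgroups containing `B` -/
theorem eq_PJ {K : Subgroup G7} (hK : RGD.B cs7 h7 T7 X7 ≤ K) : K = PJ cs7 h7 T7 X7 {i | n7 i ∈ K} := by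
  have h1 := inf_eq_PJ R7 hK
  rwa [GG_top7, inf_top_eq] at h1

theorem isCoatom_P7 (j : Fin 7) : IsCoatom (P7 j) := by
  constructor
  · intro h
    have h1 : n7 j ∈ P7 j := by rw [h]; exact Subgroup.mem_top _
    exact (n_mem_iff.1 h1) rfl
  · intro K hK
    have h1 := eq_PJ (le_trans (B_le j) hK.le)
    by_cases hj : n7 j ∈ K
    · have h2 : {i | n7 i ∈ K} = Set.univ := by
        rw [Set.eq_univ_iff_forall]
        intro i
        by_cases hi : i = j
        · rw [hi]; exact hj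
        · exact hK.le (n_mem_iff.2 hi)
      rw [h1, h2]
      have h3 := eq_PJ (K := ⊤) le_top
      rw [h3]
      congr 1
    · exfalso
      apply hK.not_ge
      rw [h1]
      have h2 : {i | n7 i ∈ K} ⊆ {i | i ≠ j} := by
        intro i hi h0
        rw [h0] at hi
        exact hj hi
      have h3 : {i | n7 i ∈ K} = {i | i ≠ j} := by
        apply Set.Subset.antisymm h2
        intro i hi
        exact hK.le (n_mem_iff.2 hi)
      rw [h3]
      exact le_refl _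

theorem P7_injective : Function.Injective P7 := by
  intro i j hij
  by_contra hne
  have h1 : n7 i ∈ P7 j := n_mem_iff.2 hne
  rw [← hij] at h1
  exact (n_mem_iff.1 h1) rfl

theorem nonconj {i j : Fin 7} {g : G7} (hg : (P7 i).map (MulAut.conj g).toMonoidHom = P7 j) : i = j := by
  have h1 : g⁻¹ ∈ P7 j := by
    refine Cfsg.Agent.S0313.mem_of_conj_borel_le (R7.bnPair gen7) (P7 j) (B_le j) g⁻¹ ?_
    intro b hb
    rw [← hg]
    exact ⟨b, B_le i hb, by rw [inv_inv]; rfl⟩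
  apply P7_injective
  have h2 : P7 i = (P7 j).map (MulAut.conj g⁻¹).toMonoidHom := by
    rw [← hg, Subgroup.map_map]
    have h3 : (MulAut.conj g⁻¹).toMonoidHom.comp (MulAut.conj g).toMonoidHom = MonoidHom.id G7 := by
      ext x
      simp only [mul_assoc, _root_.map_inv, _root_.MulEquiv.toMonoidHom_eq_coe, _root_.MonoidHom.coe_comp, _root_.MonoidHom.coe_coe, _root_.MulAut.coe_inv, _root_.Function.comp_apply, _root_.MulAut.conj_apply, _root_.MulAut.conj_symm_apply, _root_.inv_mul_cancel_left, _root_.inv_mul_cancel, _root_.mul_one, _root_.MonoidHom.id_apply]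
    rw [h3, Subgroup.map_id]
  rw [h2]
  apply le_antisymm
  · rintro _ ⟨x, hx, rfl⟩
    exact mul_mem (mul_mem h1 hx) (inv_mem h1)
  · intro x hx
    exact ⟨g * x * g⁻¹, by
      have h3 := mul_mem (mul_mem (inv_mem h1) hx) h1
      rwa [inv_inv] at h3, by
      show g⁻¹ * (g * x * g⁻¹) * g⁻¹⁻¹ = x
      group⟩

theorem isCoatom_map {M : Subgroup G7} (hM : IsCoatom M) (g : G7) :
    IsCoatom (M.map (MulAut.conj g).toMonoidHom) := by
  have e : Subgroup G7 ≃o Subgroup G7 := (MulAut.conj g).mapSubgroup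
  have h1 : M.map (MulAut.conj g).toMonoidHom = (MulAut.conj g).mapSubgroup M := rfl
  rw [h1]
  exact (OrderIso.isCoatom_iff _ _).2 hM

/-- **Borel–Tits** for maximal subgroups -/
theorem borelTits {M : Subgroup G7} (hM : IsCoatom M) (h2 : Cfsg.pCore 2 ↥M ≠ ⊥) :
    ∃ (j : Fin 7) (g : G7), M = (P7 j).map (MulAut.conj g).toMonoidHom := by
  set K : Subgroup G7 := (Cfsg.pCore 2 ↥M).map M.subtype with hK
  have hKp : IsPGroup 2 ↥K := (Cfsg.Agent.Lib.Cores.pCore_isPGroup 2).map _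
  have hK1 : K ≠ ⊥ := by
    intro h0
    apply h2
    rwa [hK, Subgroup.map_eq_bot_iff_of_injective _ M.subtype_injective] at h0
  obtain ⟨g, J, hJ, h3, h4⟩ := borel_tits (KFacts.RgdFiltChev.filt (K := ZMod 2) hp7 cs7 2) GG_top7 hKp hK1
  obtain ⟨j, hj⟩ := (Set.ne_univ_iff_exists_notMem J).1 hJ
  refine ⟨j, g, ?_⟩
  have h5 : M ≤ Subgroup.normalizer (K : Set G7) := by
    intro x hx
    rw [Subgroup.mem_normalizer_iff]
    have hn := Cfsg.Agent.Lib.Cores.pCore_normal (G := ↥M) 2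
    intro y
    constructor
    · rintro ⟨z, hz, rfl⟩
      refine ⟨(⟨x, hx⟩ : ↥M) * z * (⟨x, hx⟩ : ↥M)⁻¹, hn.conj_mem z hz ⟨x, hx⟩, ?_⟩
      rw [map_mul, map_mul, map_inv]
      rfl
    · rintro ⟨z, hz, hzy⟩
      refine ⟨(⟨x, hx⟩ : ↥M)⁻¹ * z * (⟨x, hx⟩ : ↥M), ?_, ?_⟩
      · have := hn.conj_mem z hz ((⟨x, hx⟩ : ↥M)⁻¹)
        rwa [inv_inv] at this
      · rw [map_mul, map_mul, map_inv, hzy]
        show x⁻¹ * (x * y * x⁻¹) * x = y
        group
  have h6 : PJ cs7 h7 T7 X7 J ≤ P7 j := by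
    have h7' := eq_PJ (K := PJ cs7 h7 T7 X7 J) B_le_PJ
    have h8 : ∀ i ∈ J, i ≠ j := fun i hi h0 => hj (h0 ▸ hi)
    refine sup_le ?_ (le_trans (VJ_le_B J) (B_le j))
    refine le_trans ?_ (LJ_le_PJ (J := {i | i ≠ j}))
    unfold LJ
    refine sup_le_sup_left (RGD.Sup_mono ?_) _
    rintro x ⟨hx1, hx2⟩
    refine ⟨hx1, fun k hk => hx2 k ?_⟩
    intro h
    exact hk (h8 k h)
  have h7' : M ≤ (P7 j).map (MulAut.conj g).toMonoidHom := by
    refine le_trans h5 (le_trans h4 ?_)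
    exact Subgroup.map_mono h6
  rcases hM.le_iff.1 h7' with h8 | h8
  · exfalso
    exact (isCoatom_map (isCoatom_P7 j) g).1 h8
  · exact h8.symm

end Cfsg.Agent.R2.H27.Par
end

-- part: R2/H27/ParCent
section
/-!
# S5934, box P: `P7 0` centralises a root element; centralisers of root subgroups over `𝔽₂` (helper27)
-/

set_option autoImplicit false

namespace Cfsg.Agent.R2.H27.Par

open CoxeterSystem Cfsg.Agent.ChevalleyStructure.CoxeterGeom Cfsg.Agent.Tits.Roots Cfsg.Agent.Tits.Core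
  Cfsg.Agent.Tits.RootComb Cfsg.Agent.Nodes.Comb Cfsg.Agent.Nodes.Reps Cfsg.Agent.Nodes.BNOf
  Cfsg.Agent.Nodes.StabComb Cfsg.Agent.Nodes.Bruhat Cfsg.Agent.Nodes.LeviDec Cfsg.Agent.Nodes.OppDec
  Cfsg.Agent.Nodes.Coroot
open Cfsg.Lie Cfsg.Agent.ChevalleyStructure Cfsg.Agent.ChevalleyStructure.CoxeterGeomTypes
  Cfsg.Agent.ChevalleyStructure.NPerm Cfsg.Agent.ChevalleyStructure.RootVec
open Cfsg.Agent.Nodes Cfsg.Agent.Nodes.RGDChev Cfsg.Agent.KFacts.RgdSL Cfsg.Agent.KFacts.RgdCent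
  Cfsg.Agent.KFacts.RgdTI
open Cfsg.Agent.KFacts.RgdChevCoord (TT XX nc)
open Cfsg.Agent.H974.Exc (sl_E7 cf cpr_of isRoot_of)

theorem sl7 : SL cs7 h7 := sl_E7 cs7

private noncomputable def _root_.Cfsg.Agent.LsF.f75deef_0 : {f // @Cfsg.Agent.H974.Exc.cf = f} := ⟨_, by first | (delta Cfsg.Agent.H974.Exc.cf; rewrite [Cfsg.Agent.LsF.imul_pat, Cfsg.Agent.LsF.finFintype_eq, Cfsg.Agent.LsF.fsum_eq, Cfsg.Agent.LsF.iACM_eq]; exact rfl) | exact rfl⟩
private noncomputable def _root_.Cfsg.Agent.LsF.f75deef_1 : {f // @Cfsg.Lie.ChevalleyDatum.cartan = f} := ⟨_, by first | (delta Cfsg.Lie.ChevalleyDatum.cartan; rewrite [Cfsg.Agent.LsF.agetD_eq]; exact rfl) | exact rfl⟩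
private noncomputable def _root_.Cfsg.Agent.LsF.f75deef_2 : {f // @Cfsg.Lie.ChevalleyDatum.simple = f} := ⟨_, by first | (delta Cfsg.Lie.ChevalleyDatum.simple; rewrite [Cfsg.Agent.LsF.agetD_eq]; exact rfl) | exact rfl⟩
private noncomputable def _root_.Cfsg.Agent.LsF.f75deef_3 : {f // @Cfsg.Agent.ChevalleyStructure.CoxeterGeomTypes.cartanOf = f} := ⟨_, by first | (delta Cfsg.Agent.ChevalleyStructure.CoxeterGeomTypes.cartanOf; rewrite [Cfsg.Agent.LsF.f75deef_1.2, Cfsg.Agent.LsF.f75deef_2.2]; exact rfl) | exact rfl⟩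
private noncomputable def _root_.Cfsg.Agent.LsF.f75deef_4 : {f // @Cfsg.Agent.ChevalleyStructure.RootVecTab.dig = f} := ⟨_, by first | (delta Cfsg.Agent.ChevalleyStructure.RootVecTab.dig; rewrite [Cfsg.Agent.LsF.nmul_pat]; exact rfl) | exact rfl⟩
private noncomputable def _root_.Cfsg.Agent.LsF.f75deef_5 : {f // @Cfsg.Agent.ChevalleyStructure.RootVecTab.packTab = f} := ⟨_, by first | (delta Cfsg.Agent.ChevalleyStructure.RootVecTab.packTab; rewrite [Cfsg.Agent.LsF.instDecEq_eq, Cfsg.Agent.LsF.ite_eq]; exact rfl) | exact rfl⟩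
private noncomputable def _root_.Cfsg.Agent.LsF.f75deef_6 : {f // @Cfsg.Agent.ChevalleyStructure.RootVecTab.code = f} := ⟨_, by first | (delta Cfsg.Agent.ChevalleyStructure.RootVecTab.code; rewrite [Cfsg.Agent.LsF.f75deef_5.2, Cfsg.Agent.LsF.nmul_pat, Cfsg.Agent.LsF.npow_pat]; exact rfl) | exact rfl⟩
private noncomputable def _root_.Cfsg.Agent.LsF.f75deef_7 : {f // @Cfsg.Agent.ChevalleyStructure.RootVec.rt = f} := ⟨_, by first | (delta Cfsg.Agent.ChevalleyStructure.RootVec.rt; rewrite [Cfsg.Agent.LsF.f75deef_4.2, Cfsg.Agent.LsF.f75deef_6.2, Cfsg.Agent.LsF.nsub_pat, Cfsg.Agent.LsF.isub_pat, Cfsg.Agent.LsF.icast_pat, Cfsg.Agent.LsF.decLt_eq, Cfsg.Agent.LsF.dAnd_eq, Cfsg.Agent.LsF.ite_eq]; exact rfl) | exact rfl⟩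
private noncomputable def _root_.Cfsg.Agent.LsF.f75deef_8 : {f // @Cfsg.Agent.Nodes.RGDChev.vec = f} := ⟨_, by first | (delta Cfsg.Agent.Nodes.RGDChev.vec; rewrite [Cfsg.Agent.LsF.f75deef_7.2]; exact rfl) | exact rfl⟩
theorem adj7 : ∀ r ∈ List.range 126, ∃ s ∈ List.range 126, cf (cartanOf chevE7 7) (vec chevE7 7 r) (vec chevE7 7 s) = 1 := by
  (refine of_decide_eq_true ?_; (try (rewrite [Cfsg.Agent.LsF.f75deef_0.2, Cfsg.Agent.LsF.f75deef_3.2, Cfsg.Agent.LsF.f75deef_8.2, Cfsg.Agent.LsF.range_eq, Cfsg.Agent.LsF.instIDecEq_eq, Cfsg.Agent.LsF.dBAll_eq, Cfsg.Agent.LsF.dBEx_eq, Cfsg.Agent.LsF.decide_eq])); decide +kernel)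

theorem lr7 (a : Fin 7 → ℤ) (ha : IsRoot cs7 h7 a) : LR R7 a := by
  refine lr_all R7 sl7 (fun a ha => ?_) a ha
  obtain ⟨r, hr, rfl⟩ := (isRoot_iff hp7 cs7 a).1 ha
  obtain ⟨s, hs, h1⟩ := adj7 r (List.mem_range.2 hr)
  exact ⟨vec chevE7 7 s, isRoot_of hp7 cs7 ⟨s, hs, rfl⟩, cpr_of hp7 sl7 _ (isRoot_of hp7 cs7 ⟨s, hs, rfl⟩) h1⟩

/-- the highest root -/
def hi7 : Fin 7 → ℤ := vec chevE7 7 125

theorem isRoot_hi7 : IsRoot cs7 h7 hi7 := isRoot_of hp7 cs7 ⟨125, by decide, rfl⟩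

private noncomputable def _root_.Cfsg.Agent.LsF.f75deef_9 : {f // @Cfsg.Agent.R2.H27.Par.hi7 = f} := ⟨_, by first | (delta Cfsg.Agent.R2.H27.Par.hi7; rewrite [Cfsg.Agent.LsF.f75deef_8.2]; exact rfl) | exact rfl⟩
theorem hi7_eq : ∀ i : Fin 7, ∑ k, cartanOf chevE7 7 i k * hi7 k = if i = 0 then 1 else 0 := by (refine of_decide_eq_true ?_; (try (rewrite [Cfsg.Agent.LsF.sumF_pat, Cfsg.Agent.LsF.f75deef_3.2, Cfsg.Agent.LsF.f75deef_9.2, Cfsg.Agent.LsF.iadd_pat, Cfsg.Agent.LsF.imul_pat, Cfsg.Agent.LsF.iACM_eq, Cfsg.Agent.LsF.instIDecEq_eq, Cfsg.Agent.LsF.dFinEq_eq, Cfsg.Agent.LsF.dForallFin_eq, Cfsg.Agent.LsF.ite_eq, Cfsg.Agent.LsF.decide_eq])); decide +kernel)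

theorem cpr_hi7 (x : Fin 7 → ℤ) : cpr cs7 h7 x hi7 = x 0 := by
  refine cpr_of hp7 sl7 x isRoot_hi7 ?_
  unfold cf
  rw [Finset.sum_eq_single 0]
  · rw [hi7_eq]; simp
  · intro i _ hi
    rw [hi7_eq, if_neg hi, mul_zero]
  · intro h; exact absurd (Finset.mem_univ _) h

theorem P7_zero_le : P7 0 ≤ Subgroup.centralizer (X7 hi7 : Set G7) := by
  have key : ∀ a, IsRoot cs7 h7 a → 0 ≤ a 0 → X7 a ≤ Subgroup.centralizer (X7 hi7 : Set G7) := by
    intro a ha h0 u hu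
    rw [Subgroup.mem_centralizer_iff]
    intro v hv
    exact ((lr7 hi7 isRoot_hi7).comm a ha (by rw [cpr_hi7]; exact h0) u hu v hv).symm
  refine sup_le (sup_le ?_ (RGD.Sup_le fun x hx => key x hx.1 ?_)) (RGD.Sup_le fun x hx => key x hx.1 ?_)
  · rw [T7_bot]; exact bot_le
  · exact (hx.2 0 (by simp)).ge
  · exact hx.2.1 0

/-- `P7 0` centralises a nontrivial element -/
theorem P7_zero : ∃ x : G7, x ≠ 1 ∧ P7 0 ≤ Subgroup.centralizer {x} := by
  obtain ⟨⟨z, hz⟩, hz1⟩ := (Subgroup.ne_bot_iff_exists_ne_one).1 (X_ne_bot R7 isRoot_hi7)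
  refine ⟨z, fun h0 => hz1 (Subtype.ext h0), fun g hg => ?_⟩
  rw [Subgroup.mem_centralizer_singleton_iff]
  exact (Subgroup.mem_centralizer_iff.1 (P7_zero_le hg) z hz).symm

end Cfsg.Agent.R2.H27.Par
end

-- part: R2/H27/ParCard
section
/-!
# S5934, box P: the orders of the maximal parabolic subgroups of `E₇(2)` (helper27)
-/

set_option autoImplicit false

namespace Cfsg.Agent.R2.H27.Par

open CoxeterSystem Cfsg.Agent.ChevalleyStructure.CoxeterGeom Cfsg.Agent.Tits.Roots Cfsg.Agent.Tits.Core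
  Cfsg.Agent.Tits.RootComb Cfsg.Agent.Nodes.Comb Cfsg.Agent.Nodes.Reps Cfsg.Agent.Nodes.BNOf
  Cfsg.Agent.Nodes.StabComb Cfsg.Agent.Nodes.Bruhat Cfsg.Agent.Nodes.LeviDec Cfsg.Agent.Nodes.OppDec
open Cfsg.Lie Cfsg.Agent.ChevalleyStructure Cfsg.Agent.ChevalleyStructure.CoxeterGeomTypes
  Cfsg.Agent.ChevalleyStructure.NPerm
open Cfsg.Agent.Nodes Cfsg.Agent.Nodes.RGDChev
open Cfsg.Agent.KFacts.RgdChevCoord (TT XX nc)
open Cfsg.Agent.H35.Poin Cfsg.Agent.H965.XZ Cfsg.Agent.H35.ExcIdx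

theorem card_X7 {x : Fin 7 → ℤ} (hx : IsRoot cs7 h7 x) : Nat.card (X7 x) = 2 := by
  have h1 := card_XX hp7 (ZMod 2) cs7 hx
  rw [Nat.card_zmod] at h1
  exact h1

theorem card_X7s (i : Fin 7) : Nat.card (X7 (sr i)) = 2 := card_X7 (isRoot_sr cs7 h7 i)

/-- the order of `P_J` is `N |B|` -/
def Cd (J : Set (Fin 7)) (N : ℕ) : Prop :=
  Nat.card ↥(PJ cs7 h7 T7 X7 J) = N * Nat.card ↥(RGD.B cs7 h7 T7 X7)

theorem cd_nil : Cd {j | j ∈ ([] : List (Fin 7))} 1 := card_nil R7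

theorem cd_path {L C L' : List (Fin 7)} {N : ℕ} (hP : PathOK CoxeterMatrix.E₇ L C L' 0)
    (hN : Cd {j | j ∈ L'} N) : Cd {j | j ∈ L} (FA C.length 2 * N) :=
  card_step R7 hP (fun i _ => card_X7s i) hN

/-- the list form of `DPath` -/
structure DOK (L C L' : List (Fin 7)) (l : ℕ) : Prop where
  sub : ∀ t < l + 3, C.getD t 0 ∈ L
  adj : ∀ t < l + 1, CoxeterMatrix.E₇ (C.getD t 0) (C.getD (t + 1) 0) = 3
  fork : CoxeterMatrix.E₇ (C.getD l 0) (C.getD (l + 2) 0) = 3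
  far : ∀ t < l + 2, ∀ s < l + 2, s + 1 < t → CoxeterMatrix.E₇ (C.getD s 0) (C.getD t 0) = 2
  farl : ∀ s < l, CoxeterMatrix.E₇ (C.getD s 0) (C.getD (l + 2) 0) = 2
  comm : CoxeterMatrix.E₇ (C.getD (l + 1) 0) (C.getD (l + 2) 0) = 2
  out : ∀ j ∈ L, (∀ t < l + 3, C.getD t 0 ≠ j) → ∀ t < l + 3, CoxeterMatrix.E₇ (C.getD t 0) j = 2
  inj : ∀ s < l + 3, ∀ t < l + 3, C.getD s 0 = C.getD t 0 → s = t
  rest : ∀ j, j ∈ L' ↔ j ∈ L ∧ C.getD 0 0 ≠ j

theorem cd_dpath {L C L' : List (Fin 7)} {l N : ℕ} (hP : DOK L C L' l) (hN : Cd {j | j ∈ L'} N) :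
    Cd {j | j ∈ L} (gs 2 (l + 3) * (1 + 2 ^ (l + 2)) * N) := by
  have h1 : DPath (cartanOf chevE7 7) {j | j ∈ L} (fun t => C.getD t 0) l := by
    refine ⟨hP.sub, fun t ht => cartan_three h7 (hP.adj t ht), cartan_three h7 hP.fork, ?_, ?_,
      cartan_two h7 hP.comm, ?_, hP.inj⟩
    · intro s t hst ht
      exact cartan_two h7 (hP.far t ht s (by omega) hst)
    · intro s hs
      exact cartan_two h7 (hP.farl s hs)
    · intro j hj hne t ht
      exact (cartan_two h7 (hP.out j hj hne t ht)).1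
  have h2 := card_PJ_dpath R7 h1 (fun t _ => card_X7s _)
  have h3 : ({j | j ∈ L} \ {(fun t => C.getD t 0) 0} : Set (Fin 7)) = {j | j ∈ L'} := by
    ext j
    constructor
    · rintro ⟨h4, h5⟩
      exact (hP.rest j).2 ⟨h4, fun h => h5 h.symm⟩
    · intro h4
      obtain ⟨h5, h6⟩ := (hP.rest j).1 h4
      exact ⟨h5, fun h => h6 h.symm⟩
  unfold Cd at hN ⊢
  rw [h2, h3, hN]
  ring

theorem set_eq {L : List (Fin 7)} {j : Fin 7} (h : ∀ i, i ∈ L ↔ i ≠ j) : {i | i ≠ j} = {i | i ∈ L} := by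
  ext i
  exact (h i).symm

theorem cd1 : Cd {i | i ≠ 1} (FA 6 2 * 1) := by
  rw [set_eq (L := [0, 2, 3, 4, 5, 6]) (by decide)]
  exact cd_path (C := [0, 2, 3, 4, 5, 6]) (by constructor <;> decide +kernel) cd_nil

theorem cd2 : Cd {i | i ≠ 2} (FA 1 2 * (FA 5 2 * 1)) := by
  rw [set_eq (L := [0, 1, 3, 4, 5, 6]) (by decide)]
  exact cd_path (C := [0]) (L' := [1, 3, 4, 5, 6]) (by constructor <;> decide +kernel)
    (cd_path (C := [1, 3, 4, 5, 6]) (by constructor <;> decide +kernel) cd_nil)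

theorem cd3 : Cd {i | i ≠ 3} (FA 2 2 * (FA 1 2 * (FA 3 2 * 1))) := by
  rw [set_eq (L := [0, 1, 2, 4, 5, 6]) (by decide)]
  exact cd_path (C := [0, 2]) (L' := [1, 4, 5, 6]) (by constructor <;> decide +kernel)
    (cd_path (C := [1]) (L' := [4, 5, 6]) (by constructor <;> decide +kernel)
    (cd_path (C := [4, 5, 6]) (by constructor <;> decide +kernel) cd_nil))

theorem cd4 : Cd {i | i ≠ 4} (FA 4 2 * (FA 2 2 * 1)) := by
  rw [set_eq (L := [0, 1, 2, 3, 5, 6]) (by decide)]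
  exact cd_path (C := [0, 2, 3, 1]) (L' := [5, 6]) (by constructor <;> decide +kernel)
    (cd_path (C := [5, 6]) (by constructor <;> decide +kernel) cd_nil)

theorem cd5 : Cd {i | i ≠ 5} (FA 1 2 * (gs 2 5 * (1 + 2 ^ 4) * (gs 2 4 * (1 + 2 ^ 3) * (FA 3 2 * 1)))) := by
  rw [set_eq (L := [0, 1, 2, 3, 4, 6]) (by decide)]
  exact cd_path (C := [6]) (L' := [0, 1, 2, 3, 4]) (by constructor <;> decide +kernel)
    (cd_dpath (C := [0, 2, 3, 1, 4]) (L' := [1, 2, 3, 4]) (l := 2) (by constructor <;> decide +kernel)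
    (cd_dpath (C := [2, 3, 1, 4]) (L' := [1, 3, 4]) (l := 1) (by constructor <;> decide +kernel)
    (cd_path (C := [1, 3, 4]) (by constructor <;> decide +kernel) cd_nil)))

theorem cd0 : Cd {i | i ≠ 0} (gs 2 6 * (1 + 2 ^ 5) * (gs 2 5 * (1 + 2 ^ 4) *
    (gs 2 4 * (1 + 2 ^ 3) * (FA 3 2 * 1)))) := by
  rw [set_eq (L := [1, 2, 3, 4, 5, 6]) (by decide)]
  exact cd_dpath (C := [6, 5, 4, 3, 1, 2]) (L' := [1, 2, 3, 4, 5]) (l := 3) (by constructor <;> decide +kernel)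
    (cd_dpath (C := [5, 4, 3, 1, 2]) (L' := [1, 2, 3, 4]) (l := 2) (by constructor <;> decide +kernel)
    (cd_dpath (C := [4, 3, 1, 2]) (L' := [1, 2, 3]) (l := 1) (by constructor <;> decide +kernel)
    (cd_path (C := [1, 3, 2]) (by constructor <;> decide +kernel) cd_nil)))

theorem card_B_dvd : Nat.card ↥(RGD.B cs7 h7 T7 X7) ∣ 2 ^ 63 := by
  have h1 : RGD.B cs7 h7 T7 X7 = RGD.Sup X7 (RGD.Pos cs7 h7) := by
    show T7 ⊔ _ = _
    rw [T7_bot, bot_sup_eq]
  have h2 : IsPGroup 2 ↥(RGD.B cs7 h7 T7 X7) := by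
    rw [h1]
    exact R7.isPGroup_Upos
  obtain ⟨n, hn⟩ := (IsPGroup.iff_card (p := 2)).1 h2
  rw [hn]
  have h3 : 2 ^ n ∣ N7 := by
    rw [← hn, ← card_G7]
    exact Subgroup.card_subgroup_dvd_card _
  have h4 : N7 = 2 ^ 63 * (3 ^ 11 * 5 ^ 2 * 7 ^ 3 * 11 * 13 * 17 * 19 * 31 * 43 * 73 * 127) := by
    unfold N7; ring
  rw [h4] at h3
  refine Nat.Coprime.dvd_of_dvd_mul_right ?_ h3
  exact Nat.Coprime.pow_left _ (by decide +kernel)

/-- the odd parts of the orders -/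
def mm : Fin 6 → ℕ := ![3 ^ 8 * 5 ^ 2 * 7 ^ 2 * 11 * 17 * 31, 3 ^ 4 * 5 * 7 ^ 2 * 31 * 127, 3 ^ 5 * 5 * 7 ^ 2 * 31,
  3 ^ 4 * 5 * 7 ^ 2, 3 ^ 3 * 5 * 7 ^ 2 * 31, 3 ^ 6 * 5 ^ 2 * 7 * 17 * 31]

theorem card_P7_dvd (j : Fin 6) : Nat.card ↥(P7 (Fin.castSucc j)) ∣ 2 ^ 63 * mm j := by
  have key : ∀ (j : Fin 7) (N m : ℕ), Cd {i | i ≠ j} N → N = m → Nat.card ↥(P7 j) ∣ 2 ^ 63 * m := by
    intro j N m h1 h2
    unfold Cd at h1
    show Nat.card ↥(PJ cs7 h7 T7 X7 {i | i ≠ j}) ∣ _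
    rw [h1, h2, mul_comm]
    exact Nat.mul_dvd_mul card_B_dvd (dvd_refl m)
  fin_cases j
  · exact key 0 _ _ cd0 (by decide +kernel)
  · exact key 1 _ _ cd1 (by decide +kernel)
  · exact key 2 _ _ cd2 (by decide +kernel)
  · exact key 3 _ _ cd3 (by decide +kernel)
  · exact key 4 _ _ cd4 (by decide +kernel)
  · exact key 5 _ _ cd5 (by decide +kernel)

end Cfsg.Agent.R2.H27.Par
end

-- part: R2/H27/Util
section
/-!
# S5934, assembly: utilities (helper27)
-/

set_option autoImplicit false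

namespace Cfsg.Agent.R2.H27.Asm

open Subgroup
open scoped commutatorElement Pointwise

universe u

section Gen

variable {G : Type*} [Group G]

theorem simple_congr {A B : Type*} [Group A] [Group B] (e : A ≃* B) (h : IsSimpleGroup A) : IsSimpleGroup B :=
  (e.symm.isSimpleGroup)

theorem card_subgroupOf {X M : Subgroup G} (h : X ≤ M) : Nat.card ↥(X.subgroupOf M) = Nat.card ↥X :=
  Nat.card_congr (Subgroup.subgroupOfEquivOfLe h).toEquiv

theorem simple_subgroupOf {X M : Subgroup G} (h : X ≤ M) (hX : IsSimpleGroup ↥X) : IsSimpleGroup ↥(X.subgroupOf M) :=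
  simple_congr (Subgroup.subgroupOfEquivOfLe h).symm hX

theorem centralizer_subgroupOf {X M : Subgroup G} (h : X ≤ M) :
    centralizer ((X.subgroupOf M : Subgroup ↥M) : Set ↥M) = (centralizer (X : Set G)).subgroupOf M := by
  ext g
  rw [mem_centralizer_iff, mem_subgroupOf, mem_centralizer_iff]
  constructor
  · intro h1 x hx
    exact congrArg Subtype.val (h1 ⟨x, h hx⟩ hx)
  · intro h1 x hx
    exact Subtype.ext (h1 x hx)

theorem card_centralizer_dvd {X M : Subgroup G} (h : X ≤ M) :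
    Nat.card (centralizer ((X.subgroupOf M : Subgroup ↥M) : Set ↥M) : Subgroup ↥M) ∣
      Nat.card (centralizer (X : Set G) : Subgroup G) := by
  rw [centralizer_subgroupOf h]
  exact Subgroup.card_comap_dvd_of_injective _ M.subtype M.subtype_injective

theorem perfect_subgroupOf {X M : Subgroup G} (h : X ≤ M) (hX : ⁅X, X⁆ = X) :
    ⁅X.subgroupOf M, X.subgroupOf M⁆ = X.subgroupOf M := by
  apply Subgroup.map_injective M.subtype_injective
  rw [Subgroup.map_commutator, Subgroup.subgroupOf_map_subtype, inf_eq_left.2 h, hX]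

noncomputable def centerCongr {A B : Type*} [Group A] [Group B] (e : A ≃* B) :
    (A ⧸ center A) ≃* (B ⧸ center B) :=
  QuotientGroup.congr (center A) (center B) e (by
    ext b
    constructor
    · rintro ⟨a, ha, rfl⟩
      rw [Subgroup.mem_center_iff]
      intro g
      obtain ⟨g', rfl⟩ := e.surjective g
      show e g' * e a = e a * e g'
      rw [← map_mul, ← map_mul, (Subgroup.mem_center_iff.1 ha) g']
    · intro hb
      refine ⟨e.symm b, ?_, by simp⟩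
      show e.symm b ∈ center A
      rw [Subgroup.mem_center_iff]
      intro g
      apply e.injective
      rw [map_mul, map_mul, e.apply_symm_apply]
      exact (Subgroup.mem_center_iff.1 hb) (e g))

theorem card_center_congr {A B : Type*} [Group A] [Group B] (e : A ≃* B) :
    Nat.card ↥(center A) = Nat.card ↥(center B) := by
  refine Nat.card_congr (Subgroup.centerCongr e).toEquiv

theorem quasi_subgroupOf {X M : Subgroup G} (h : X ≤ M) (hX : IsSimpleGroup (↥X ⧸ center ↥X)) :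
    IsSimpleGroup (↥(X.subgroupOf M) ⧸ center ↥(X.subgroupOf M)) :=
  simple_congr (centerCongr (Subgroup.subgroupOfEquivOfLe h).symm) hX

theorem card_center_subgroupOf {X M : Subgroup G} (h : X ≤ M) :
    Nat.card ↥(center ↥(X.subgroupOf M)) = Nat.card ↥(center ↥X) :=
  card_center_congr (Subgroup.subgroupOfEquivOfLe h)

theorem dvd_card_of_le {X M : Subgroup G} (h : X ≤ M) : Nat.card ↥X ∣ Nat.card ↥M := Subgroup.card_dvd_of_le h

/-- commuting subgroups with trivial intersection -/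
theorem card_sup_comm {X Y : Subgroup G} (hc : Y ≤ centralizer (X : Set G)) (hd : X ⊓ Y = ⊥) :
    Nat.card ↥(X ⊔ Y : Subgroup G) = Nat.card ↥X * Nat.card ↥Y := by
  have h1 : ∀ x ∈ X, ∀ y ∈ Y, x * y = y * x := fun x hx y hy => (mem_centralizer_iff.1 (hc hy)) x hx
  have h2 : Y ≤ normalizer (X : Set G) := le_trans hc (Subgroup.centralizer_le_normalizer _)
  have h3 : ((X ⊔ Y : Subgroup G) : Set G) = (X : Set G) * Y := by
    rw [Subgroup.coe_mul_of_right_le_normalizer_left _ _ h2]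
  refine (Nat.card_congr (Equiv.ofBijective (fun p : ↥X × ↥Y => (⟨p.1.1 * p.2.1,
    mul_mem (le_sup_left (a := X) p.1.2) (le_sup_right (a := X) p.2.2)⟩ : ↥(X ⊔ Y : Subgroup G))) ⟨?_, ?_⟩)).symm.trans
    (Nat.card_prod _ _)
  · rintro ⟨a, b⟩ ⟨c, d⟩ he
    have he' : (a : G) * b = c * d := congrArg Subtype.val he
    have h4 : (c : G)⁻¹ * a = d * (b : G)⁻¹ := by
      rw [inv_mul_eq_iff_eq_mul, ← mul_assoc, ← he', mul_assoc, mul_inv_cancel, mul_one]
    have h5 : (c : G)⁻¹ * a ∈ X ⊓ Y := by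
      refine ⟨X.mul_mem (X.inv_mem c.2) a.2, ?_⟩
      rw [h4]
      exact Y.mul_mem d.2 (Y.inv_mem b.2)
    rw [hd, mem_bot] at h5
    have h6 : (a : G) = c := by rw [← mul_one (c : G), ← h5]; group
    have h7 : (b : G) = d := by
      rw [h6] at he'
      exact mul_left_cancel he'
    exact Prod.ext (Subtype.ext h6) (Subtype.ext h7)
  · rintro ⟨g, hg⟩
    have hg' : g ∈ ((X ⊔ Y : Subgroup G) : Set G) := hg
    rw [h3, Set.mem_mul] at hg'
    obtain ⟨x, hx, y, hy, rfl⟩ := hg'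
    exact ⟨(⟨x, hx⟩, ⟨y, hy⟩), rfl⟩

theorem inf_centralizer_bot {X : Subgroup G} (hX : IsSimpleGroup ↥X) (hn : ¬ ∀ a b : ↥X, a * b = b * a) :
    X ⊓ centralizer (X : Set G) = ⊥ := by
  have h1 : center ↥X = ⊥ := by
    rcases (inferInstance : (center ↥X).Normal).eq_bot_or_eq_top with h | h
    · exact h
    · exfalso
      apply hn
      intro a b
      have : b ∈ center ↥X := by rw [h]; exact mem_top _
      exact (Subgroup.mem_center_iff.1 this) a
  rw [eq_bot_iff]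
  rintro x ⟨hx, hc⟩
  have h2 : (⟨x, hx⟩ : ↥X) ∈ center ↥X := by
    rw [Subgroup.mem_center_iff]
    intro g
    exact Subtype.ext (mem_centralizer_iff.1 hc g g.2)
  rw [h1, mem_bot] at h2
  exact congrArg Subtype.val h2

/-- a simple group of composite order is not abelian -/
theorem not_comm_of_card {X : Type*} [Group X] [Finite X] (hX : IsSimpleGroup X) {a b : ℕ} (ha : a.Prime) (hb : b.Prime)
    (hab : a ≠ b) (h1 : a ∣ Nat.card X) (h2 : b ∣ Nat.card X) : ¬ ∀ x y : X, x * y = y * x := by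
  intro hc
  letI : CommGroup X := { (inferInstance : Group X) with mul_comm := hc }
  have h3 : (Nat.card X).Prime := by
    have := IsSimpleGroup.prime_card (α := X)
    exact this
  rw [Nat.prime_dvd_prime_iff_eq ha h3] at h1
  rw [Nat.prime_dvd_prime_iff_eq hb h3] at h2
  exact hab (h1.trans h2.symm)

/-- two normal subgroups, one of them simple and not a `p`-group -/
theorem pCore_le_centralizer {M : Type*} [Group M] [Finite M] {p : ℕ} [hp : Fact p.Prime] {X : Subgroup M}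
    (hX : IsSimpleGroup ↥X) (hn : X.Normal) {q : ℕ} (hq : q.Prime) (hqp : q ≠ p) (hqX : q ∣ Nat.card ↥X) :
    Cfsg.pCore p M ≤ centralizer (X : Set M) := by
  have h1 : (Cfsg.pCore p M).Normal := Cfsg.Agent.Lib.Cores.pCore_normal p
  have h2 : Cfsg.pCore p M ⊓ X = ⊥ := by
    have h3 : ((Cfsg.pCore p M).subgroupOf X).Normal := inferInstance
    rcases h3.eq_bot_or_eq_top with h | h
    · rw [Subgroup.subgroupOf_eq_bot] at h
      exact h.eq_bot
    · exfalso
      rw [Subgroup.subgroupOf_eq_top] at h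
      have h4 : IsPGroup p ↥X := (Cfsg.Agent.Lib.Cores.pCore_isPGroup p).to_le h
      obtain ⟨n, hn'⟩ := (IsPGroup.iff_card (p := p)).1 h4
      rw [hn'] at hqX
      exact hqp ((Nat.prime_dvd_prime_iff_eq hq hp.out).1 (hq.dvd_of_dvd_pow hqX))
  intro x hx
  rw [mem_centralizer_iff]
  intro y hy
  have h5 : ⁅x, y⁆ ∈ Cfsg.pCore p M ⊓ X := by
    refine ⟨?_, ?_⟩
    · have := mul_mem hx (h1.conj_mem _ (inv_mem hx) y)
      have e : ⁅x, y⁆ = x * (y * x⁻¹ * y⁻¹) := by rw [commutatorElement_def]; group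
      rw [e]; exact this
    · rw [commutatorElement_def]
      exact X.mul_mem (hn.conj_mem _ hy x) (X.inv_mem hy)
  rw [h2, mem_bot, commutatorElement_eq_one_iff_mul_comm] at h5
  exact h5.symm

theorem exists_orderOf {X : Type*} [Group X] [Finite X] {q : ℕ} (hq : q.Prime) (h : q ∣ Nat.card X) :
    ∃ x : X, orderOf x = q := by
  haveI := Fact.mk hq
  exact exists_prime_orderOf_dvd_card' q h

end Gen

/-! ### `G7` -/

theorem simple_G7 : IsSimpleGroup G7 := (Cfsg.Agent.S1054.result (F := ZMod 2) Cfsg.Lie.chevE7 (by simp)).1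

theorem exists_max {K : Subgroup G7} (h1 : K ≠ ⊥) (h2 : K ≠ ⊤) :
    ∃ M : Subgroup G7, IsCoatom M ∧ normalizer (K : Set G7) ≤ M := by
  have hs := simple_G7
  have h3 : normalizer (K : Set G7) ≠ ⊤ := by
    intro h
    have h4 : K.Normal := Subgroup.normalizer_eq_top_iff.1 h
    rcases h4.eq_bot_or_eq_top with h5 | h5
    · exact h1 h5
    · exact h2 h5
  obtain h | h := eq_top_or_exists_le_coatom (normalizer (K : Set G7))
  · exact absurd h h3
  · exact h

/-- similarity of subgroups -/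
def Sim {G : Type*} [Group G] (M M' : Subgroup G) : Prop := ∃ g : G, M.map (MulAut.conj g).toMonoidHom = M'

/-- order of `O₃` -/
noncomputable def pc {G : Type*} [Group G] (M : Subgroup G) : ℕ := Nat.card ↥(Cfsg.pCore 3 ↥M)

theorem card_pCore_congr {A B : Type*} [Group A] [Group B] (e : A ≃* B) (p : ℕ) :
    Nat.card ↥(Cfsg.pCore p A) = Nat.card ↥(Cfsg.pCore p B) := by
  have h1 := Cfsg.Agent.Lib.Cores.map_equiv_pCore e p
  have h2 : Nat.card ↥(Cfsg.pCore p A) = Nat.card ↥((Cfsg.pCore p A).map e.toMonoidHom) :=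
    Nat.card_congr ((Cfsg.pCore p A).equivMapOfInjective e.toMonoidHom e.injective).toEquiv
  rw [h2, h1]

section SimG

variable {G : Type*} [Group G]

theorem Sim.symm {M M' : Subgroup G} (h : Sim M M') : Sim M' M := by
  obtain ⟨g, rfl⟩ := h
  refine ⟨g⁻¹, ?_⟩
  rw [Subgroup.map_map]
  have h3 : (MulAut.conj g⁻¹).toMonoidHom.comp (MulAut.conj g).toMonoidHom = MonoidHom.id G := by
    ext x
    simp only [mul_assoc, _root_.map_inv, _root_.MulEquiv.toMonoidHom_eq_coe, _root_.MonoidHom.coe_comp, _root_.MonoidHom.coe_coe, _root_.MulAut.coe_inv, _root_.Function.comp_apply, _root_.MulAut.conj_apply, _root_.MulAut.conj_symm_apply, _root_.inv_mul_cancel_left, _root_.inv_mul_cancel, _root_.mul_one, _root_.MonoidHom.id_apply]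
  rw [h3, Subgroup.map_id]

theorem Sim.equiv {M M' : Subgroup G} (h : Sim M M') : Nonempty (↥M ≃* ↥M') := by
  obtain ⟨g, rfl⟩ := h
  exact ⟨M.equivMapOfInjective _ (MulAut.conj g).injective⟩

theorem Sim.card {M M' : Subgroup G} (h : Sim M M') : Nat.card ↥M = Nat.card ↥M' := by
  obtain ⟨e⟩ := h.equiv
  exact Nat.card_congr e.toEquiv

theorem Sim.pc {M M' : Subgroup G} (h : Sim M M') : pc M = pc M' := by
  obtain ⟨e⟩ := h.equiv
  exact card_pCore_congr e 3

theorem Sim.conj (M : Subgroup G) (g : G) : Sim M (M.map (MulAut.conj g).toMonoidHom) := ⟨g, rfl⟩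

end SimG

/-- homomorphism with kernel a `2`-group -/
def HasHom (P E : Type*) [Group P] [Group E] : Prop := ∃ f : P →* E, IsPGroup 2 ↥f.ker

/-- box P6 -/
def BoxP6 : Prop := HasHom ↥(Par.P7 6) ↥(Cfsg.Lie.chevE6.group (ZMod 2))

/-- non-parabolic maximal subgroups -/
structure NP (M : Subgroup G7) : Prop where
  co : IsCoatom M
  np : ∀ j, ¬ Sim (Par.P7 j) M

theorem card_G7 : Nat.card G7 = N7 := Par.card_G7

theorem NP.core {M : Subgroup G7} (h : NP M) : Cfsg.pCore 2 ↥M = ⊥ := by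
  by_contra hne
  obtain ⟨j, g, hg⟩ := Par.borelTits h.co hne
  exact h.np j ⟨g, hg.symm⟩

theorem NP.ctx {M : Subgroup G7} (h : NP M) (h0 : BoxX0) : Ctx ↥M :=
  { h0 M with
    core := h.core
    ne := fun he => h.co.1 (Subgroup.eq_top_of_card_eq M (he.trans card_G7.symm)) }

theorem card_E6 : Nat.card ↥(Cfsg.Lie.chevE6.group (ZMod 2)) = oE6 := by
  have h1 := Cfsg.Agent.S1063.result (F := ZMod 2) (q := 2) (by simp [ZMod.card])
  have h2 : Nat.gcd 3 (2 - 1) = 1 := by decide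
  rw [h2, one_mul] at h1
  rw [h1]
  unfold oE6
  norm_num

end Cfsg.Agent.R2.H27.Asm
end

-- part: R2/H27/Np
section
/-!
# S5934, assembly: non-parabolic maximal subgroups (helper27)
-/

set_option autoImplicit false

namespace Cfsg.Agent.R2.H27.Asm

open Subgroup
open scoped commutatorElement Pointwise

section Gen

variable {G : Type*} [Group G]

theorem hom_of_quot {P : Type*} [Group P] {V : Subgroup P} (hn : V.Normal) (hV : IsPGroup 2 ↥V)
    {E : Type*} [Group E] (e : (P ⧸ V) ≃* E) : HasHom P E := by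
  refine ⟨e.toMonoidHom.comp (QuotientGroup.mk' V), ?_⟩
  have h1 : (e.toMonoidHom.comp (QuotientGroup.mk' V)).ker = V := by
    ext x
    rw [MonoidHom.mem_ker, MonoidHom.comp_apply]
    constructor
    · intro h
      have h2 : (QuotientGroup.mk' V) x = 1 := e.injective (h.trans (map_one e).symm)
      rw [← QuotientGroup.ker_mk' V, MonoidHom.mem_ker]
      exact h2
    · intro h
      have h2 : (QuotientGroup.mk' V) x = 1 := by
        rw [← MonoidHom.mem_ker, QuotientGroup.ker_mk' V]; exact h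
      rw [h2, map_one]
  rw [h1]
  exact hV

theorem HasHom.congr {P M E : Type*} [Group P] [Group M] [Group E] (h : HasHom P E) (d : M ≃* P) :
    HasHom M E := by
  obtain ⟨f, hf⟩ := h
  refine ⟨f.comp d.toMonoidHom, ?_⟩
  rintro ⟨x, hx⟩
  rw [MonoidHom.mem_ker] at hx
  have h2 : d x ∈ f.ker := by
    rw [MonoidHom.mem_ker]
    exact hx
  obtain ⟨k, hk⟩ := hf ⟨d x, h2⟩
  refine ⟨k, ?_⟩
  apply Subtype.ext
  apply d.injective
  have h3 : (d x) ^ 2 ^ k = 1 := congrArg Subtype.val hk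
  show d (x ^ 2 ^ k) = d 1
  rw [map_pow, h3, map_one]

theorem hom_of_sim {P M : Subgroup G} (h : Sim P M) {E : Type*} [Group E] (e : HasHom ↥P E) : HasHom ↥M E := by
  obtain ⟨d⟩ := h.symm.equiv
  exact e.congr d

theorem HasHom.card_dvd {P E : Type*} [Group P] [Finite P] [Group E] (h : HasHom P E) {n : ℕ}
    (hn : Nat.card E ∣ n) : ∃ k, Nat.card P ∣ 2 ^ k * n := by
  obtain ⟨f, hf⟩ := h
  have h2 : Nat.card ↥f.ker * Nat.card ↥f.range = Nat.card P := by
    rw [← Subgroup.index_ker f]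
    exact f.ker.card_mul_index
  haveI := Fact.mk Nat.prime_two
  obtain ⟨k, hk⟩ := (IsPGroup.iff_card (p := 2)).1 hf
  refine ⟨k, ?_⟩
  rw [← h2, hk]
  exact Nat.mul_dvd_mul (dvd_refl _) ((Subgroup.card_subgroup_dvd_card _).trans hn)

theorem HasHom.orderOf_mem {G E : Type*} [Group G] [Group E] {M : Subgroup G} (h : HasHom ↥M E) {z : G} (hz : z ∈ M)
    (ho : Odd (orderOf z)) : ∃ x : E, orderOf x = orderOf z := by
  obtain ⟨f, hf⟩ := h
  refine ⟨f ⟨z, hz⟩, ?_⟩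
  apply Nat.dvd_antisymm
  · have h1 := orderOf_map_dvd f ⟨z, hz⟩
    rwa [Subgroup.orderOf_mk] at h1
  · rw [orderOf_dvd_iff_pow_eq_one]
    have h1 : (⟨z, hz⟩ : ↥M) ^ orderOf (f ⟨z, hz⟩) ∈ f.ker := by
      rw [MonoidHom.mem_ker, map_pow, pow_orderOf_eq_one]
    obtain ⟨k, hk⟩ := hf ⟨_, h1⟩
    have h2 : (z ^ orderOf (f ⟨z, hz⟩)) ^ 2 ^ k = 1 := congrArg (fun x => ((x : ↥f.ker) : ↥M).1) hk
    have h3 : orderOf (z ^ orderOf (f ⟨z, hz⟩)) ∣ 2 ^ k := orderOf_dvd_of_pow_eq_one h2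
    have h4 : orderOf (z ^ orderOf (f ⟨z, hz⟩)) ∣ orderOf z := orderOf_pow_dvd _
    have h5 : Nat.Coprime (2 ^ k) (orderOf z) := Nat.Coprime.pow_left _ (Nat.coprime_two_left.2 ho)
    have h6 := Nat.Coprime.eq_one_of_dvd (Nat.Coprime.coprime_dvd_right h4 h5).symm h3
    exact orderOf_eq_one_iff.1 h6

theorem card_of_inf_ker {M E : Type*} [Group M] [Group E] {f : M →* E} {H : Subgroup M}
    (h : H ⊓ f.ker = ⊥) : Nat.card ↥H ∣ Nat.card E := by
  refine Subgroup.card_dvd_of_injective (f.comp H.subtype) ?_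
  rw [← MonoidHom.ker_eq_bot_iff, eq_bot_iff]
  rintro ⟨x, hx⟩ h1
  have h2 : x ∈ H ⊓ f.ker := ⟨hx, h1⟩
  rw [h, mem_bot] at h2
  exact Subtype.ext h2

/-- a simple subgroup normalised by `H`, and a normal `2`-subgroup of `H` -/
theorem inf_ker_le {M E : Type*} [Group M] [Finite M] [Group E] {f : M →* E} (hf : IsPGroup 2 ↥f.ker)
    {X H : Subgroup M} (hX : IsSimpleGroup ↥X) (hXH : X ≤ H) (hn : H ≤ normalizer (X : Set M)) {q : ℕ}
    (hq : q.Prime) (hq2 : q ≠ 2) (hqX : q ∣ Nat.card ↥X) : H ⊓ f.ker ≤ centralizer (X : Set M) := by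
  have h2 : f.ker ⊓ X = ⊥ := by
    have h3 : (f.ker.subgroupOf X).Normal := inferInstance
    rcases h3.eq_bot_or_eq_top with h | h
    · rw [Subgroup.subgroupOf_eq_bot] at h
      exact h.eq_bot
    · exfalso
      rw [Subgroup.subgroupOf_eq_top] at h
      have h4 : IsPGroup 2 ↥X := hf.to_le h
      haveI := Fact.mk Nat.prime_two
      obtain ⟨n, hn'⟩ := (IsPGroup.iff_card (p := 2)).1 h4
      rw [hn'] at hqX
      exact hq2 ((Nat.prime_dvd_prime_iff_eq hq Nat.prime_two).1 (hq.dvd_of_dvd_pow hqX))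
  rintro x ⟨hx, hk⟩
  rw [mem_centralizer_iff]
  intro y hy
  have h5 : ⁅x, y⁆ ∈ f.ker ⊓ X := by
    refine ⟨?_, ?_⟩
    · have hk' : f x = 1 := hk
      show f ⁅x, y⁆ = 1
      rw [map_commutatorElement, hk']
      simp
    · rw [commutatorElement_def]
      exact X.mul_mem (((Subgroup.mem_normalizer_iff.1 (hn hx)) y).1 hy) (X.inv_mem hy)
  rw [h2, mem_bot, commutatorElement_eq_one_iff_mul_comm] at h5
  exact h5.symm

/-- commuting elements of coprime orders -/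
theorem exists_orderOf_mul {X Y : Subgroup G} (hc : Y ≤ centralizer (X : Set G)) {m n : ℕ}
    (hmn : Nat.Coprime m n) (hx : ∃ x : ↥X, orderOf x = m) (hy : ∃ y : ↥Y, orderOf y = n) :
    ∃ z ∈ X ⊔ Y, orderOf z = m * n := by
  obtain ⟨x, rfl⟩ := hx
  obtain ⟨y, rfl⟩ := hy
  refine ⟨x * y, mul_mem (le_sup_left (a := X) x.2) (le_sup_right (a := X) y.2), ?_⟩
  have h1 : Commute (x : G) y := mem_centralizer_iff.1 (hc y.2) x x.2
  rw [← Subgroup.orderOf_coe, ← Subgroup.orderOf_coe] at hmn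
  rw [h1.orderOf_mul_eq_mul_orderOf_of_coprime hmn, Subgroup.orderOf_coe, Subgroup.orderOf_coe]

end Gen

/-! ### orders of the parabolics -/

/-- the odd parts -/
def mm7 : Fin 7 → ℕ := ![3 ^ 8 * 5 ^ 2 * 7 ^ 2 * 11 * 17 * 31, 3 ^ 4 * 5 * 7 ^ 2 * 31 * 127, 3 ^ 5 * 5 * 7 ^ 2 * 31,
  3 ^ 4 * 5 * 7 ^ 2, 3 ^ 3 * 5 * 7 ^ 2 * 31, 3 ^ 6 * 5 ^ 2 * 7 * 17 * 31, 3 ^ 6 * 5 ^ 2 * 7 ^ 3 * 13 * 17 * 31 * 73]

theorem card_P6 (h : BoxP6) : Nat.card ↥(Par.P7 6) ∣ 2 ^ 63 * mm7 6 := by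
  obtain ⟨k, hk⟩ := HasHom.card_dvd h (n := 2 ^ 36 * mm7 6) (by rw [card_E6]; decide +kernel)
  have h5 : Nat.card ↥(Par.P7 6) ∣ N7 := by
    rw [← card_G7]; exact Subgroup.card_subgroup_dvd_card _
  refine (Nat.dvd_gcd hk h5).trans ?_
  have h7 : N7 = 2 ^ 63 * (3 ^ 11 * 5 ^ 2 * 7 ^ 3 * 11 * 13 * 17 * 19 * 31 * 43 * 73 * 127) := by
    unfold N7; ring
  rw [← mul_assoc, ← pow_add, h7]
  have h8 : Nat.Coprime (2 ^ (k + 36)) (3 ^ 11 * 5 ^ 2 * 7 ^ 3 * 11 * 13 * 17 * 19 * 31 * 43 * 73 * 127) :=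
    Nat.Coprime.pow_left _ (by decide +kernel)
  refine (Nat.gcd_mul_right_dvd_mul_gcd _ _ _).trans ?_
  refine Nat.mul_dvd_mul (Nat.gcd_dvd_right _ _) ?_
  rw [Nat.Coprime.gcd_mul_left_cancel _ h8]
  exact Nat.gcd_dvd_left _ _

theorem mm_eq : ∀ j : Fin 6, Par.mm j = mm7 (Fin.castSucc j) := by decide +kernel

theorem card_P7 (h : BoxP6) (j : Fin 7) : Nat.card ↥(Par.P7 j) ∣ 2 ^ 63 * mm7 j := by
  induction j using Fin.lastCases with
  | last => exact card_P6 h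
  | cast j =>
    have h1 := Par.card_P7_dvd j
    rw [← mm_eq]; exact h1

/-- not parabolic, by orders -/
theorem notSim (h : BoxP6) {M : Subgroup G7} {lo : ℕ} (hlo : lo ∣ Nat.card ↥M) {j : Fin 7}
    (hj : ¬ lo ∣ 2 ^ 63 * mm7 j) : ¬ Sim (Par.P7 j) M := by
  intro hs
  apply hj
  have h1 := card_P7 h j
  rw [hs.card] at h1
  exact hlo.trans h1

/-- elements of order 117, 217 -/
theorem notSim6 (h : BoxP6) (h2 : BoxX2) {M : Subgroup G7} {z : G7} (hz : z ∈ M)
    (ho : orderOf z = 117 ∨ orderOf z = 217) : ¬ Sim (Par.P7 6) M := by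
  intro hs
  have h1 : HasHom ↥M ↥(Cfsg.Lie.chevE6.group (ZMod 2)) := hom_of_sim hs h
  obtain ⟨x, hx⟩ := HasHom.orderOf_mem h1 hz (by rcases ho with h | h <;> rw [h] <;> decide)
  rcases ho with h | h
  · exact (h2 x).1 (hx.trans h)
  · exact (h2 x).2 (hx.trans h)

end Cfsg.Agent.R2.H27.Asm
end
end

-- part: R2/H27/ClsC_mg
section
prune_inst 0x142009044400020000000002800020002a0000000043000000200000000804600000ae00082000020022000400300060000000100000000000000000011800801020100001000000000008800000000000000000000000000000000000000000000000000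
set_option linter.all false
open scoped Cfsg.Agent.FastGrp

-- part: R2/H27/ClsA
section
/-!
# S5934, assembly: the classes 1 - 6 (helper27)
-/

set_option autoImplicit false

namespace Cfsg.Agent.R2.H27.Asm

open Subgroup
open scoped commutatorElement Pointwise

/-- lower bounds -/
def lo : Fin 12 → ℕ := ![2 * oE6, 3 * oTE6, 6 * oO12, oL8, oU8, oL6 * oL3, 2 ^ 15 * 3 ^ 10 * 5 * 7 * 11,
  2 ^ 12 * 3 ^ 9 * 5 ^ 2 * 7, oTD4 * oL2e, oL128, 3 ^ 7 * oS6, oS6 * oG2]

/-- upper bounds -/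
def up : Fin 12 → ℕ := ![2 * oE6, 54 * oTE6, 12 * oO12, 2 * oL8, 2 * oU8, 4 * oL6 * oL3, N7,
  N7, 2 ^ 63 * 3 ^ 11 * 7 ^ 3 * 11 * 13 * 17 * 19 * 31 * 43 * 73, 7 * oL128, N7, N7]

/-- a class -/
structure Cls (i : Fin 12) (M : Subgroup G7) : Prop where
  np : NP M
  lo : lo i ∣ Nat.card ↥M
  up : Nat.card ↥M ∣ up i

theorem card_ne_one_of {K : Subgroup G7} {n : ℕ} (hn : Nat.card ↥K = n) (h1 : n ≠ 1) : K ≠ ⊥ := by
  rintro rfl
  rw [Subgroup.card_bot] at hn
  exact h1 hn.symm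

theorem exists_max' {K : Subgroup G7} {n : ℕ} (hn : Nat.card ↥K = n) (h1 : n ≠ 1) (h2 : n ≠ N7) :
    ∃ M : Subgroup G7, IsCoatom M ∧ normalizer (K : Set G7) ≤ M := by
  refine exists_max (card_ne_one_of hn h1) ?_
  rintro rfl
  rw [Subgroup.card_top, card_G7] at hn
  exact h2 hn.symm

theorem np_of (hP : BoxP6) {M : Subgroup G7} (hM : IsCoatom M) {lo : ℕ} (hlo : lo ∣ Nat.card ↥M)
    (h : ∀ j : Fin 7, lo ∣ 2 ^ 63 * mm7 j → ¬ Sim (Par.P7 j) M) : NP M := by
  refine ⟨hM, fun j => ?_⟩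
  by_cases hj : lo ∣ 2 ^ 63 * mm7 j
  · exact h j hj
  · exact notSim hP hlo hj

theorem simple_E6 : IsSimpleGroup ↥(Cfsg.Lie.chevE6.group (ZMod 2)) :=
  (Cfsg.Agent.S1054.result (F := ZMod 2) Cfsg.Lie.chevE6 (by simp)).1

theorem centralizer_singleton_of {G : Type*} [Group G] {X H : Subgroup G} (h : H ≤ centralizer (X : Set G)) {x : G}
    (hx : x ∈ X) : H ≤ centralizer {x} :=
  h.trans (Subgroup.centralizer_le (Set.singleton_subset_iff.2 hx))

theorem bot_of_card_dvd {G : Type*} [Group G] [Finite G] {H : Subgroup G} (h2 : IsPGroup 2 ↥H) {q : ℕ} (hq : Odd q)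
    (hd : Nat.card ↥H ∣ q) : H = ⊥ := by
  have : Fact (Nat.Prime 2) := ⟨Nat.prime_two⟩
  obtain ⟨k, hk⟩ := (IsPGroup.iff_card (p := 2)).1 h2
  rw [hk] at hd
  have h5 : Nat.Coprime (2 ^ k) q := Nat.Coprime.pow_left _ (Nat.coprime_two_left.2 hq)
  have h6 := Nat.Coprime.eq_one_of_dvd h5 hd
  rw [h6] at hk
  exact Subgroup.eq_bot_of_card_eq _ hk

theorem inf_centralizer_bot' {G : Type*} [Group G] {X : Subgroup G} [Finite ↥X] (hX : IsSimpleGroup ↥X) {a b : ℕ}
    (ha : a.Prime) (hb : b.Prime) (hab : a ≠ b) (h1 : a ∣ Nat.card ↥X) (h2 : b ∣ Nat.card ↥X) :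
    X ⊓ centralizer (X : Set G) = ⊥ :=
  inf_centralizer_bot hX (not_comm_of_card hX ha hb hab h1 h2)

theorem simple_card_of_equiv {G H : Type*} [Group G] [Group H] {X : Subgroup G} {Y : Subgroup H}
    (e : Nonempty (↥X ≃* ↥Y)) {n : ℕ} (hs : IsSimpleGroup ↥Y) (hn : Nat.card ↥Y = n) :
    IsSimpleGroup ↥X ∧ Nat.card ↥X = n := by
  obtain ⟨e⟩ := e
  exact ⟨simple_congr e.symm hs, (Nat.card_congr e.toEquiv).trans hn⟩

/-! ### class 1 -/

theorem cls1_aux {M E : Type*} [Group M] [Finite M] [Group E] {X H : Subgroup M} (hX : IsSimpleGroup ↥X) {q : ℕ}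
    (hq : q.Prime) (hq2 : q ≠ 2) (hqX : q ∣ Nat.card ↥X) (hn : H ≤ normalizer (X : Set M))
    (hc : ∀ z : M, orderOf z = q → Nat.card (centralizer {z} : Subgroup M) ∣ q) (h : HasHom M E) :
    Nat.card ↥H ∣ Nat.card E := by
  obtain ⟨f, hf⟩ := h
  apply card_of_inf_ker (f := f)
  have h1 : H ⊓ f.ker ≤ centralizer (X : Set M) := by
    have := inf_ker_le (H := H ⊔ X) hf hX le_sup_right (sup_le hn Subgroup.le_normalizer) hq hq2 hqX
    exact (inf_le_inf_right _ le_sup_left).trans this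
  obtain ⟨z, hz⟩ := exists_orderOf hq hqX
  have h2 : H ⊓ f.ker ≤ centralizer {(z : M)} := centralizer_singleton_of h1 z.2
  have h3 := hc z (by rw [Subgroup.orderOf_coe]; exact hz)
  exact bot_of_card_dvd (hf.to_le inf_le_right) (hq.odd_of_ne_two hq2) ((dvd_card_of_le h2).trans h3)

theorem cls1 (h0 : BoxX0) (hP : BoxP6) (hS : BoxS1) (hF : BoxF1) : ∃ M : Subgroup G7, Cls 0 M := by
  obtain ⟨X, H, e, hXH, hHn, hH⟩ := hS
  obtain ⟨hX, hXc⟩ := simple_card_of_equiv e simple_E6 card_E6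
  obtain ⟨M, hM, hle⟩ := exists_max' hXc (by decide +kernel) (by decide +kernel)
  have hHM : H ≤ M := hHn.trans hle
  have hXM : X ≤ M := hXH.trans hHM
  have hHc : Nat.card ↥H = 2 * oE6 := by rw [hH, hXc]
  have hlo : 2 * oE6 ∣ Nat.card ↥M := hHc ▸ dvd_card_of_le hHM
  have hnp : NP M := by
    refine np_of hP hM hlo ?_
    have key : ∀ j : Fin 7, 2 * oE6 ∣ 2 ^ 63 * mm7 j → j = 6 := by decide +kernel
    intro j hj hs
    obtain rfl := key j hj
    have h1 : HasHom ↥M ↥(Cfsg.Lie.chevE6.group (ZMod 2)) := hom_of_sim hs hP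
    have h2 := cls1_aux (X := X.subgroupOf M) (H := H.subgroupOf M) (q := 73) (simple_subgroupOf hXM hX) (by norm_num)
      (by norm_num) (by rw [card_subgroupOf hXM, hXc]; decide +kernel)
      (by
        intro x hx
        rw [Subgroup.mem_normalizer_iff]
        intro y
        exact (Subgroup.mem_normalizer_iff.1 (hHn hx)) y) (h0 M).c73 h1
    rw [card_subgroupOf hHM, hHc, card_E6] at h2
    revert h2
    decide +kernel
  have h1 := hF ↥M (hnp.ctx h0) (X.subgroupOf M) (simple_subgroupOf hXM hX) (by rw [card_subgroupOf hXM, hXc])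
  exact ⟨M, hnp, hlo, h1.2⟩

/-! ### class 2 -/

/-- `O₃(M) ≠ 1` if there is a normal subgroup `K` whose `O₃` is not trivial -/
theorem pCore_ne_bot {M : Type*} [Group M] {p : ℕ} {K : Subgroup M} (hn : K.Normal) (hK : IsPGroup p ↥K)
    (h : K ≠ ⊥) : Cfsg.pCore p M ≠ ⊥ := by
  intro h1
  apply h
  rw [eq_bot_iff, ← h1]
  exact Cfsg.Agent.Lib.Cores.le_pCore hn hK

theorem center_map_normal {M : Type*} [Group M] {X : Subgroup M} (hn : X.Normal) :
    ((center ↥X).map X.subtype).Normal := inferInstance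

/-- the extra data of class 2 -/
def Ex2 (M : Subgroup G7) : Prop := ∃ X : Subgroup G7, X ≤ M ∧ M ≤ normalizer (X : Set G7) ∧
  Nat.card ↥X = 3 * oTE6 ∧ Nat.card ↥(center ↥X) = 3

theorem le_normalizer_of_normal {G : Type*} [Group G] {X M : Subgroup G} (hXM : X ≤ M) (h : (X.subgroupOf M).Normal) :
    M ≤ normalizer (X : Set G) := by
  exact (Subgroup.normal_subgroupOf_iff_le_normalizer hXM).1 h

theorem cls2 (h0 : BoxX0) (hP : BoxP6) (hT : BoxT2) (hF : BoxF2) :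
    ∃ M : Subgroup G7, Cls 1 M ∧ (pc M ≠ 1 ∧ pc M ∣ 9) ∧ Ex2 M := by
  obtain ⟨X, hXp, hXq, hXc, hXz⟩ := hT
  obtain ⟨M, hM, hle⟩ := exists_max' hXc (by decide +kernel) (by decide +kernel)
  have hXM : X ≤ M := Subgroup.le_normalizer.trans hle
  have hlo : 3 * oTE6 ∣ Nat.card ↥M := hXc ▸ dvd_card_of_le hXM
  have hnp : NP M := by
    refine np_of hP hM hlo ?_
    have key : ∀ j : Fin 7, ¬ 3 * oTE6 ∣ 2 ^ 63 * mm7 j := by decide +kernel
    intro j hj
    exact absurd hj (key j)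
  have h1 := hF ↥M (hnp.ctx h0) (X.subgroupOf M) (perfect_subgroupOf hXM hXp) (quasi_subgroupOf hXM hXq)
    (by rw [card_subgroupOf hXM, hXc]) (by rw [card_center_subgroupOf hXM, hXz])
  refine ⟨M, ⟨hnp, hlo, h1.2.1⟩, ⟨?_, h1.2.2⟩, X, hXM, le_normalizer_of_normal hXM h1.1, hXc, hXz⟩
  intro h2
  have h3 : Cfsg.pCore 3 ↥M = ⊥ := Subgroup.eq_bot_of_card_eq _ h2
  have h4 := h1.1
  have h5 : Nat.card ↥((center ↥(X.subgroupOf M)).map (X.subgroupOf M).subtype) = 3 := by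
    rw [← card_center_subgroupOf hXM] at hXz
    rw [← hXz]
    exact (Nat.card_congr ((center ↥(X.subgroupOf M)).equivMapOfInjective _
      (X.subgroupOf M).subtype_injective).toEquiv).symm
  refine pCore_ne_bot (p := 3) (K := (center ↥(X.subgroupOf M)).map (X.subgroupOf M).subtype)
    (center_map_normal h4) ?_ ?_ h3
  · exact IsPGroup.of_card (n := 1) (by rw [h5, pow_one])
  · intro h6
    rw [h6, Subgroup.card_bot] at h5
    revert h5; decide

/-! ### class 3 -/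

/-- a group of order `6` -/
theorem pCore_of_six {C : Type*} [Group C] (h : Nat.card C = 6) : 3 ∣ Nat.card ↥(Cfsg.pCore 3 C) := by
  have : Finite C := Nat.finite_of_card_ne_zero (by rw [h]; norm_num)
  obtain ⟨x, hx⟩ := exists_orderOf (X := C) (q := 3) (by norm_num) (by rw [h]; norm_num)
  have h1 : Nat.card ↥(zpowers x) = 3 := by rw [Nat.card_zpowers, hx]
  have h2 : (zpowers x).index = 2 := by
    have := (zpowers x).card_mul_index
    rw [h1, h] at this
    omega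
  have h3 : (zpowers x).Normal := Subgroup.normal_of_index_eq_two h2
  have h4 : zpowers x ≤ Cfsg.pCore 3 C :=
    Cfsg.Agent.Lib.Cores.le_pCore h3 (IsPGroup.of_card (n := 1) (by rw [h1, pow_one]))
  have h5 := dvd_card_of_le h4
  rwa [h1] at h5

theorem pCore_normal_six {M : Type*} [Group M] [Finite M] {C : Subgroup M} (hn : C.Normal) (h : Nat.card ↥C = 6)
    (hle : Cfsg.pCore 3 M ≤ C) : Nat.card ↥(Cfsg.pCore 3 M) = 3 := by
  have h1 : (Cfsg.pCore 3 ↥C).map C.subtype ≤ Cfsg.pCore 3 M := by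
    have : (Cfsg.pCore 3 ↥C).Characteristic := Cfsg.Agent.Lib.Cores.pCore_characteristic 3
    exact Cfsg.Agent.Lib.Cores.le_pCore inferInstance ((Cfsg.Agent.Lib.Cores.pCore_isPGroup 3).map _)
  have h2 : Nat.card ↥((Cfsg.pCore 3 ↥C).map C.subtype) = Nat.card ↥(Cfsg.pCore 3 ↥C) :=
    (Nat.card_congr ((Cfsg.pCore 3 ↥C).equivMapOfInjective _ C.subtype_injective).toEquiv).symm
  have h3 : 3 ∣ Nat.card ↥(Cfsg.pCore 3 M) := by
    have := dvd_card_of_le h1
    rw [h2] at this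
    exact (pCore_of_six h).trans this
  have h4 : Nat.card ↥(Cfsg.pCore 3 M) ∣ 6 := h ▸ dvd_card_of_le hle
  have h5 : Fact (Nat.Prime 3) := ⟨Nat.prime_three⟩
  obtain ⟨k, hk⟩ := (IsPGroup.iff_card (p := 3)).1 (Cfsg.Agent.Lib.Cores.pCore_isPGroup (G := M) 3)
  rw [hk] at h3 h4 ⊢
  match k, h3, h4 with
  | 0, h3, _ => revert h3; decide
  | 1, _, _ => rfl
  | k + 2, _, h4 =>
    exfalso
    have h6 : (3 : ℕ) ^ 2 ∣ 6 := (pow_dvd_pow 3 (by omega)).trans h4
    revert h6; decide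

theorem cls3 (h0 : BoxX0) (hP : BoxP6) (hS : BoxS3) (hF : BoxF3) :
    ∃ M : Subgroup G7, Cls 2 M ∧ pc M = 3 := by
  obtain ⟨X, hX, hXc, hC⟩ := hS
  obtain ⟨M, hM, hle⟩ := exists_max' hXc (by decide +kernel) (by decide +kernel)
  have hXM : X ≤ M := Subgroup.le_normalizer.trans hle
  have hCM : centralizer (X : Set G7) ≤ M := (Subgroup.centralizer_le_normalizer _).trans hle
  have hd : X ⊓ centralizer (X : Set G7) = ⊥ := inf_centralizer_bot' hX
    (a := 3) (b := 5) (by norm_num) (by norm_num) (by norm_num)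
      (by rw [hXc]; decide +kernel) (by rw [hXc]; decide +kernel)
  have hlo : 6 * oO12 ∣ Nat.card ↥M := by
    have := dvd_card_of_le (sup_le hXM hCM)
    rw [card_sup_comm le_rfl hd, hXc, hC, mul_comm] at this
    exact this
  have hnp : NP M := by
    refine np_of hP hM hlo ?_
    have key : ∀ j : Fin 7, ¬ 6 * oO12 ∣ 2 ^ 63 * mm7 j := by decide +kernel
    intro j hj
    exact absurd hj (key j)
  have h1 := hF ↥M (hnp.ctx h0) (X.subgroupOf M) (simple_subgroupOf hXM hX) (by rw [card_subgroupOf hXM, hXc])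
  have h2 : Nat.card (centralizer ((X.subgroupOf M : Subgroup ↥M) : Set ↥M) : Subgroup ↥M) = 6 := by
    rw [centralizer_subgroupOf hXM, card_subgroupOf hCM, hC]
  have h3 := h1.1
  have h4 : (centralizer ((X.subgroupOf M : Subgroup ↥M) : Set ↥M)).Normal := inferInstance
  have : Fact (Nat.Prime 3) := ⟨Nat.prime_three⟩
  have h5 : Cfsg.pCore 3 ↥M ≤ centralizer ((X.subgroupOf M : Subgroup ↥M) : Set ↥M) :=
    pCore_le_centralizer (simple_subgroupOf hXM hX) h3 (q := 5) (by norm_num) (by norm_num)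
      (by rw [card_subgroupOf hXM, hXc]; decide +kernel)
  refine ⟨M, ⟨hnp, hlo, ?_⟩, pCore_normal_six h4 h2 h5⟩
  refine h1.2.trans ?_
  rw [h2]
  decide +kernel

/-! ### class 4 -/

theorem cls4 (h0 : BoxX0) (hP : BoxP6) (hS : BoxS4) (hF : BoxF4) : ∃ M : Subgroup G7, Cls 3 M := by
  obtain ⟨X, hX, hXc⟩ := hS
  obtain ⟨M, hM, hle⟩ := exists_max' hXc (by decide +kernel) (by decide +kernel)
  have hXM : X ≤ M := Subgroup.le_normalizer.trans hle
  have hlo : oL8 ∣ Nat.card ↥M := hXc ▸ dvd_card_of_le hXM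
  have hnp : NP M := by
    refine np_of hP hM hlo ?_
    have key : ∀ j : Fin 7, ¬ oL8 ∣ 2 ^ 63 * mm7 j := by decide +kernel
    intro j hj
    exact absurd hj (key j)
  exact ⟨M, hnp, hlo, (hF ↥M (hnp.ctx h0) (X.subgroupOf M) (simple_subgroupOf hXM hX)
    (by rw [card_subgroupOf hXM, hXc])).2⟩

/-! ### class 5 -/

theorem cls5 (h0 : BoxX0) (hP : BoxP6) (hT : BoxT5) (hF : BoxF5) : ∃ M : Subgroup G7, Cls 4 M ∧ pc M = 1 := by
  obtain ⟨X, hX, hXc⟩ := hT
  obtain ⟨M, hM, hle⟩ := exists_max' hXc (by decide +kernel) (by decide +kernel)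
  have hXM : X ≤ M := Subgroup.le_normalizer.trans hle
  have hlo : oU8 ∣ Nat.card ↥M := hXc ▸ dvd_card_of_le hXM
  have hnp : NP M := by
    refine np_of hP hM hlo ?_
    have key : ∀ j : Fin 7, ¬ oU8 ∣ 2 ^ 63 * mm7 j := by decide +kernel
    intro j hj
    exact absurd hj (key j)
  have h1 := hF ↥M (hnp.ctx h0) (X.subgroupOf M) (simple_subgroupOf hXM hX) (by rw [card_subgroupOf hXM, hXc])
  refine ⟨M, ⟨hnp, hlo, h1.2.2⟩, ?_⟩
  have h3 := h1.1
  have : Fact (Nat.Prime 3) := ⟨Nat.prime_three⟩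
  have h5 : Cfsg.pCore 3 ↥M ≤ centralizer ((X.subgroupOf M : Subgroup ↥M) : Set ↥M) :=
    pCore_le_centralizer (simple_subgroupOf hXM hX) h3 (q := 5) (by norm_num) (by norm_num)
      (by rw [card_subgroupOf hXM, hXc]; decide +kernel)
  rw [h1.2.1, le_bot_iff] at h5
  unfold pc
  rw [h5, Subgroup.card_bot]

/-! ### class 6 -/

theorem cls6 (h0 : BoxX0) (hP : BoxP6) (hX2 : BoxX2) (hS : BoxS6) (hF : BoxF6) : ∃ M : Subgroup G7, Cls 5 M := by
  obtain ⟨X, Y, hX, hXc, hY, hYc, hCX, hCY⟩ := hS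
  obtain ⟨M, hM, hle⟩ := exists_max' hXc (by decide +kernel) (by decide +kernel)
  have hXM : X ≤ M := Subgroup.le_normalizer.trans hle
  have hCM : centralizer (X : Set G7) ≤ M := (Subgroup.centralizer_le_normalizer _).trans hle
  have hYM : Y ≤ M := hCX ▸ hCM
  have hd : X ⊓ centralizer (X : Set G7) = ⊥ := inf_centralizer_bot' hX
    (a := 3) (b := 5) (by norm_num) (by norm_num) (by norm_num)
      (by rw [hXc]; decide +kernel) (by rw [hXc]; decide +kernel)
  have hlo : oL6 * oL3 ∣ Nat.card ↥M := by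
    have := dvd_card_of_le (sup_le hXM hCM)
    rw [card_sup_comm le_rfl hd, hXc, hCX, hYc] at this
    exact this
  have hnp : NP M := by
    refine np_of hP hM hlo ?_
    have key : ∀ j : Fin 7, oL6 * oL3 ∣ 2 ^ 63 * mm7 j → j = 6 := by decide +kernel
    intro j hj
    obtain rfl := key j hj
    obtain ⟨z, hz, hzo⟩ := exists_orderOf_mul (X := X) (Y := Y) (m := 31) (n := 7) hCX.ge (by norm_num)
      (exists_orderOf (by norm_num) (by rw [hXc]; decide +kernel))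
      (exists_orderOf (by norm_num) (by rw [hYc]; decide +kernel))
    exact notSim6 hP hX2 (sup_le hXM hYM hz) (Or.inr (by rw [hzo]))
  exact ⟨M, hnp, hlo, hF ↥M (hnp.ctx h0) (X.subgroupOf M) (Y.subgroupOf M) (simple_subgroupOf hXM hX)
    (by rw [card_subgroupOf hXM, hXc]) (simple_subgroupOf hYM hY)
    (by rw [card_subgroupOf hYM, hYc]) (by rw [centralizer_subgroupOf hXM, hCX])
    (by rw [centralizer_subgroupOf hYM, hCY])⟩

end Cfsg.Agent.R2.H27.Asm
end

-- part: R2/H27/ClsB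
section
/-!
# S5934, assembly: the classes 7 - 12 (helper27)
-/

set_option autoImplicit false

namespace Cfsg.Agent.R2.H27.Asm

open Subgroup
open scoped commutatorElement Pointwise

section Gen

variable {G : Type*} [Group G]

/-- extra data of class 7, comparison with class 8 -/
def Ex7' (q : ℕ) (M : Subgroup G) : Prop := ∃ J : Subgroup G, ⁅J, J⁆ = J ∧ q ∣ Nat.card ↥J ∧
  (Cfsg.pCore 3 ↥M).map M.subtype ≤ centralizer (J : Set G)

/-- extra data of class 8, comparison with class 7 -/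
def Ex8 (q : ℕ) (M : Subgroup G) : Prop := ∀ J : Subgroup G, ⁅J, J⁆ = J →
  (Cfsg.pCore 3 ↥M).map M.subtype ≤ centralizer (J : Set G) → ¬ q ∣ Nat.card ↥J

theorem pCore_map_conj (p : ℕ) (M : Subgroup G) (g : G) :
    (Cfsg.pCore p ↥(M.map (MulAut.conj g).toMonoidHom)).map (M.map (MulAut.conj g).toMonoidHom).subtype =
      ((Cfsg.pCore p ↥M).map M.subtype).map (MulAut.conj g).toMonoidHom := by
  rw [← Cfsg.Agent.Lib.Cores.map_equiv_pCore (M.equivMapOfInjective _ (MulAut.conj g).injective) p,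
    Subgroup.map_map, Subgroup.map_map]
  rfl

theorem map_le_centralizer {H K : Type*} [Group H] [Group K] (f : H →* K) {A B : Subgroup H}
    (h : A ≤ centralizer (B : Set H)) : A.map f ≤ centralizer ((B.map f : Subgroup K) : Set K) := by
  rintro _ ⟨a, ha, rfl⟩
  rw [mem_centralizer_iff]
  rintro _ ⟨b, hb, rfl⟩
  rw [← map_mul, ← map_mul, mem_centralizer_iff.1 (h ha) b hb]

theorem Ex7'.sim {q : ℕ} {M M' : Subgroup G} (h : Ex7' q M) (hs : Sim M M') : Ex7' q M' := by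
  obtain ⟨g, rfl⟩ := hs
  obtain ⟨J, h1, h2, h3⟩ := h
  refine ⟨J.map (MulAut.conj g).toMonoidHom, ?_, ?_, ?_⟩
  · rw [← Subgroup.map_commutator, h1]
  · rw [← (Sim.conj J g).card]
    exact h2
  · rw [pCore_map_conj]
    exact map_le_centralizer _ h3

theorem sp78 {q : ℕ} {M M' : Subgroup G} (h : Ex7' q M) (h' : Ex8 q M') (hs : Sim M M') : False := by
  obtain ⟨J, h1, h2, h3⟩ := h.sim hs
  exact h' J h1 h3 h2

/-! ### classes 2 and 7 -/

/-- the extra data of class 2 -/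
def Ex2G (n : ℕ) (M : Subgroup G) : Prop := ∃ X : Subgroup G, X ≤ M ∧ M ≤ normalizer (X : Set G) ∧
  n ∣ Nat.card ↥X ∧ Nat.card ↥(center ↥X) = 3

theorem map_le_normalizer {H K : Type*} [Group H] [Group K] (f : H →* K) {A B : Subgroup H}
    (h : A ≤ normalizer (B : Set H)) : A.map f ≤ normalizer ((B.map f : Subgroup K) : Set K) := by
  exact (Subgroup.map_mono h).trans (Subgroup.le_normalizer_map f)

theorem Ex2G.sim {n : ℕ} {M M' : Subgroup G} (h : Ex2G n M) (hs : Sim M M') : Ex2G n M' := by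
  obtain ⟨g, rfl⟩ := hs
  obtain ⟨X, h1, h2, h3, h4⟩ := h
  refine ⟨X.map (MulAut.conj g).toMonoidHom, Subgroup.map_mono h1, map_le_normalizer _ h2, ?_, ?_⟩
  · rw [← (Sim.conj X g).card]
    exact h3
  · rw [← card_center_congr (X.equivMapOfInjective _ (MulAut.conj g).injective)]
    exact h4

/-- extra data of class 7, comparison with class 2 -/
def Ex7 (n : ℕ) (M : Subgroup G) : Prop := ∃ (A : Subgroup G) (z : G), centralizer {z} ≤ M ∧
  ¬ n ∣ Nat.card (centralizer {z} : Subgroup G) ∧ A ≤ centralizer {z} ∧ IsPGroup 3 ↥A ∧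
  centralizer (A : Set G) = A ∧
  (∀ e ∈ A, e ≠ 1 → centralizer {z} ≤ normalizer (zpowers e : Set G) → zpowers e = zpowers z)

/-- a `3`-group normalising `⟨e⟩` of order 3 centralises it -/
theorem comm_of_norm {A : Subgroup G} (hA : IsPGroup 3 ↥A) {e : G} (he : orderOf e = 3)
    (hn : A ≤ normalizer (zpowers e : Set G)) {a : G} (ha : a ∈ A) : e * a = a * e := by
  have h1 : a * e * a⁻¹ ∈ zpowers e := ((Subgroup.mem_normalizer_iff.1 (hn ha)) e).1 (mem_zpowers e)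
  obtain ⟨k, hk⟩ := Subgroup.mem_zpowers_iff.1 h1
  have h3 : e ^ (3 : ℤ) = 1 := by
    have := pow_orderOf_eq_one e
    rw [he] at this
    exact_mod_cast this
  have h2 : e ^ (k % 3) = a * e * a⁻¹ := by
    rw [← hk]
    conv_rhs => rw [← Int.mul_ediv_add_emod k 3, zpow_add, zpow_mul, h3, one_zpow, one_mul]
  have h4 : e ≠ 1 := by
    rintro rfl
    rw [orderOf_one] at he
    omega
  have h5 : k % 3 = 0 ∨ k % 3 = 1 ∨ k % 3 = 2 := by omega
  rcases h5 with h5 | h5 | h5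
  · rw [h5, zpow_zero] at h2
    exfalso
    apply h4
    have : e = a⁻¹ * (a * e * a⁻¹) * a := by group
    rw [this, ← h2]; group
  · rw [h5, zpow_one] at h2
    nth_rewrite 1 [h2]; group
  · exfalso
    rw [h5] at h2
    -- `a` inverts `e`
    have h6 : a * e * a⁻¹ = e⁻¹ := by
      rw [← h2]
      have h8 : e ^ (2 : ℤ) * e = 1 := by rw [← zpow_add_one]; exact h3
      exact eq_inv_of_mul_eq_one_left h8
    obtain ⟨n, hn'⟩ := hA ⟨a, ha⟩
    have h7 : a ^ 3 ^ n = 1 := congrArg Subtype.val hn'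
    have h8 : ∀ m : ℕ, a ^ (2 * m + 1) * e * (a ^ (2 * m + 1))⁻¹ = e⁻¹ := by
      intro m
      induction m with
      | zero => simpa only [_root_.MulZeroClass.mul_zero, _root_.zero_add, _root_.pow_one] using h6
      | succ m ih =>
        have e1 : a ^ (2 * (m + 1) + 1) = a * (a * a ^ (2 * m + 1)) := by
          rw [← pow_succ', ← pow_succ']
          congr 1
        rw [e1]
        calc a * (a * a ^ (2 * m + 1)) * e * (a * (a * a ^ (2 * m + 1)))⁻¹
            = a * (a * (a ^ (2 * m + 1) * e * (a ^ (2 * m + 1))⁻¹) * a⁻¹) * a⁻¹ := by group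
          _ = a * (a * e * a⁻¹)⁻¹ * a⁻¹ := by rw [ih]; group
          _ = e⁻¹ := by
            rw [h6, inv_inv, h6]
    obtain ⟨m, hm⟩ : ∃ m, 3 ^ n = 2 * m + 1 := by
      have : Odd (3 ^ n) := Odd.pow (by decide)
      exact this
    have h9 := h8 m
    rw [← hm, h7] at h9
    have h10 : e = e⁻¹ := by simpa using h9
    have h11 : e ^ 2 = 1 := by
      rw [pow_two]
      nth_rewrite 2 [h10]
      exact mul_inv_cancel e
    have h12 : orderOf e ∣ 2 := orderOf_dvd_of_pow_eq_one h11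
    rw [he] at h12
    revert h12; decide

theorem sp27 [Finite G] {n : ℕ} {M M' : Subgroup G} (h : Ex2G n M) (h' : Ex7 n M') (hs : Sim M M') : False := by
  obtain ⟨X, h1, h2, h3, h4⟩ := h.sim hs
  obtain ⟨A, z, k1, k2, k3, k4, k5, k6⟩ := h'
  apply k2
  obtain ⟨e₀, he₀⟩ := exists_orderOf (X := ↥(center ↥X)) (q := 3) (by norm_num) (by rw [h4])
  set e : G := ((e₀ : ↥X) : G) with he
  have he3 : orderOf e = 3 := by
    rw [he, Subgroup.orderOf_coe, Subgroup.orderOf_coe, he₀]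
  have hXe : X ≤ centralizer {e} := by
    intro x hx
    rw [mem_centralizer_singleton_iff]
    have h5 := Subgroup.mem_center_iff.1 e₀.2 ⟨x, hx⟩
    exact (congrArg Subtype.val h5)
  have hce : (center ↥X).map X.subtype = zpowers e := by
    symm
    apply Subgroup.eq_of_le_of_card_ge
    · rw [Subgroup.zpowers_le]
      exact ⟨e₀, e₀.2, rfl⟩
    · rw [Nat.card_zpowers, he3, ← h4]
      exact (Nat.card_congr ((center ↥X).equivMapOfInjective _ X.subtype_injective).toEquiv).symm.le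
  have hMe : M' ≤ normalizer (zpowers e : Set G) := by
    intro m hm
    rw [← hce]
    have h6 : ∀ m ∈ M', ∀ x ∈ (center ↥X).map X.subtype, m * x * m⁻¹ ∈ (center ↥X).map X.subtype := by
      rintro m hm _ ⟨x, hx, rfl⟩
      have h7 := h2 hm
      have h8 : m * x * m⁻¹ ∈ X := ((Subgroup.mem_normalizer_iff.1 h7) x).1 x.2
      refine ⟨⟨m * x * m⁻¹, h8⟩, ?_, rfl⟩
      show (⟨m * x * m⁻¹, h8⟩ : ↥X) ∈ center ↥X
      rw [Subgroup.mem_center_iff]
      rintro ⟨y, hy⟩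
      apply Subtype.ext
      show y * (m * x * m⁻¹) = m * x * m⁻¹ * y
      have h9 : m⁻¹ * y * m ∈ X := by
        have := ((Subgroup.mem_normalizer_iff.1 (inv_mem h7)) y).1 hy
        simpa using this
      have h10 : (m⁻¹ * y * m) * x = x * (m⁻¹ * y * m) :=
        congrArg Subtype.val (Subgroup.mem_center_iff.1 hx ⟨_, h9⟩)
      calc y * (m * x * m⁻¹) = m * ((m⁻¹ * y * m) * x) * m⁻¹ := by group
        _ = m * x * m⁻¹ * y := by rw [h10]; group
    rw [Subgroup.mem_normalizer_iff]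
    intro x
    constructor
    · exact h6 m hm x
    · intro hx
      have := h6 m⁻¹ (inv_mem hm) _ hx
      have e1 : m⁻¹ * (m * x * m⁻¹) * m⁻¹⁻¹ = x := by group
      rwa [e1] at this
  have hzM : centralizer {z} ≤ normalizer (zpowers e : Set G) := k1.trans hMe
  have heA : e ∈ A := by
    rw [← k5, mem_centralizer_iff]
    intro a ha
    exact (comm_of_norm k4 he3 (k3.trans hzM) ha).symm
  have he1 : e ≠ 1 := by
    intro h
    rw [h, orderOf_one] at he3
    omega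
  have hz := k6 e heA he1 hzM
  have hXz : X ≤ centralizer {z} := by
    have h7 : z ∈ zpowers e := by rw [hz]; exact mem_zpowers z
    obtain ⟨k, rfl⟩ := Subgroup.mem_zpowers_iff.1 h7
    intro x hx
    rw [mem_centralizer_singleton_iff]
    have h8 : Commute x e := mem_centralizer_singleton_iff.1 (hXe hx)
    exact (h8.zpow_right k)
  exact h3.trans (dvd_card_of_le hXz)

/-! ### class 8 -/

theorem rank3 {c t : Fin 3 → G} {τ : G} (hc : ∀ i, orderOf (c i) = 3)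
    (hi : ∀ i, t i * c i * (t i)⁻¹ = (c i)⁻¹) (hτ : ∀ i, τ * c i * τ⁻¹ = c (i + 1))
    (hcc : ∀ i j, i ≠ j → Commute (c i) (c j) ∧ Commute (t i) (c j)) {P : Subgroup G}
    (hP : P ≤ _root_.Subgroup.closure (Set.range c)) (ht : ∀ i, t i ∈ normalizer (P : Set G)) (hτP : τ ∈ normalizer (P : Set G)) :
    P = ⊥ ∨ P = closure (Set.range c) := by
  -- the group `E` is abelian
  have hcomm : ∀ x ∈ _root_.Subgroup.closure (Set.range c), ∀ y ∈ closure (Set.range c), x * y = y * x := by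
    intro x hx y hy
    have h1 : ∀ i j, c i * c j = c j * c i := by
      intro i j
      by_cases h : i = j
      · rw [h]
      · exact (hcc i j h).1
    have h2 : ∀ y ∈ _root_.Subgroup.closure (Set.range c), ∀ i, y * c i = c i * y := by
      intro y hy i
      induction hy using Subgroup.closure_induction with
      | mem y hy => obtain ⟨j, rfl⟩ := hy; exact h1 j i
      | one => simp
      | mul a b _ _ ha hb => rw [mul_assoc, hb, ← mul_assoc, ha, mul_assoc]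
      | inv a _ ha => exact (Commute.inv_left (show Commute a (c i) from ha))
    induction hx using Subgroup.closure_induction with
    | mem x hx => obtain ⟨i, rfl⟩ := hx; exact (h2 y hy i).symm
    | one => simp
    | mul a b _ _ ha hb => rw [mul_assoc, hb, ← mul_assoc, ha, mul_assoc]
    | inv a _ ha => exact (Commute.inv_left (show Commute a y from ha))
  set E := _root_.Subgroup.closure (Set.range c) with hE
  have hcE : ∀ i, c i ∈ E := fun i => Subgroup.subset_closure ⟨i, rfl⟩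
  -- `x = d₀ d₁ d₂` with `dᵢ = tᵢ x tᵢ⁻¹ x⁻¹ ∈ ⟨cᵢ⟩`
  have hc3 : ∀ i, c i * c i * c i = 1 := by
    intro i
    have := pow_orderOf_eq_one (c i)
    rw [hc i] at this
    rw [← this]; rw [pow_succ, pow_two]
  have key : ∀ x ∈ E, (∀ i, t i * x * (t i)⁻¹ * x⁻¹ ∈ zpowers (c i)) ∧
      x = (t 0 * x * (t 0)⁻¹ * x⁻¹) * (t 1 * x * (t 1)⁻¹ * x⁻¹) * (t 2 * x * (t 2)⁻¹ * x⁻¹) := by
    intro x hx
    have hz : ∀ i, zpowers (c i) ≤ E := fun i => by rw [Subgroup.zpowers_le]; exact hcE i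
    have hj3 : ∀ j : Fin 3, j = 0 ∨ j = 1 ∨ j = 2 := by decide
    have hself : ∀ i, t i * c i * (t i)⁻¹ * (c i)⁻¹ = c i := by
      intro i
      rw [hi i]
      have h5 := hc3 i
      have h6 : (c i)⁻¹ * (c i)⁻¹ = c i := by
        have h7 : c i * (c i * c i) = 1 := by rw [← mul_assoc]; exact h5
        have h8 : (c i * c i)⁻¹ = c i := inv_eq_of_mul_eq_one_left h7
        rw [mul_inv_rev] at h8
        exact h8
      exact h6
    have hoth : ∀ i j, i ≠ j → t i * c j * (t i)⁻¹ * (c j)⁻¹ = 1 := by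
      intro i j hij
      have h5 : t i * c j = c j * t i := (hcc i j hij).2
      rw [h5]; group
    induction hx using Subgroup.closure_induction with
    | mem x hx =>
      obtain ⟨j, rfl⟩ := hx
      constructor
      · intro i
        by_cases h : i = j
        · subst h
          rw [hself i]; exact mem_zpowers _
        · rw [hoth i j h]; exact one_mem _
      · rcases hj3 j with rfl | rfl | rfl
        · rw [hself 0, hoth 1 0 (by decide), hoth 2 0 (by decide), mul_one, mul_one]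
        · rw [hself 1, hoth 0 1 (by decide), hoth 2 1 (by decide), mul_one, one_mul]
        · rw [hself 2, hoth 0 2 (by decide), hoth 1 2 (by decide), one_mul, one_mul]
    | one => constructor
             · intro i
               have : t i * 1 * (t i)⁻¹ * 1⁻¹ = 1 := by group
               rw [this]; exact one_mem _
             · group
    | mul a b ha' hb' ha hb =>
      have hab : ∀ i, t i * (a * b) * (t i)⁻¹ * (a * b)⁻¹ =
          (t i * a * (t i)⁻¹ * a⁻¹) * (t i * b * (t i)⁻¹ * b⁻¹) := by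
        intro i
        have h5 : (t i * b * (t i)⁻¹ * b⁻¹) ∈ E := hz i (hb.1 i)
        have h6 := hcomm a ha' _ h5
        calc t i * (a * b) * (t i)⁻¹ * (a * b)⁻¹
            = t i * a * (t i)⁻¹ * ((t i * b * (t i)⁻¹ * b⁻¹) * a⁻¹) := by group
          _ = t i * a * (t i)⁻¹ * (a⁻¹ * (a * (t i * b * (t i)⁻¹ * b⁻¹)) * a⁻¹) := by group
          _ = t i * a * (t i)⁻¹ * (a⁻¹ * ((t i * b * (t i)⁻¹ * b⁻¹) * a) * a⁻¹) := by rw [h6]
          _ = _ := by group
      constructor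
      · intro i
        rw [hab i]
        exact mul_mem (ha.1 i) (hb.1 i)
      · rw [hab 0, hab 1, hab 2]
        have m0 := hz 0 (ha.1 0)
        have m1 := hz 1 (ha.1 1)
        have m2 := hz 2 (ha.1 2)
        have k0 := hz 0 (hb.1 0)
        have k1 := hz 1 (hb.1 1)
        have k2 := hz 2 (hb.1 2)
        have ea := ha.2
        have eb := hb.2
        generalize t 0 * a * (t 0)⁻¹ * a⁻¹ = a0 at *
        generalize t 1 * a * (t 1)⁻¹ * a⁻¹ = a1 at *
        generalize t 2 * a * (t 2)⁻¹ * a⁻¹ = a2 at *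
        generalize t 0 * b * (t 0)⁻¹ * b⁻¹ = b0 at *
        generalize t 1 * b * (t 1)⁻¹ * b⁻¹ = b1 at *
        generalize t 2 * b * (t 2)⁻¹ * b⁻¹ = b2 at *
        rw [ea, eb]
        calc a0 * a1 * a2 * (b0 * b1 * b2) = a0 * (a1 * a2 * b0) * b1 * b2 := by group
          _ = a0 * (b0 * (a1 * a2)) * b1 * b2 := by rw [hcomm _ (mul_mem m1 m2) _ k0]
          _ = a0 * b0 * a1 * (a2 * b1) * b2 := by group
          _ = a0 * b0 * a1 * (b1 * a2) * b2 := by rw [hcomm _ m2 _ k1]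
          _ = a0 * b0 * (a1 * b1) * (a2 * b2) := by group
    | inv a ha' ha =>
      have hab : ∀ i, t i * a⁻¹ * (t i)⁻¹ * a⁻¹⁻¹ = (t i * a * (t i)⁻¹ * a⁻¹)⁻¹ := by
        intro i
        have h5 : (t i * a * (t i)⁻¹ * a⁻¹) ∈ E := hz i (ha.1 i)
        have h6 := hcomm a ha' _ (inv_mem h5)
        calc t i * a⁻¹ * (t i)⁻¹ * a⁻¹⁻¹
            = a⁻¹ * ((t i * a * (t i)⁻¹ * a⁻¹)⁻¹ * a) := by group
          _ = a⁻¹ * (a * (t i * a * (t i)⁻¹ * a⁻¹)⁻¹) := by rw [h6]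
          _ = (t i * a * (t i)⁻¹ * a⁻¹)⁻¹ := by group
      constructor
      · intro i
        rw [hab i]
        exact inv_mem (ha.1 i)
      · rw [hab 0, hab 1, hab 2]
        have m0 := hz 0 (ha.1 0)
        have m1 := hz 1 (ha.1 1)
        have m2 := hz 2 (ha.1 2)
        have ea := ha.2
        generalize t 0 * a * (t 0)⁻¹ * a⁻¹ = a0 at *
        generalize t 1 * a * (t 1)⁻¹ * a⁻¹ = a1 at *
        generalize t 2 * a * (t 2)⁻¹ * a⁻¹ = a2 at *
        rw [ea]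
        calc (a0 * a1 * a2)⁻¹ = (a1 * a2)⁻¹ * a0⁻¹ := by group
          _ = a0⁻¹ * (a1 * a2)⁻¹ := by rw [hcomm _ (inv_mem (mul_mem m1 m2)) _ (inv_mem m0)]
          _ = a0⁻¹ * (a2⁻¹ * a1⁻¹) := by group
          _ = a0⁻¹ * (a1⁻¹ * a2⁻¹) := by rw [hcomm _ (inv_mem m2) _ (inv_mem m1)]
          _ = a0⁻¹ * a1⁻¹ * a2⁻¹ := by group
  by_cases hbot : P = ⊥
  · exact Or.inl hbot
  right
  refine le_antisymm hP ?_
  obtain ⟨x, hx, hx1⟩ : ∃ x ∈ P, x ≠ 1 := by
    obtain ⟨x, hx⟩ := (Subgroup.ne_bot_iff_exists_ne_one).1 hbot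
    exact ⟨x.1, x.2, fun h => hx (Subtype.ext h)⟩
  have hk := key x (hP hx)
  have hmem : ∀ i, t i * x * (t i)⁻¹ * x⁻¹ ∈ P := fun i =>
    P.mul_mem (((Subgroup.mem_normalizer_iff.1 (ht i)) x).1 hx) (P.inv_mem hx)
  -- some `cᵢ ∈ P`
  have h1 : ∃ i, c i ∈ P := by
    by_contra hcon
    push Not at hcon
    apply hx1
    have h2 : ∀ i, t i * x * (t i)⁻¹ * x⁻¹ = 1 := by
      intro i
      by_contra hne
      apply hcon i
      have h3 := hk.1 i
      obtain ⟨k, hkk⟩ := Subgroup.mem_zpowers_iff.1 h3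
      have h4 : c i ∈ zpowers (t i * x * (t i)⁻¹ * x⁻¹) := by
        have : Fact (Nat.Prime 3) := ⟨Nat.prime_three⟩
        have hcard : Nat.card ↥(zpowers (c i)) = 3 := by rw [Nat.card_zpowers, hc i]
        have h5 := mem_zpowers_of_prime_card (p := 3) hcard (g := (⟨_, h3⟩ : ↥(zpowers (c i))))
          (g' := ⟨c i, mem_zpowers _⟩) (fun h => hne (congrArg Subtype.val h))
        obtain ⟨m, hm⟩ := Subgroup.mem_zpowers_iff.1 h5
        exact Subgroup.mem_zpowers_iff.2 ⟨m, congrArg Subtype.val hm⟩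
      exact (Subgroup.zpowers_le.2 (hmem i)) h4
    rw [hk.2, h2 0, h2 1, h2 2]; simp
  obtain ⟨i, hi'⟩ := h1
  have hstep : ∀ j, c j ∈ P → c (j + 1) ∈ P := by
    intro j hj
    rw [← hτ j]
    exact ((Subgroup.mem_normalizer_iff.1 hτP) (c j)).1 hj
  rw [hE, Subgroup.closure_le]
  have hall : ∀ j : Fin 3, c j ∈ P := by
    have h6 := hstep i hi'
    have h7 := hstep (i + 1) h6
    intro j
    have h8 : ∀ i j : Fin 3, j = i ∨ j = i + 1 ∨ j = i + 1 + 1 := by decide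
    rcases h8 i j with rfl | rfl | rfl <;> assumption
  rintro _ ⟨j, rfl⟩
  exact hall j

end Gen

end Cfsg.Agent.R2.H27.Asm
end

-- part: R2/H27/ClsC
section
/-!
# S5934, assembly: the classes 7 - 12 (helper27)
-/

set_option autoImplicit false

namespace Cfsg.Agent.R2.H27.Asm

open Subgroup
open scoped commutatorElement Pointwise

section Gen

variable {G : Type*} [Group G]

theorem card_map_subtype {M : Subgroup G} (K : Subgroup ↥M) : Nat.card ↥(K.map M.subtype) = Nat.card ↥K :=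
  (Nat.card_congr (K.equivMapOfInjective _ M.subtype_injective).toEquiv).symm

theorem normalizer_map_subtype {M : Subgroup G} {K : Subgroup ↥M} (hn : K.Normal) :
    M ≤ normalizer (K.map M.subtype : Set G) := by
  have h1 := le_normalizer_of_normal (X := K.map M.subtype) (M := M) (by
    rintro _ ⟨x, _, rfl⟩
    exact x.2) (by
      rw [Subgroup.subgroupOf, Subgroup.comap_map_eq_self_of_injective M.subtype_injective]
      exact hn)
  exact h1

theorem map_le_of_le_centralizer {X M : Subgroup G} (hX : X ≤ M) {K : Subgroup ↥M}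
    (h : K ≤ centralizer ((X.subgroupOf M : Subgroup ↥M) : Set ↥M)) : K.map M.subtype ≤ centralizer (X : Set G) := by
  rw [centralizer_subgroupOf hX] at h
  rintro _ ⟨x, hx, rfl⟩
  exact h hx

theorem inf_bot_subgroupOf {X Y M : Subgroup G} (hX : X ≤ M) (hY : Y ≤ M)
    (h : centralizer (X : Set G) ⊓ centralizer (Y : Set G) = ⊥) :
    centralizer ((X.subgroupOf M : Subgroup ↥M) : Set ↥M) ⊓ centralizer ((Y.subgroupOf M : Subgroup ↥M) : Set ↥M) =
      ⊥ := by
  rw [centralizer_subgroupOf hX, centralizer_subgroupOf hY]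
  rw [eq_bot_iff]
  rintro x ⟨h1, h2⟩
  have h3 : (x : G) ∈ centralizer (X : Set G) ⊓ centralizer (Y : Set G) := ⟨h1, h2⟩
  rw [h, mem_bot] at h3
  exact Subtype.ext h3

theorem le_centralizer_subgroupOf {X Y M : Subgroup G} (hX : X ≤ M)
    (h : Y ≤ centralizer (X : Set G)) : Y.subgroupOf M ≤ centralizer ((X.subgroupOf M : Subgroup ↥M) : Set ↥M) := by
  rw [centralizer_subgroupOf hX]
  exact fun x hx => h hx

theorem le_normalizer_subgroupOf {X Y M : Subgroup G} 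
    (h : Y ≤ normalizer (X : Set G)) : Y.subgroupOf M ≤ normalizer ((X.subgroupOf M : Subgroup ↥M) : Set ↥M) := by
  intro x hx
  rw [Subgroup.mem_normalizer_iff]
  intro y
  exact (Subgroup.mem_normalizer_iff.1 (h hx)) y

theorem le_normalizer_map {Y M : Subgroup G} (hY : Y ≤ M) {B : Subgroup ↥M}
    (h : Y.subgroupOf M ≤ normalizer (B : Set ↥M)) : Y ≤ normalizer (B.map M.subtype : Set G) := by
  have h1 : (Y.subgroupOf M).map M.subtype ≤ normalizer (B.map M.subtype : Set G) := map_le_normalizer _ h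
  rwa [Subgroup.subgroupOf_map_subtype, inf_eq_left.2 hY] at h1

theorem eq_subgroupOf_of_map {A M : Subgroup G} {B : Subgroup ↥M} (h : B.map M.subtype = A) :
    B = A.subgroupOf M := by
  rw [← h, Subgroup.subgroupOf, Subgroup.comap_map_eq_self_of_injective M.subtype_injective]

end Gen

/-! ### class 7 -/

theorem cls7 (h0 : BoxX0) (hP : BoxP6) (hT : BoxT7) (hF : BoxF7) :
    ∃ M : Subgroup G7, Cls 6 M ∧ (pc M ≠ 1 ∧ pc M ∣ 3 ^ 5) ∧ Ex7 19 M ∧ Ex7' 11 M := by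
  obtain ⟨X, A, z, hXp, hXq, hXc, hXz, hzX, hz3, hXcz, hCX, h310, h19, hAz, hA3, hCA, hE⟩ := hT
  have hcz : Nat.card ↥(zpowers z) = 3 := by rw [Nat.card_zpowers, hz3]
  obtain ⟨M, hM, hle⟩ := exists_max' hcz (by decide +kernel) (by decide +kernel)
  have hCM : centralizer {z} ≤ M := by
    refine le_trans ?_ hle
    rw [Subgroup.zpowers_eq_closure, ← Subgroup.centralizer_closure]
    exact Subgroup.centralizer_le_normalizer _
  have hXM : X ≤ M := hXcz.trans hCM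
  have h310M : 3 ^ 10 ∣ Nat.card ↥M := h310.trans (dvd_card_of_le hCM)
  have hlo : 2 ^ 15 * 3 ^ 10 * 5 * 7 * 11 ∣ Nat.card ↥M := by
    have h1 : 3 * oU6 ∣ Nat.card ↥M := hXc ▸ dvd_card_of_le hXM
    have h2 : 2 ^ 15 * 5 * 7 * 11 ∣ Nat.card ↥M := dvd_trans (by decide +kernel) h1
    have h3 := Nat.Coprime.mul_dvd_of_dvd_of_dvd (by decide +kernel) h310M h2
    exact dvd_trans (by decide +kernel) h3
  have hnp : NP M := by
    refine np_of hP hM hlo ?_
    have key : ∀ j : Fin 7, ¬ 2 ^ 15 * 3 ^ 10 * 5 * 7 * 11 ∣ 2 ^ 63 * mm7 j := by decide +kernel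
    intro j hj
    exact absurd hj (key j)
  have h1 := hF ↥M (hnp.ctx h0) (X.subgroupOf M) (perfect_subgroupOf hXM hXp) (quasi_subgroupOf hXM hXq)
    (by rw [card_subgroupOf hXM, hXc]) (by rw [card_center_subgroupOf hXM, hXz])
    ((card_centralizer_dvd hXM).trans hCX) h310M
  refine ⟨M, ⟨hnp, hlo, ?_⟩, ⟨?_, h1.2.1⟩, ⟨A, z, hCM, h19, hAz, hA3, hCA, hE⟩, ⟨X, hXp, ?_, ?_⟩⟩
  · have h5 : Nat.card ↥M ∣ Nat.card G7 := Subgroup.card_subgroup_dvd_card _
    rw [card_G7] at h5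
    exact h5
  · intro h2
    exact h1.1 (Subgroup.eq_bot_of_card_eq _ h2)
  · rw [hXc]; decide +kernel
  · exact map_le_of_le_centralizer hXM h1.2.2

/-! ### class 8 -/

theorem cls8_aux {M : Type} [Group M] [Finite M] (hX1 : BoxX1) {X L : Subgroup M} (hX : IsSimpleGroup ↥X)
    (hXc : Nat.card ↥X = oO8) (hL : IsSimpleGroup ↥L) (hXL : X ≤ L) (hn : L.Normal) (hLc : Nat.card ↥L = oU8)
    (hM : Nat.card M ∣ 2 * oU8) {c : M} (hc : orderOf c = 3) (hcX : c ∈ centralizer (X : Set M)) : False := by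
  have h1 : L.index ∣ 2 := by
    have h2 := L.card_mul_index
    rw [← h2, hLc, mul_comm 2] at hM
    exact Nat.dvd_of_mul_dvd_mul_left (by decide +kernel) hM
  have h3 : c ^ 2 ∈ L := by
    obtain ⟨k, hk⟩ := h1
    rw [hk, pow_mul]
    exact pow_mem (Subgroup.pow_index_mem L c) k
  have h4 : c ∈ L := by
    have h5 : c = (c ^ 2) ^ 2 := by
      rw [← pow_mul]
      have := pow_orderOf_eq_one c
      rw [hc] at this
      rw [show 2 * 2 = 3 + 1 by norm_num, pow_succ, this, one_mul]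
    rw [h5]
    exact pow_mem h3 2
  refine hX1 ↥L hL hLc (X.subgroupOf L) (simple_subgroupOf hXL hX) (by rw [card_subgroupOf hXL, hXc]) ⟨c, h4⟩ ?_ ?_
  · rw [Subgroup.orderOf_mk, hc]
  · rw [centralizer_subgroupOf hXL]
    exact hcX

theorem cls8 (h0 : BoxX0) (hP : BoxP6) (hX1 : BoxX1) (hS : BoxS8) (hF : BoxF8) :
    ∃ M : Subgroup G7, Cls 7 M ∧ (pc M = 27 ∨ (pc M = 1 ∧ Nat.card ↥M ∣ 2 * oFi22)) ∧ (pc M ≠ 1 → Ex8 11 M) := by
  obtain ⟨X, H, c, t, τ, hX, hXc, hCc, hXH, hCH, hτH, hHn, h39, hc, hcc, hPC, hE27, hJ⟩ := hS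
  obtain ⟨M, hM, hle⟩ := exists_max' hXc (by decide +kernel) (by decide +kernel)
  have hHM : H ≤ M := hHn.trans hle
  have hXM : X ≤ M := hXH.trans hHM
  have hCM : centralizer (X : Set G7) ≤ M := hCH.trans hHM
  have h39M : 3 ^ 9 ∣ Nat.card ↥M := h39.trans (dvd_card_of_le hHM)
  have hlo : 2 ^ 12 * 3 ^ 9 * 5 ^ 2 * 7 ∣ Nat.card ↥M := by
    have h1 : oO8 ∣ Nat.card ↥M := hXc ▸ dvd_card_of_le hXM
    have h2 : 2 ^ 12 * 5 ^ 2 * 7 ∣ Nat.card ↥M := dvd_trans (by decide +kernel) h1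
    have h3 := Nat.Coprime.mul_dvd_of_dvd_of_dvd (by decide +kernel) h39M h2
    exact dvd_trans (by decide +kernel) h3
  have hnp : NP M := by
    refine np_of hP hM hlo ?_
    have key : ∀ j : Fin 7, ¬ 2 ^ 12 * 3 ^ 9 * 5 ^ 2 * 7 ∣ 2 ^ 63 * mm7 j := by decide +kernel
    intro j hj
    exact absurd hj (key j)
  have hup : Nat.card ↥M ∣ N7 := by
    have h5 : Nat.card ↥M ∣ Nat.card G7 := Subgroup.card_subgroup_dvd_card _
    rw [card_G7] at h5
    exact h5
  obtain ⟨hF1, hF2⟩ := hF ↥M (hnp.ctx h0) (X.subgroupOf M) (simple_subgroupOf hXM hX)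
    (by rw [card_subgroupOf hXM, hXc]) ((card_centralizer_dvd hXM).trans (by rw [hCc])) h39M
  have hPX : (Cfsg.pCore 3 ↥M).map M.subtype ≤ centralizer (X : Set G7) := map_le_of_le_centralizer hXM hF1
  have hP3 : IsPGroup 3 ↥((Cfsg.pCore 3 ↥M).map M.subtype) := (Cfsg.Agent.Lib.Cores.pCore_isPGroup 3).map _
  have hMP : M ≤ normalizer ((Cfsg.pCore 3 ↥M).map M.subtype : Set G7) :=
    normalizer_map_subtype (Cfsg.Agent.Lib.Cores.pCore_normal 3)
  have hPE := hPC _ hP3 (hCM.trans hMP) hPX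
  have hcM : ∀ i, c i ∈ M := fun i => hCM (hc i).2.2.1
  have htM : ∀ i, t i ∈ M := fun i => hCM (hc i).2.2.2.1
  have hτM : τ ∈ M := hHM hτH
  have hrank := rank3 (c := c) (t := t) (τ := τ) (fun i => (hc i).1) (fun i => (hc i).2.1)
    (fun i => (hc i).2.2.2.2) hcc hPE (fun i => hMP (htM i)) (hMP hτM)
  have hpc : pc M = Nat.card ↥((Cfsg.pCore 3 ↥M).map M.subtype) := (card_map_subtype _).symm
  refine ⟨M, ⟨hnp, hlo, hup⟩, ?_, ?_⟩
  · rcases hrank with h | h
    · right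
      rw [h, Subgroup.card_bot] at hpc
      refine ⟨hpc, ?_⟩
      rcases hF2 with h2 | ⟨L, hLn, hLs, hLC, hXL, h3 | h3⟩
      · exact absurd (Subgroup.eq_bot_of_card_eq _ hpc) h2
      · exfalso
        refine cls8_aux hX1 (X := X.subgroupOf M) (L := L) (simple_subgroupOf hXM hX)
          (by rw [card_subgroupOf hXM, hXc]) hLs hXL hLn h3.1 h3.2 (c := ⟨c 0, hcM 0⟩) ?_ ?_
        · rw [Subgroup.orderOf_mk]; exact (hc 0).1
        · rw [centralizer_subgroupOf hXM]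
          exact (hc 0).2.2.1
      · exact h3.2
    · left
      rw [hpc, h, hE27]
  · intro h1 J hJJ hJc
    rcases hrank with h | h
    · exfalso
      rw [h, Subgroup.card_bot] at hpc
      exact h1 hpc
    · apply hJ J hJJ
      rw [h] at hJc
      intro x hx
      rw [mem_centralizer_iff]
      intro y hy
      have h2 := hJc (Subgroup.subset_closure hy)
      exact ((mem_centralizer_iff.1 h2) x hx).symm

/-! ### class 9 -/

theorem cls9 (h0 : BoxX0) (hP : BoxP6) (hX2 : BoxX2) (hX3 : BoxX3) (hT : BoxT9) (hF : BoxF9) :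
    ∃ M : Subgroup G7, Cls 8 M := by
  obtain ⟨X, Y, hX, hXc, hY, hYc, hYX, hXY, h17⟩ := hT
  obtain ⟨M, hM, hle⟩ := exists_max' hXc (by decide +kernel) (by decide +kernel)
  have hXM : X ≤ M := Subgroup.le_normalizer.trans hle
  have hCM : centralizer (X : Set G7) ≤ M := (Subgroup.centralizer_le_normalizer _).trans hle
  have hYM : Y ≤ M := hYX.trans hCM
  have hd : X ⊓ centralizer (X : Set G7) = ⊥ := inf_centralizer_bot' hX
    (a := 3) (b := 7) (by norm_num) (by norm_num) (by norm_num)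
      (by rw [hXc]; decide +kernel) (by rw [hXc]; decide +kernel)
  have hd' : X ⊓ Y = ⊥ := by
    rw [eq_bot_iff, ← hd]
    exact inf_le_inf_left _ hYX
  have hlo : oTD4 * oL2e ∣ Nat.card ↥M := by
    have := dvd_card_of_le (sup_le hXM hYM)
    rw [card_sup_comm hYX hd', hXc, hYc] at this
    exact this
  have hnp : NP M := by
    refine np_of hP hM hlo ?_
    have key : ∀ j : Fin 7, oTD4 * oL2e ∣ 2 ^ 63 * mm7 j → j = 6 := by decide +kernel
    intro j hj
    obtain rfl := key j hj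
    obtain ⟨z, hz, hzo⟩ := hX3 G7 X Y hX hXc hY hYc hYX
    exact notSim6 hP hX2 (sup_le hXM hYM hz) (Or.inl hzo)
  have hup : Nat.card ↥M ∣ N7 := by
    have h5 : Nat.card ↥M ∣ Nat.card G7 := Subgroup.card_subgroup_dvd_card _
    rw [card_G7] at h5
    exact h5
  obtain ⟨h5, h127⟩ := hF ↥M (hnp.ctx h0) (X.subgroupOf M) (Y.subgroupOf M) (simple_subgroupOf hXM hX)
    (by rw [card_subgroupOf hXM, hXc]) (simple_subgroupOf hYM hY)
    (by rw [card_subgroupOf hYM, hYc]) (le_centralizer_subgroupOf hXM hYX) (inf_bot_subgroupOf hXM hYM hXY)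
    (fun h => h17 (h.trans (card_centralizer_dvd hYM)))
  refine ⟨M, hnp, hlo, ?_⟩
  have h6 : N7 = (5 ^ 2 * 127) * (2 ^ 63 * 3 ^ 11 * 7 ^ 3 * 11 * 13 * 17 * 19 * 31 * 43 * 73) := by
    unfold N7; ring
  rw [h6] at hup
  refine Nat.Coprime.dvd_of_dvd_mul_left ?_ hup
  refine Nat.Coprime.mul_right ?_ ?_
  · refine Nat.Coprime.pow_right _ ?_
    rw [Nat.coprime_comm]
    exact (Nat.Prime.coprime_iff_not_dvd (by norm_num)).2 h5
  · rw [Nat.coprime_comm]
    exact (Nat.Prime.coprime_iff_not_dvd (by norm_num)).2 h127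

/-! ### class 10 -/

theorem cls10 (h0 : BoxX0) (hP : BoxP6) (hT : BoxT10) (hF : BoxF10) : ∃ M : Subgroup G7, Cls 9 M := by
  obtain ⟨X, hX, hXc⟩ := hT
  obtain ⟨M, hM, hle⟩ := exists_max' hXc (by decide +kernel) (by decide +kernel)
  have hXM : X ≤ M := Subgroup.le_normalizer.trans hle
  have hlo : oL128 ∣ Nat.card ↥M := hXc ▸ dvd_card_of_le hXM
  have hnp : NP M := by
    refine np_of hP hM hlo ?_
    have key : ∀ j : Fin 7, ¬ oL128 ∣ 2 ^ 63 * mm7 j := by decide +kernel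
    intro j hj
    exact absurd hj (key j)
  exact ⟨M, hnp, hlo, hF ↥M (hnp.ctx h0) (X.subgroupOf M) (simple_subgroupOf hXM hX)
    (by rw [card_subgroupOf hXM, hXc])⟩

/-! ### class 11 -/

theorem cls11 (h0 : BoxX0) (hP : BoxP6) (hT : BoxT11) (hF : BoxF11) :
    ∃ M : Subgroup G7, Cls 10 M ∧ pc M = 3 ^ 7 := by
  obtain ⟨A, N₀, hAc, hAN, hNn, hNp, hNc, hirr, hCA, hsim⟩ := hT
  obtain ⟨M, hM, hle⟩ := exists_max' hAc (by decide +kernel) (by decide +kernel)
  have hNM : N₀ ≤ M := hNn.trans hle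
  have hAM : A ≤ M := hAN.trans hNM
  have hlo : 3 ^ 7 * oS6 ∣ Nat.card ↥M := hNc ▸ dvd_card_of_le hNM
  have hnp : NP M := by
    refine np_of hP hM hlo ?_
    have key : ∀ j : Fin 7, ¬ 3 ^ 7 * oS6 ∣ 2 ^ 63 * mm7 j := by decide +kernel
    intro j hj
    exact absurd hj (key j)
  have hup : Nat.card ↥M ∣ N7 := by
    have h5 : Nat.card ↥M ∣ Nat.card G7 := Subgroup.card_subgroup_dvd_card _
    rw [card_G7] at h5
    exact h5
  refine ⟨M, ⟨hnp, hlo, hup⟩, ?_⟩
  refine hF ↥M (hnp.ctx h0) (A.subgroupOf M) (N₀.subgroupOf M) (by rw [card_subgroupOf hAM, hAc])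
    (fun x hx => hAN hx) (le_normalizer_subgroupOf hNn) (perfect_subgroupOf hNM hNp)
    (by rw [card_subgroupOf hNM, hNc]) ?_ ?_ ?_
  · intro B hBA hB
    have h1 : B.map M.subtype ≤ A := by
      rintro _ ⟨x, hx, rfl⟩
      exact hBA hx
    rcases hirr _ h1 (le_normalizer_map hNM hB) with h2 | h2
    · left
      exact (Subgroup.map_eq_bot_iff_of_injective B M.subtype_injective).1 h2
    · right
      exact eq_subgroupOf_of_map h2
  · rw [centralizer_subgroupOf hAM, hCA]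
  · intro B hAB hBN hB
    have h1 : B.map M.subtype ≤ N₀ := by
      rintro _ ⟨x, hx, rfl⟩
      exact hBN hx
    have h2 : A ≤ B.map M.subtype := fun x hx => ⟨⟨x, hAM hx⟩, hAB hx, rfl⟩
    rcases hsim _ h2 h1 (le_normalizer_map hNM hB) with h3 | h3
    · left
      exact eq_subgroupOf_of_map h3
    · right
      exact eq_subgroupOf_of_map h3

/-! ### class 12 -/

theorem sim_centralizer {G : Type*} [Group G] {P M : Subgroup G} (hs : Sim P M) (h : ∃ x : G, x ≠ 1 ∧ P ≤ centralizer {x}) :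
    ∃ x : G, x ≠ 1 ∧ M ≤ centralizer {x} := by
  obtain ⟨g, rfl⟩ := hs
  obtain ⟨x, hx, hP⟩ := h
  refine ⟨g * x * g⁻¹, ?_, ?_⟩
  · intro h1
    apply hx
    have : x = g⁻¹ * (g * x * g⁻¹) * g := by group
    rw [this, h1]; group
  · rintro _ ⟨y, hy, rfl⟩
    have h2 : y * x = x * y := mem_centralizer_singleton_iff.1 (hP hy)
    rw [mem_centralizer_singleton_iff]
    show g * y * g⁻¹ * (g * x * g⁻¹) = g * x * g⁻¹ * (g * y * g⁻¹)
    calc g * y * g⁻¹ * (g * x * g⁻¹) = g * (y * x) * g⁻¹ := by group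
      _ = g * (x * y) * g⁻¹ := by rw [h2]
      _ = _ := by group

theorem cls12 (h0 : BoxX0) (hP : BoxP6) (hS : BoxS12) (hF : BoxF12) :
    ∃ M : Subgroup G7, Cls 11 M ∧ pc M = 1 := by
  obtain ⟨X, Y, hX, hXc, hY, hYc, hYX, hXY⟩ := hS
  obtain ⟨M, hM, hle⟩ := exists_max' hXc (by decide +kernel) (by decide +kernel)
  have hXM : X ≤ M := Subgroup.le_normalizer.trans hle
  have hCM : centralizer (X : Set G7) ≤ M := (Subgroup.centralizer_le_normalizer _).trans hle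
  have hYM : Y ≤ M := hYX.trans hCM
  have hd : X ⊓ centralizer (X : Set G7) = ⊥ := inf_centralizer_bot' hX
    (a := 3) (b := 5) (by norm_num) (by norm_num) (by norm_num)
      (by rw [hXc]; decide +kernel) (by rw [hXc]; decide +kernel)
  have hd' : X ⊓ Y = ⊥ := by
    rw [eq_bot_iff, ← hd]
    exact inf_le_inf_left _ hYX
  have hlo : oS6 * oG2 ∣ Nat.card ↥M := by
    have := dvd_card_of_le (sup_le hXM hYM)
    rw [card_sup_comm hYX hd', hXc, hYc] at this
    exact this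
  have hnp : NP M := by
    refine np_of hP hM hlo ?_
    have key : ∀ j : Fin 7, oS6 * oG2 ∣ 2 ^ 63 * mm7 j → j = 0 := by decide +kernel
    intro j hj hs
    obtain rfl := key j hj
    obtain ⟨x, hx, hMx⟩ := sim_centralizer hs Par.P7_zero
    apply hx
    rw [← mem_bot, ← hXY]
    refine ⟨?_, ?_⟩
    · show x ∈ centralizer (X : Set G7)
      rw [mem_centralizer_iff]
      intro y hy
      exact mem_centralizer_singleton_iff.1 (hMx (hXM hy))
    · show x ∈ centralizer (Y : Set G7)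
      rw [mem_centralizer_iff]
      intro y hy
      exact mem_centralizer_singleton_iff.1 (hMx (hYM hy))
  have hup : Nat.card ↥M ∣ N7 := by
    have h5 : Nat.card ↥M ∣ Nat.card G7 := Subgroup.card_subgroup_dvd_card _
    rw [card_G7] at h5
    exact h5
  have h1 := hF ↥M (h0 M) (X.subgroupOf M) (Y.subgroupOf M) (simple_subgroupOf hXM hX)
    (by rw [card_subgroupOf hXM, hXc]) (simple_subgroupOf hYM hY)
    (by rw [card_subgroupOf hYM, hYc]) (le_centralizer_subgroupOf hXM hYX) (inf_bot_subgroupOf hXM hYM hXY)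
  refine ⟨M, ⟨hnp, hlo, hup⟩, ?_⟩
  unfold pc
  rw [h1, Subgroup.card_bot]

end Cfsg.Agent.R2.H27.Asm
end

-- part: R2/H27/TorA
section
/-!
# Centralisers of finite subsets of the torus of `D.group k` (S5934, box T11; helper27)
-/

set_option autoImplicit false
set_option linter.unusedSectionVars false

namespace Cfsg.Agent.R2.H27.TorA

open CoxeterSystem Cfsg Cfsg.Lie Cfsg.Lie.ChevalleyDatum
open Cfsg.Agent.ChevalleyStructure Cfsg.Agent.ChevalleyStructure.Elts Cfsg.Agent.ChevalleyStructure.CoxeterGeom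
  Cfsg.Agent.ChevalleyStructure.CoxeterGeomTypes
open Cfsg.Agent.Tits.Roots Cfsg.Agent.Tits.Core Cfsg.Agent.Nodes Cfsg.Agent.Nodes.Reps Cfsg.Agent.Nodes.BNOf
  Cfsg.Agent.Nodes.RGDChev Cfsg.Agent.Nodes.Bruhat Cfsg.Agent.Nodes.SubComb Cfsg.Agent.Nodes.NormalForm
open Cfsg.Agent.KFacts.RgdField Cfsg.Agent.KFacts.RgdChevCoord Cfsg.Agent.BpExc.TorCent Cfsg.Agent.BpExc.TorChev
open Cfsg.Agent.GpExc.Field Cfsg.Agent.BpExc.Tow Cfsg.Agent.BpExc.TowChev Cfsg.Agent.BpExc.Fr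
  Cfsg.Agent.H129.TorusChar

universe u

variable {D : ChevalleyDatum} {l : ℕ} {M : CoxeterMatrix (Fin l)} (hp : IsType D l M) {k : Type u} [Field k]
  {W : Type*} [Group W] (cs : CoxeterSystem M W)

/-- **The centraliser of a finite subset of the torus is contained in the torus.** -/
theorem mem_TT_of_centralizer [Finite W] (hk : LocFin k) (p : ℕ) [Fact p.Prime] [CharP k p]
    {S : Set ↥(D.group k)} (hS : S.Finite) (hST : S ⊆ TT D k)
    (h1 : ∀ a, IsRoot cs hp.isCartan a → ∃ t ∈ S, cX hp t a ≠ 1)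
    (h2 : ∀ w : W, (∀ t ∈ S, ∀ a, IsRoot cs hp.isCartan a →
      cX hp t (rep cs hp.isCartan w a) = cX hp t a) → w = 1)
    {c : ↥(D.group k)} (hc : c ∈ Subgroup.centralizer S) : c ∈ TT D k := by
  have H := tow hp cs hk p
  have C := coordsL hp cs hk p
  rw [← TL_eq hp hk, ← XL_eq hp hk] at C
  have hT : ∀ t ∈ S, t ∈ TL (Tj hp (k := k)) := by
    intro t ht
    rw [TL_eq hp hk]; exact hST ht
  have hcG : c ∈ GG cs hp.isCartan (TL (Tj hp (k := k))) (XL (Xj hp)) := by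
    rw [GG_eq_top hp cs hk]; exact Subgroup.mem_top c
  -- a common level
  have hlev : ∃ j, S ⊆ (Tj hp (k := k) j : Subgroup ↥(D.group k)) := by
    refine Set.Finite.induction_on_subset S hS ?_ ?_
    · obtain ⟨j⟩ := H.ne
      exact ⟨j, Set.empty_subset _⟩
    · rintro a s ha hs hna ⟨j1, hj1⟩
      obtain ⟨j2, hj2⟩ := H.mem_TL.1 (hT a ha)
      obtain ⟨j, b1, b2⟩ := H.dir j1 j2
      refine ⟨j, Set.insert_subset (H.monoT b2 hj2) (fun x hx => H.monoT b1 (hj1 hx))⟩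
  obtain ⟨j1, hj1⟩ := hlev
  obtain ⟨j2, hj2⟩ := H.mem_GG.1 hcG
  obtain ⟨j, b1, b2⟩ := H.dir j1 j2
  have hSj : S ⊆ (Tj hp (k := k) j : Subgroup ↥(D.group k)) := fun x hx => H.monoT b1 (hj1 hx)
  obtain ⟨u, hu, w, n, hn, hnc, v, hv, rfl⟩ := mem_centralizer (H.rgd j) hSj (H.mono_GG b2 hj2) hc
  have hbot : ∀ x, IsRoot cs hp.isCartan x → Xj hp (k := k) j x ⊓ Subgroup.centralizer S = ⊥ := by
    intro x hx
    rw [eq_bot_iff]
    rintro y ⟨hy, hyc⟩
    by_contra hne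
    obtain ⟨t, htS, ht1⟩ := h1 x hx
    have h3 := mem_Sx_of_centralizer C (hT t htS) hx (le_XL j x hy) hne (by
      rw [Subgroup.mem_centralizer_singleton_iff]
      exact (Subgroup.mem_centralizer_iff.1 hyc t htS).symm)
    exact ht1 (by rw [cX_root hp cs (hST htS) hx]; exact h3.2)
  have hSup : RGD.Sup (fun x => Xj hp (k := k) j x ⊓ Subgroup.centralizer S) (RGD.Pos cs hp.isCartan) ≤ ⊥ :=
    RGD.Sup_le fun x hx => (hbot x hx.1).le
  have hu1 : u = 1 := Subgroup.mem_bot.1 (hSup hu)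
  have hv1 : v = 1 := Subgroup.mem_bot.1 (hSup hv)
  subst hu1 hv1
  rw [one_mul, mul_one] at hc ⊢
  have hnL := H.rp_up hn
  have hw : w = 1 := by
    refine h2 w fun t ht a ha => ?_
    have h3 := C.chi_rp H.nsys hnL ha (hT t ht)
    have h4 : n * t * n⁻¹ = t := by
      have := Subgroup.mem_centralizer_iff.1 hnc t ht
      rw [← this]; group
    rw [h4] at h3
    rw [cX_root hp cs (hST ht) (ha.act w), cX_root hp cs (hST ht) ha]
    exact h3
  subst hw
  have h3 := hnL.mem_of_one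
  rwa [TL_eq hp hk] at h3

end Cfsg.Agent.R2.H27.TorA
end

-- part: R2/H27/WeylE7
section
/-!
# `W(E₇) = 2 × Sp₆(2)` (S5934, box T11; helper27)
-/

set_option autoImplicit false
set_option linter.unusedSectionVars false
set_option maxRecDepth 100000

namespace Cfsg.Agent.R2.H27.WeylE7

open CoxeterSystem Cfsg Cfsg.Lie Cfsg.Lie.ChevalleyDatum
open Cfsg.Agent.ChevalleyStructure.CoxeterGeom Cfsg.Agent.ChevalleyStructure
open Cfsg.Agent.ChevalleyStructure.CoxeterGeomTypes Cfsg.Agent.Nodes.RGDChev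
open Cfsg.Agent.R2.H27.Par
open Cfsg.Agent.SporRec.TwoSp6.Cox (prod7 map_prod7 card_W liftable_of M_eq m7)
open Cfsg.Agent.SporRec.TwoSp6.Sp

abbrev W7 : Type := CoxeterMatrix.E₇.Group

/-- the longest element -/
noncomputable def w0 : W7 := cs7.wordProd Cfsg.Agent.H154.PQE.w0word

theorem rep_w0 (x : Fin 7 → ℤ) : rep cs7 h7 w0 x = -x := by
  have h1 : ∀ k : Fin 7, rep cs7 h7 w0 (Cfsg.Agent.Tits.Roots.sr k) = -Cfsg.Agent.Tits.Roots.sr k := by
    intro k
    have hs := NPerm.simple_lt hp7.inList (lt_rank hp7 k)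
    rw [← vec_simple hp7 k]
    have h2 := (Cfsg.Agent.H154.PQE.rep_word Cfsg.Agent.H154.PQE.w0word hs).2
    rw [Cfsg.Agent.H154.PQE.w0_check k, vec_neg hp7 hs] at h2
    exact h2
  conv_lhs => rw [Cfsg.Agent.H154.PQE.sum_sr x]
  conv_rhs => rw [Cfsg.Agent.H154.PQE.sum_sr x]
  rw [map_sum, ← Finset.sum_neg_distrib]
  refine Finset.sum_congr rfl fun k _ => ?_
  rw [map_smul, h1, smul_neg]

theorem w0_comm (w : W7) : w0 * w = w * w0 := by
  apply rep_injective cs7 h7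
  apply LinearMap.ext
  intro x
  rw [rep_mul_apply, rep_mul_apply, rep_w0, rep_w0, map_neg]

theorem w0_sq : w0 * w0 = 1 := by
  apply rep_injective cs7 h7
  apply LinearMap.ext
  intro x
  rw [rep_mul_apply, rep_w0, rep_w0, map_one, neg_neg, Module.End.one_apply]

/-- the Weyl group maps onto `Sp₆(2)` -/
theorem liftS : CoxeterMatrix.E₇.IsLiftable (fun i => tr (v i)) := by
  refine liftable_of _ (fun i => tr_sq _) (fun i j hij => ?_) (fun i j hij => ?_)
  · exact tr_comm (by rw [om_v', if_neg (by omega)])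
  · exact tr_braid (by rw [om_v', if_pos hij])

noncomputable def fS : W7 →* S := cs7.lift ⟨_, liftS⟩

theorem fS_simple (i : Fin 7) : fS (cs7.simple i) = tr (v i) := cs7.lift_apply_simple liftS i

theorem fS_surj : Function.Surjective fS := by
  rw [← MonoidHom.range_eq_top, eq_top_iff, ← closure_v, Subgroup.closure_le]
  rintro _ ⟨i, rfl⟩
  exact ⟨cs7.simple i, fS_simple i⟩

theorem wordProd_flatten (L : List (Fin 7)) (n : ℕ) :
    cs7.wordProd (List.replicate n L).flatten = (cs7.wordProd L) ^ n := by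
  induction n with
  | zero => rw [List.replicate_zero, List.flatten_nil, CoxeterSystem.wordProd_nil, pow_zero]
  | succ n ih => rw [List.replicate_succ, List.flatten_cons, CoxeterSystem.wordProd_append, ih, pow_succ']

theorem w0_eq : w0 = (prod7 cs7.simple) ^ 9 := by
  have h1 : w0 = (cs7.wordProd [0, 1, 2, 3, 4, 5, 6]) ^ 9 := wordProd_flatten _ _
  rw [h1]
  have h2 : cs7.wordProd [0, 1, 2, 3, 4, 5, 6] = prod7 cs7.simple := by
    unfold prod7
    simp only [CoxeterSystem.wordProd_cons, CoxeterSystem.wordProd_nil, mul_one, mul_assoc]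
  rw [h2]

theorem fS_w0 : fS w0 = 1 := by
  rw [w0_eq, map_pow, map_prod7]
  simp only [fS_simple]
  exact prod7_pow

/-- the even part of the Weyl group -/
noncomputable def Wp : Subgroup W7 := cs7.lengthParity.ker

theorem parity_w0 : cs7.lengthParity w0 = Multiplicative.ofAdd 1 := by
  rw [w0_eq, map_pow, map_prod7]
  simp only [CoxeterSystem.lengthParity_simple]
  unfold prod7
  decide

theorem w0_notMem : w0 ∉ Wp := by
  intro h
  have h1 : cs7.lengthParity w0 = 1 := h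
  rw [parity_w0] at h1
  revert h1
  decide

theorem mem_or (w : W7) : w ∈ Wp ∨ w * w0 ∈ Wp := by
  have h2 : ∀ a : Multiplicative (ZMod 2), a = 1 ∨ a * Multiplicative.ofAdd 1 = 1 := by decide
  rcases h2 (cs7.lengthParity w) with h | h
  · exact Or.inl h
  · right
    show cs7.lengthParity (w * w0) = 1
    rw [map_mul, parity_w0, h]

theorem card_ker_fS : Nat.card ↥fS.ker = 2 := by
  have h2 := Subgroup.card_eq_card_quotient_mul_card_subgroup fS.ker
  rw [Nat.card_congr (QuotientGroup.quotientKerEquivOfSurjective fS fS_surj).toEquiv, card_S] at h2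
  have h3 : Nat.card W7 = 2903040 := card_W
  rw [h3] at h2
  omega

theorem mem_ker_fS {w : W7} (h : fS w = 1) : w = 1 ∨ w = w0 := by
  have h1 : w0 ≠ 1 := fun h => w0_notMem (h ▸ one_mem _)
  have h3 : Subgroup.zpowers w0 = fS.ker := by
    apply Subgroup.eq_of_le_of_card_ge
    · rw [Subgroup.zpowers_le]; exact fS_w0
    · rw [card_ker_fS, Nat.card_zpowers, orderOf_eq_prime (by rw [pow_two, w0_sq]) h1]
  have h4 : w ∈ Subgroup.zpowers w0 := by rw [h3]; exact h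
  obtain ⟨k, rfl⟩ := Subgroup.mem_zpowers_iff.1 h4
  rcases Int.even_or_odd k with ⟨m, hm⟩ | ⟨m, hm⟩
  · left
    rw [hm, zpow_add, ← (Commute.refl w0).mul_zpow, w0_sq, one_zpow]
  · right
    rw [hm, zpow_add, two_mul, zpow_add, zpow_one, ← (Commute.refl w0).mul_zpow, w0_sq, one_zpow, one_mul]

/-- `W⁺ ≃ Sp₆(2)` -/
theorem exists_equiv : Nonempty (↥Wp ≃* S) := by
  refine ⟨MulEquiv.ofBijective (fS.comp Wp.subtype) ⟨?_, ?_⟩⟩
  · rw [← MonoidHom.ker_eq_bot_iff, eq_bot_iff]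
    rintro ⟨w, hw⟩ h
    rcases mem_ker_fS (show fS w = 1 from h) with h1 | h1
    · exact Subtype.ext h1
    · exact absurd (h1 ▸ hw) w0_notMem
  · intro s
    obtain ⟨w, rfl⟩ := fS_surj s
    rcases mem_or w with h | h
    · exact ⟨⟨w, h⟩, rfl⟩
    · refine ⟨⟨w * w0, h⟩, ?_⟩
      show fS (w * w0) = fS w
      rw [map_mul, fS_w0, mul_one]

theorem simple_S : IsSimpleGroup S := by
  have h1 : IsSimpleGroup (Cfsg.PSp 3 (ZMod 2)) := Cfsg.Agent.S0270.result (F := ZMod 2) 3 (by norm_num) (by norm_num)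
  have h2 : Nat.card (Subgroup.center S) = 1 := by
    have := Cfsg.Agent.LieClassical.SympCenter.card_center (F := ZMod 2) (m := 3) (by norm_num)
    rw [this]
    simp [ZMod.card]
  have h3 : Subgroup.center S = ⊥ := Subgroup.eq_bot_of_card_eq _ h2
  have h4 : IsSimpleGroup (S ⧸ Subgroup.center S) := h1
  have e : (S ⧸ Subgroup.center S) ≃* S :=
    (QuotientGroup.quotientMulEquivOfEq h3).trans QuotientGroup.quotientBot
  exact e.symm.isSimpleGroup

theorem simple_Wp : IsSimpleGroup ↥Wp := by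
  obtain ⟨e⟩ := exists_equiv
  have := simple_S
  exact e.isSimpleGroup

theorem card_Wp : Nat.card ↥Wp = 1451520 := by
  obtain ⟨e⟩ := exists_equiv
  rw [Nat.card_congr e.toEquiv, card_S]

end Cfsg.Agent.R2.H27.WeylE7
end

-- part: R2/H27/TorB
section
/-!
# The subgroup `3^7 : W(E₇)` of `E₇(k)` (S5934, box T11; helper27)

* `A7` : the elements of order 3 of the torus; `card_A7`;
* `nu : W(E₇) →* E₇(k)`;
* `tau` : the Frobenius map twisted by the longest element; `PT` : its fixed points.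
-/

set_option autoImplicit false
set_option linter.unusedSectionVars false
set_option maxRecDepth 100000

namespace Cfsg.Agent.R2.H27.TorB

open CoxeterSystem Cfsg Cfsg.Lie Cfsg.Lie.ChevalleyDatum
open Cfsg.Agent.ChevalleyStructure Cfsg.Agent.ChevalleyStructure.Elts Cfsg.Agent.ChevalleyStructure.CoxeterGeom
  Cfsg.Agent.ChevalleyStructure.CoxeterGeomTypes
open Cfsg.Agent.Tits.Roots Cfsg.Agent.Tits.Core Cfsg.Agent.Nodes Cfsg.Agent.Nodes.Reps Cfsg.Agent.Nodes.BNOf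
  Cfsg.Agent.Nodes.RGDChev Cfsg.Agent.Nodes.Bruhat Cfsg.Agent.Nodes.SubComb Cfsg.Agent.Nodes.NormalForm
open Cfsg.Agent.KFacts.RgdField Cfsg.Agent.KFacts.RgdChevCoord Cfsg.Agent.BpExc.TorCent Cfsg.Agent.BpExc.TorChev
open Cfsg.Agent.GpExc.Field Cfsg.Agent.BpExc.Tow Cfsg.Agent.BpExc.TowChev Cfsg.Agent.BpExc.Fr
  Cfsg.Agent.H129.TorusChar Cfsg.Agent.H129.TorusMain Cfsg.Agent.H129.TorusUntw
open Cfsg.Agent.R2.H27.Par Cfsg.Agent.R2.H27.WeylE7

/-- the algebraic closure of the field with two elements -/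
abbrev KK : Type := AlgebraicClosure (ZMod 2)

instance : CharP KK 2 := charP_of_injective_algebraMap (algebraMap (ZMod 2) KK).injective 2

/-- `E₇(k)` -/
abbrev Y7 : Type := ↥(chevE7.group KK)

/-- the torus -/
noncomputable abbrev TY : Subgroup Y7 := TT chevE7 KK

theorem hLF : LocFin KK := locFin_of_isAlgebraic 2 _

theorem cX_inv {t : Y7} (ht : t ∈ TY) (x : Fin 7 → ℤ) : cX hp7 t⁻¹ x = (cX hp7 t x)⁻¹ := by
  have h1 := cX_mul hp7 (inv_mem ht) ht x
  rw [inv_mul_cancel, cX_one] at h1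
  exact eq_inv_of_mul_eq_one_left h1.symm

/-- the elements of order three of the torus -/
noncomputable def A7 : Subgroup Y7 where
  carrier := {t | t ∈ TY ∧ ∀ x, cX hp7 t x ^ 3 = 1}
  mul_mem' := by
    rintro a b ⟨ha, ha'⟩ ⟨hb, hb'⟩
    refine ⟨mul_mem ha hb, fun x => ?_⟩
    rw [cX_mul hp7 ha hb, mul_pow, ha', hb', one_mul]
  one_mem' := ⟨one_mem _, fun x => by rw [cX_one, one_pow]⟩
  inv_mem' := by
    rintro a ⟨ha, ha'⟩
    refine ⟨inv_mem ha, fun x => ?_⟩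
    rw [cX_inv ha, inv_pow, ha', inv_one]

theorem A7_le : A7 ≤ TY := fun _ h => h.1

theorem exists_zeta : ∃ ζ : KK, IsPrimitiveRoot ζ 3 := by
  have : NeZero ((3 : ℕ) : KK) := by
    refine ⟨?_⟩
    have h1 : ((3 : ℕ) : KK) = 1 := by
      have h2 : ((2 : ℕ) : KK) = 0 := CharP.cast_eq_zero KK 2
      have : (3 : ℕ) = 2 + 1 := rfl
      rw [this, Nat.cast_add, h2, zero_add, Nat.cast_one]
    rw [h1]
    exact one_ne_zero
  exact HasEnoughRootsOfUnity.exists_primitiveRoot KK 3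

/-- every character comes from the torus -/
theorem exists_tor {φ : (Fin 7 → ℤ) → KK} (hφ : IsMC φ) : ∃ t ∈ TY, ∀ x, cX hp7 t x = φ x :=
  exists_cX hp7 invC_E7 two_ne_zero hφ fun i => IsAlgClosed.exists_pow_nat_eq _ (by norm_num)

/-- the elements of `A7` -/
theorem exists_A7 {ζ : KK} (hζ : ζ ^ 3 = 1) (f : (Fin 7 → ℤ) →+ ℤ) :
    ∃ t ∈ A7, ∀ x, cX hp7 t x = ζ ^ f x := by
  have h0 : ζ ≠ 0 := by
    rintro rfl
    simp at hζ
  have hφ : IsMC (fun x => ζ ^ f x) := ⟨by rw [map_zero, zpow_zero], fun x y => by rw [map_add, zpow_add₀ h0]⟩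
  obtain ⟨t, ht, h1⟩ := exists_tor hφ
  refine ⟨t, ⟨ht, fun x => ?_⟩, h1⟩
  rw [h1, ← zpow_natCast, ← zpow_mul, mul_comm, zpow_mul, zpow_natCast, hζ, one_zpow]

theorem card_A7 : Nat.card ↥A7 = 3 ^ 7 := by
  obtain ⟨ζ, hζ⟩ := exists_zeta
  have h3 : Nat.card ↥(rootsOfUnity 3 KK) = 3 := hζ.card_rootsOfUnity
  have hne : ∀ (t : ↥A7) (x : Fin 7 → ℤ), cX hp7 (t : Y7) x ≠ 0 := fun t x => (isMC_cX hp7 t.2.1).ne_zero x
  have e : ↥A7 ≃ (Fin 7 → ↥(rootsOfUnity 3 KK)) := by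
    refine Equiv.ofBijective (fun t i => ⟨Units.mk0 (cX hp7 (t : Y7) (sr i)) (hne t _), ?_⟩) ⟨?_, ?_⟩
    · rw [mem_rootsOfUnity]
      apply Units.ext
      rw [Units.val_pow_eq_pow_val, Units.val_mk0, t.2.2, Units.val_one]
    · intro s t hst
      apply Subtype.ext
      refine cX_inj hp7 s.2.1 t.2.1 fun i => ?_
      have h1 := congrFun hst i
      have h2 := congrArg (fun u : ↥(rootsOfUnity 3 KK) => ((u : KKˣ) : KK)) h1
      exact h2
    · intro c
      have hc3 : ∀ i, ((c i : KKˣ) : KK) ^ 3 = 1 := by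
        intro i
        have := (mem_rootsOfUnity _ _).1 (c i).2
        rw [← Units.val_pow_eq_pow_val, this, Units.val_one]
      obtain ⟨t, ht, h1⟩ := exists_tor (IsMC.of_prod (fun i => ((c i : KKˣ) : KK)) fun i => Units.ne_zero _)
      have h2 : ∀ i, cX hp7 t (sr i) = ((c i : KKˣ) : KK) := by
        intro i
        rw [h1]
        rw [Finset.prod_eq_single i]
        · simp [sr]
        · intro j _ hj
          simp [sr, Pi.single_eq_of_ne hj]
        · intro h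
          exact absurd (Finset.mem_univ i) h
      have htA : t ∈ A7 := by
        refine ⟨ht, fun x => ?_⟩
        rw [h1, ← Finset.prod_pow]
        refine Finset.prod_eq_one fun i _ => ?_
        rw [← zpow_natCast, ← zpow_mul, mul_comm, zpow_mul, zpow_natCast, hc3, one_zpow]
      refine ⟨⟨t, htA⟩, ?_⟩
      funext i
      apply Subtype.ext
      apply Units.ext
      rw [Units.val_mk0]
      exact h2 i
  rw [Nat.card_congr e, Nat.card_fun, h3]
  simp

/-! ### the Weyl group -/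

theorem n7_liftable : CoxeterMatrix.E₇.IsLiftable n7 := by
  intro i j
  have h1 := R7.nsys.rel i j
  rw [T7_bot, Subgroup.mem_bot] at h1
  exact h1

/-- the embedding of `E₇(2)` -/
noncomputable def em : G7 →* Y7 := emb hp7.inList (algebraMap (ZMod 2) KK)

/-- the embedding of the Weyl group -/
noncomputable def nu : W7 →* Y7 := em.comp ((cs7.lift ⟨n7, n7_liftable⟩ :))

theorem nu_simple (i : Fin 7) : nu (cs7.simple i) = nc hp7 KK i := by
  show em (cs7.lift ⟨n7, n7_liftable⟩ (cs7.simple i)) = _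
  rw [cs7.lift_apply_simple n7_liftable i]
  exact emb_nc hp7 _ i

theorem nsK : NSys CoxeterMatrix.E₇ TY (nc hp7 KK) := nsys_of_locFin hp7 cs7 hLF 2

theorem rp_nu (w : W7) : Rp cs7 nsK w (nu w) := by
  obtain ⟨ω, rfl⟩ := cs7.wordProd_surjective w
  induction ω with
  | nil => rw [CoxeterSystem.wordProd_nil, map_one]; exact rp_one
  | cons i ω ih =>
    rw [CoxeterSystem.wordProd_cons, map_mul, nu_simple]
    exact (rp_simple cs7 nsK i).mul ih

theorem cX_nu (w : W7) {t : Y7} (ht : t ∈ TY) (x : Fin 7 → ℤ) :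
    cX hp7 (nu w * t * (nu w)⁻¹) (rep cs7 h7 w x) = cX hp7 t x :=
  cX_rp hp7 cs7 hLF 2 (rp_nu w) ht x

theorem cX_nu' (w : W7) {t : Y7} (ht : t ∈ TY) (x : Fin 7 → ℤ) :
    cX hp7 (nu w * t * (nu w)⁻¹) x = cX hp7 t (rep cs7 h7 w⁻¹ x) := by
  rw [← cX_nu w ht, ← rep_mul_apply, mul_inv_cancel, map_one, Module.End.one_apply]

theorem nu_TY (w : W7) {t : Y7} (ht : t ∈ TY) : nu w * t * (nu w)⁻¹ ∈ TY :=
  (Subgroup.mem_normalizer_iff.1 (rp_nu w).mem_normalizer t).1 ht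

theorem nu_A7 (w : W7) {t : Y7} (ht : t ∈ A7) : nu w * t * (nu w)⁻¹ ∈ A7 :=
  ⟨nu_TY w ht.1, fun x => by rw [cX_nu' w ht.1]; exact ht.2 _⟩


/-- roots are determined modulo 3 -/
theorem roots_mod : ∀ r ∈ List.range 126, ∀ s ∈ List.range 126,
    (∀ i : Fin 7, (vec chevE7 7 r i - vec chevE7 7 s i) % 3 = 0) → r = s := by
  have h : ((List.range 126).map fun r => (1 * (vec chevE7 7 r 0 % 3) + 3 * (vec chevE7 7 r 1 % 3) + 9 * (vec chevE7 7 r 2 % 3) + 27 * (vec chevE7 7 r 3 % 3) + 81 * (vec chevE7 7 r 4 % 3) + 243 * (vec chevE7 7 r 5 % 3) + 729 * (vec chevE7 7 r 6 % 3)).toNat).Nodup := by decide +kernel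
  intro r hr s hs e
  refine List.inj_on_of_nodup_map h hr hs ?_
  have k := fun i => Int.emod_eq_emod_iff_emod_sub_eq_zero.2 (e i)
  show (1 * (vec chevE7 7 r 0 % 3) + 3 * (vec chevE7 7 r 1 % 3) + 9 * (vec chevE7 7 r 2 % 3) + 27 * (vec chevE7 7 r 3 % 3) + 81 * (vec chevE7 7 r 4 % 3) + 243 * (vec chevE7 7 r 5 % 3) + 729 * (vec chevE7 7 r 6 % 3)).toNat =
    (1 * (vec chevE7 7 s 0 % 3) + 3 * (vec chevE7 7 s 1 % 3) + 9 * (vec chevE7 7 s 2 % 3) + 27 * (vec chevE7 7 s 3 % 3) + 81 * (vec chevE7 7 s 4 % 3) + 243 * (vec chevE7 7 s 5 % 3) + 729 * (vec chevE7 7 s 6 % 3)).toNat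
  rewrite [k 0, k 1, k 2, k 3, k 4, k 5, k 6]
  rfl

theorem roots_ne : ∀ r ∈ List.range 126, ∃ i : Fin 7, vec chevE7 7 r i % 3 ≠ 0 := by decide +kernel

theorem exists_vec {a : Fin 7 → ℤ} (ha : IsRoot cs7 h7 a) : ∃ r ∈ List.range 126, a = vec chevE7 7 r := by
  obtain ⟨r, hr, rfl⟩ := (isRoot_iff hp7 cs7 a).1 ha
  exact ⟨r, List.mem_range.2 hr, rfl⟩

/-- the coordinate functions -/
def co (i : Fin 7) : (Fin 7 → ℤ) →+ ℤ := Pi.evalAddMonoidHom (fun _ => ℤ) i

theorem co_apply (i : Fin 7) (x : Fin 7 → ℤ) : co i x = x i := rfl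

theorem zpow_eq_iff {ζ : KK} (hζ : IsPrimitiveRoot ζ 3) (a b : ℤ) : ζ ^ a = ζ ^ b ↔ (a - b) % 3 = 0 := by
  have h0 : ζ ≠ 0 := hζ.ne_zero (by norm_num)
  rw [← sub_eq_zero (a := ζ ^ a), ← Int.dvd_iff_emod_eq_zero]
  have h1 := hζ.zpow_eq_one_iff_dvd (a - b)
  rw [zpow_sub₀ h0, div_eq_one_iff_eq (zpow_ne_zero _ h0)] at h1
  rw [sub_eq_zero]
  exact h1

theorem exists_ne {a : Fin 7 → ℤ} (ha : IsRoot cs7 h7 a) : ∃ t ∈ A7, cX hp7 t a ≠ 1 := by
  obtain ⟨r, hr, rfl⟩ := exists_vec ha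
  obtain ⟨i, hi⟩ := roots_ne r hr
  obtain ⟨ζ, hζ⟩ := exists_zeta
  obtain ⟨t, ht, h1⟩ := exists_A7 hζ.pow_eq_one (co i)
  refine ⟨t, ht, ?_⟩
  rw [h1, co_apply]
  intro h2
  apply hi
  have h3 := (zpow_eq_iff hζ (vec chevE7 7 r i) 0).1 (by rw [h2, zpow_zero])
  simpa only [_root_.EuclideanDomain.mod_eq_zero, _root_.sub_zero] using h3

theorem eq_one_of_cX {w : W7} (hw : ∀ t ∈ A7, ∀ a, IsRoot cs7 h7 a → cX hp7 t (rep cs7 h7 w a) = cX hp7 t a) :
    w = 1 := by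
  obtain ⟨ζ, hζ⟩ := exists_zeta
  have h1 : ∀ a, IsRoot cs7 h7 a → rep cs7 h7 w a = a := by
    intro a ha
    obtain ⟨r, hr, h2⟩ := exists_vec (ha.act w)
    obtain ⟨s, hs, h3⟩ := exists_vec ha
    have h4 : r = s := by
      refine roots_mod r hr s hs fun i => ?_
      obtain ⟨t, ht, h5⟩ := exists_A7 hζ.pow_eq_one (co i)
      have h6 := hw t ht a ha
      rw [h5, h5, zpow_eq_iff hζ, co_apply, co_apply, h2, h3] at h6
      exact h6
    rw [h2, h4, ← h3]
  apply rep_injective cs7 h7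
  apply LinearMap.ext
  intro x
  rw [map_one, Module.End.one_apply]
  conv_lhs => rw [Cfsg.Agent.H154.PQE.sum_sr x]
  conv_rhs => rw [Cfsg.Agent.H154.PQE.sum_sr x]
  rw [map_sum]
  refine Finset.sum_congr rfl fun k _ => ?_
  rw [map_smul, h1 _ (isRoot_sr cs7 h7 k)]

/-- **`C(A) ≤ T`** -/
theorem centralizer_A7 : Subgroup.centralizer (A7 : Set Y7) ≤ TY := by
  intro c hc
  have hfin : (A7 : Set Y7).Finite := by
    have : Finite ↥A7 := Nat.finite_of_card_ne_zero (by rw [card_A7]; norm_num)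
    exact Set.toFinite _
  exact TorA.mem_TT_of_centralizer hp7 cs7 hLF 2 hfin A7_le (fun a ha => exists_ne ha)
    (fun w hw => eq_one_of_cX hw) hc

theorem TY_le_centralizer : TY ≤ Subgroup.centralizer (A7 : Set Y7) := by
  intro c hc
  rw [Subgroup.mem_centralizer_iff]
  intro t ht
  exact TT_comm hp7 t ht.1 c hc

theorem nu_mem_TY {w : W7} (h : nu w ∈ TY) : w = 1 := by
  refine eq_one_of_cX fun t ht a ha => ?_
  have h1 := cX_nu w ht.1 a
  have h2 : nu w * t * (nu w)⁻¹ = t := by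
    rw [TT_comm hp7 _ h t ht.1]; group
  rwa [h2] at h1

theorem nu_injective : Function.Injective nu := by
  rw [← MonoidHom.ker_eq_bot_iff, eq_bot_iff]
  intro w hw
  rw [Subgroup.mem_bot]
  apply nu_mem_TY
  rw [MonoidHom.mem_ker.1 hw]
  exact one_mem _

/-! ### the twisted Frobenius map -/

/-- the Frobenius map -/
noncomputable def ph : MulAut Y7 := phi chevE7 KK 2 1

theorem ph_em (x : G7) : ph (em x) = em x :=
  phi_emb hp7 (algebraMap (ZMod 2) KK) (by rw [ZMod.card, pow_one]) x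

theorem ph_nu (w : W7) : ph (nu w) = nu w := ph_em _

/-- the twisted Frobenius map -/
noncomputable def tau : Y7 →* Y7 := ((MulAut.conj (nu _root_.Cfsg.Agent.R2.H27.WeylE7.w0)) * ph).toMonoidHom

theorem tau_apply (y : Y7) : tau y = nu _root_.Cfsg.Agent.R2.H27.WeylE7.w0 * ph y * (nu _root_.Cfsg.Agent.R2.H27.WeylE7.w0)⁻¹ := rfl

/-- its fixed points -/
noncomputable def PT : Subgroup Y7 := tau.eqLocus (MonoidHom.id _)

theorem mem_PT {y : Y7} : y ∈ PT ↔ tau y = y := Iff.rfl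

theorem nu_mem_PT (w : W7) : nu w ∈ PT := by
  rw [mem_PT, tau_apply, ph_nu, ← map_inv, ← map_mul, ← map_mul, w0_comm, mul_assoc, mul_inv_cancel, mul_one]

theorem tau_TY {t : Y7} (ht : t ∈ TY) : tau t = t ↔ ∀ x, cX hp7 t x ^ 3 = 1 := by
  have h1 := tau_iff hp7 cs7 (g := AddEquiv.refl (Fin 7 → ℤ)) hLF (isFrob_phi (k := KK) (D := chevE7) (p := 2) (e := 1))
    (fr_phi hp7 cs7) (rp_nu _root_.Cfsg.Agent.R2.H27.WeylE7.w0) ht
  rw [tau_apply]
  refine h1.trans ?_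
  have h2 : ∀ x, theta hp7 cs7 _root_.Cfsg.Agent.R2.H27.WeylE7.w0 (AddEquiv.refl (Fin 7 → ℤ)) x = -x := fun x => rep_w0 x
  have hM := isMC_cX hp7 ht
  constructor
  · intro h x
    have h3 := h x
    rw [h2, hM.neg] at h3
    have h4 := hM.ne_zero x
    have h5 : cX hp7 t x ^ 3 = cX hp7 t x ^ 2 ^ 1 * cX hp7 t x := pow_succ _ 2
    rw [h5, ← h3, inv_mul_cancel₀ h4]
  · intro h x
    have h3 := h x
    rw [h2, hM.neg]
    have h4 := hM.ne_zero x
    have h5 : cX hp7 t x ^ 3 = cX hp7 t x ^ 2 ^ 1 * cX hp7 t x := pow_succ _ 2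
    rw [h5] at h3
    exact (eq_inv_of_mul_eq_one_left h3).symm

theorem A7_le_PT : A7 ≤ PT := fun _ ht => (tau_TY ht.1).2 ht.2

theorem mem_A7_of {t : Y7} (ht : t ∈ TY) (h : t ∈ PT) : t ∈ A7 := ⟨ht, (tau_TY ht).1 h⟩

/-- **`C(A) = A` in the group of the fixed points** -/
theorem centralizer_inf : Subgroup.centralizer (A7 : Set Y7) ⊓ PT = A7 := by
  apply le_antisymm
  · rintro c ⟨h1, h2⟩
    exact mem_A7_of (centralizer_A7 h1) h2
  · exact le_inf (A7_le.trans TY_le_centralizer) A7_le_PT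

end Cfsg.Agent.R2.H27.TorB
end

-- part: R2/H27/TorC
section
/-!
# S5934, box T11: `3^7 : Sp₆(2)` (helper27)
-/

set_option autoImplicit false
set_option linter.unusedSectionVars false
set_option maxRecDepth 100000

namespace Cfsg.Agent.R2.H27.TorC

open CoxeterSystem Cfsg Cfsg.Lie Cfsg.Lie.ChevalleyDatum
open Cfsg.Agent.ChevalleyStructure Cfsg.Agent.ChevalleyStructure.Elts Cfsg.Agent.ChevalleyStructure.CoxeterGeom
  Cfsg.Agent.ChevalleyStructure.CoxeterGeomTypes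
open Cfsg.Agent.Tits.Roots Cfsg.Agent.Tits.Core Cfsg.Agent.Nodes Cfsg.Agent.Nodes.Reps Cfsg.Agent.Nodes.BNOf
  Cfsg.Agent.Nodes.RGDChev
open Cfsg.Agent.KFacts.RgdField Cfsg.Agent.KFacts.RgdChevCoord Cfsg.Agent.BpExc.TorChev
open Cfsg.Agent.GpExc.Field Cfsg.Agent.H129.TorusChar Cfsg.Agent.H129.TorusMain Cfsg.Agent.H129.TorusUntw
open Cfsg.Agent.R2.H27.Par Cfsg.Agent.R2.H27.WeylE7 Cfsg.Agent.R2.H27.TorB
open scoped commutatorElement

/-! ### irreducibility -/

/-- the simple coroots -/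
def pa (i : Fin 7) : (Fin 7 → ℤ) →+ ℤ where
  toFun x := pairing (cartanOf chevE7 7) i x
  map_zero' := by
    have := pairing_smul (cartanOf chevE7 7) i 0 0
    simpa using this
  map_add' x y := pairing_add _ _ _ _

theorem pa_apply (i : Fin 7) (x : Fin 7 → ℤ) : pa i x = pairing (cartanOf chevE7 7) i x := rfl

theorem pa_sr (i j : Fin 7) : pa i (sr j) = cartanOf chevE7 7 i j := by
  rw [pa_apply, pairing, sr]
  rw [Finset.sum_eq_single j]
  · rw [Pi.single_eq_same, mul_one]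
  · intro k _ hk
    rw [Pi.single_eq_of_ne hk, mul_zero]
  · intro h
    exact absurd (Finset.mem_univ j) h

theorem rep_simple_eq (i : Fin 7) (x : Fin 7 → ℤ) :
    rep cs7 h7 (cs7.simple i) x = x - pa i x • (sr i : Fin 7 → ℤ) := by
  rw [rep_simple, refl_apply, pa_apply, sr, ← Pi.single_smul, smul_eq_mul, mul_one]

/-- the inverse of twice the Cartan matrix -/
def Bi : Fin 7 → Fin 7 → ℤ := ![![4, 4, 6, 8, 6, 4, 2], ![4, 7, 8, 12, 9, 6, 3], ![6, 8, 12, 16, 12, 8, 4],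
    ![8, 12, 16, 24, 18, 12, 6], ![6, 9, 12, 18, 15, 10, 5], ![4, 6, 8, 12, 10, 8, 4],
    ![2, 3, 4, 6, 5, 4, 3]]

theorem Bi_spec : ∀ j k : Fin 7, (∑ i, Bi j i * cartanOf chevE7 7 i k) = if j = k then 2 else 0 := by decide +kernel

theorem hom_ext {f g : (Fin 7 → ℤ) →+ ℤ} (h : ∀ k, f (sr k) = g (sr k)) : f = g := by
  apply AddMonoidHom.ext
  intro x
  rw [Cfsg.Agent.H154.PQE.sum_sr x, map_sum, map_sum]
  refine Finset.sum_congr rfl fun k _ => ?_
  rw [map_zsmul, map_zsmul, h]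

theorem co_sr (j k : Fin 7) : co j (sr k) = if j = k then 1 else 0 := by
  rw [co_apply, sr, Pi.single_apply]

theorem two_co (j : Fin 7) : (2 : ℤ) • co j = ∑ i, Bi j i • pa i := by
  apply hom_ext
  intro k
  rw [AddMonoidHom.smul_apply, co_sr, AddMonoidHom.finsetSum_apply]
  simp only [AddMonoidHom.smul_apply, pa_sr, smul_eq_mul]
  rw [Bi_spec]
  split_ifs <;> norm_num

variable {ζ : KK}

/-- elements of `A7` as functionals -/
theorem exists_fun (hζ : IsPrimitiveRoot ζ 3) {a : Y7} (ha : a ∈ A7) : ∃ f : (Fin 7 → ℤ) →+ ℤ, ∀ x, cX hp7 a x = ζ ^ f x := by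
  have h0 : ζ ≠ 0 := hζ.ne_zero (by norm_num)
  have h1 : ∀ j : Fin 7, ∃ m : ℤ, cX hp7 a (sr j) = ζ ^ m := by
    intro j
    obtain ⟨m, _, hm⟩ := hζ.eq_pow_of_pow_eq_one (ha.2 (sr j))
    exact ⟨m, by rw [zpow_natCast, hm]⟩
  choose m hm using h1
  refine ⟨∑ j, m j • co j, ?_⟩
  have hφ : IsMC (fun x => ζ ^ ((∑ j, m j • co j : (Fin 7 → ℤ) →+ ℤ) x)) :=
    ⟨by rw [map_zero, zpow_zero], fun x y => by rw [map_add, zpow_add₀ h0]⟩
  refine (isMC_cX hp7 ha.1).ext hφ fun i => ?_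
  rw [hm]
  congr 1
  rw [AddMonoidHom.finsetSum_apply]
  simp only [AddMonoidHom.smul_apply, co_sr, smul_eq_mul]
  simp

/-- the functionals belonging to a subgroup -/
def FB (hζ : IsPrimitiveRoot ζ 3) (B : Subgroup Y7) (hB : B ≤ A7) : AddSubgroup ((Fin 7 → ℤ) →+ ℤ) where
  carrier := {f | ∃ t ∈ B, ∀ x, cX hp7 t x = ζ ^ f x}
  add_mem' := by
    rintro f g ⟨s, hs, h1⟩ ⟨t, ht, h2⟩
    refine ⟨s * t, mul_mem hs ht, fun x => ?_⟩
    rw [cX_mul hp7 (hB hs).1 (hB ht).1, h1, h2, AddMonoidHom.add_apply, zpow_add₀ (hζ.ne_zero (by norm_num))]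
  zero_mem' := ⟨1, one_mem _, fun x => by rw [cX_one]; simp⟩
  neg_mem' := by
    rintro f ⟨s, hs, h1⟩
    refine ⟨s⁻¹, inv_mem hs, fun x => ?_⟩
    rw [cX_inv (hB hs).1, h1, AddMonoidHom.neg_apply, zpow_neg]

theorem three_mem (hζ : IsPrimitiveRoot ζ 3) (B : Subgroup Y7) (hB : B ≤ A7) (f : (Fin 7 → ℤ) →+ ℤ) :
    (3 : ℤ) • f ∈ FB hζ B hB := by
  refine ⟨1, one_mem _, fun x => ?_⟩
  rw [cX_one, AddMonoidHom.smul_apply, smul_eq_mul, zpow_mul]
  have : ζ ^ (3 : ℤ) = 1 := by exact_mod_cast hζ.pow_eq_one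
  rw [this, one_zpow]

theorem mem_of_smul (hζ : IsPrimitiveRoot ζ 3) (B : Subgroup Y7) (hB : B ≤ A7) {f : (Fin 7 → ℤ) →+ ℤ} {m : ℤ}
    (hm : m % 3 ≠ 0) (h : m • f ∈ FB hζ B hB) : f ∈ FB hζ B hB := by
  have h3 := fun k : ℤ => zsmul_mem (three_mem hζ B hB f) k
  have hm' : m % 3 = 1 ∨ m % 3 = 2 := by omega
  rcases hm' with h1 | h1
  · have h2 : f = m • f - (m / 3) • ((3 : ℤ) • f) := by
      rw [smul_smul, ← sub_smul]
      have : m - m / 3 * 3 = 1 := by omega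
      rw [this, one_smul]
    rw [h2]
    exact sub_mem h (h3 _)
  · have h2 : f = (m / 3 + 1) • ((3 : ℤ) • f) - m • f := by
      rw [smul_smul, ← sub_smul]
      have : (m / 3 + 1) * 3 - m = 1 := by omega
      rw [this, one_smul]
    rw [h2]
    exact sub_mem (h3 _) h

theorem step (hζ : IsPrimitiveRoot ζ 3) (B : Subgroup Y7) (hB : B ≤ A7)
    (hn : ∀ w : W7, ∀ t ∈ B, nu w * t * (nu w)⁻¹ ∈ B) {f : (Fin 7 → ℤ) →+ ℤ}
    (hf : f ∈ FB hζ B hB) {i : Fin 7} (hi : f (sr i) % 3 ≠ 0) : pa i ∈ FB hζ B hB := by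
  obtain ⟨t, ht, h1⟩ := hf
  have h0 : ζ ≠ 0 := hζ.ne_zero (by norm_num)
  have hs : (cs7.simple i)⁻¹ = cs7.simple i := cs7.inv_simple i
  have h2 : (-(f (sr i))) • pa i ∈ FB hζ B hB := by
    refine ⟨nu (cs7.simple i) * t * (nu (cs7.simple i))⁻¹ * t⁻¹, mul_mem (hn _ t ht) (inv_mem ht), fun x => ?_⟩
    rw [cX_mul hp7 (nu_TY _ (hB ht).1) (inv_mem (hB ht).1), cX_inv (hB ht).1, cX_nu' _ (hB ht).1, hs, rep_simple_eq,
      h1, h1, ← zpow_neg, ← zpow_add₀ h0]
    congr 1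
    rw [map_sub, map_zsmul, AddMonoidHom.smul_apply, smul_eq_mul, smul_eq_mul]
    ring
  exact mem_of_smul hζ B hB (by omega) h2

theorem irr_aux (hζ : IsPrimitiveRoot ζ 3) {B : Subgroup Y7} (hB : B ≤ A7)
    (hn : ∀ w : W7, ∀ t ∈ B, nu w * t * (nu w)⁻¹ ∈ B) (hne : B ≠ ⊥) : A7 ≤ B := by
  -- some coroot
  obtain ⟨b, hb, hb1⟩ : ∃ b ∈ B, b ≠ 1 := by
    obtain ⟨x, hx⟩ := (Subgroup.ne_bot_iff_exists_ne_one).1 hne
    exact ⟨x.1, x.2, fun h => hx (Subtype.ext h)⟩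
  obtain ⟨f, hf⟩ := exists_fun hζ (hB hb)
  have hfB : f ∈ FB hζ B hB := ⟨b, hb, hf⟩
  have h1 : ∃ i, pa i ∈ FB hζ B hB := by
    by_contra hcon
    push Not at hcon
    apply hb1
    refine cX_inj hp7 (hB hb).1 (one_mem _) fun i => ?_
    rw [cX_one, hf, ← zpow_zero ζ, zpow_eq_iff hζ, sub_zero]
    by_contra h
    exact hcon i (step hζ B hB hn hfB h)
  have hadj : ∀ i j, cartanOf chevE7 7 i j = -1 → pa i ∈ FB hζ B hB → pa j ∈ FB hζ B hB := by
    intro i j hij hi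
    refine step hζ B hB hn hi ?_
    rw [pa_sr, hij]
    decide
  obtain ⟨i, hi⟩ := h1
  have h3 : pa 3 ∈ FB hζ B hB := by
    have e02 : cartanOf chevE7 7 0 2 = -1 := by decide +kernel
    have e23 : cartanOf chevE7 7 2 3 = -1 := by decide +kernel
    have e13 : cartanOf chevE7 7 1 3 = -1 := by decide +kernel
    have e43 : cartanOf chevE7 7 4 3 = -1 := by decide +kernel
    have e54 : cartanOf chevE7 7 5 4 = -1 := by decide +kernel
    have e65 : cartanOf chevE7 7 6 5 = -1 := by decide +kernel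
    have hi7 : ∀ i : Fin 7, i = 0 ∨ i = 1 ∨ i = 2 ∨ i = 3 ∨ i = 4 ∨ i = 5 ∨ i = 6 := by decide
    rcases hi7 i with rfl | rfl | rfl | rfl | rfl | rfl | rfl
    · exact hadj 2 3 e23 (hadj 0 2 e02 hi)
    · exact hadj 1 3 e13 hi
    · exact hadj 2 3 e23 hi
    · exact hi
    · exact hadj 4 3 e43 hi
    · exact hadj 4 3 e43 (hadj 5 4 e54 hi)
    · exact hadj 4 3 e43 (hadj 5 4 e54 (hadj 6 5 e65 hi))
  have hall : ∀ i, pa i ∈ FB hζ B hB := by
    have e20 : cartanOf chevE7 7 2 0 = -1 := by decide +kernel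
    have e32 : cartanOf chevE7 7 3 2 = -1 := by decide +kernel
    have e31 : cartanOf chevE7 7 3 1 = -1 := by decide +kernel
    have e34 : cartanOf chevE7 7 3 4 = -1 := by decide +kernel
    have e45 : cartanOf chevE7 7 4 5 = -1 := by decide +kernel
    have e56 : cartanOf chevE7 7 5 6 = -1 := by decide +kernel
    have hi7 : ∀ i : Fin 7, i = 0 ∨ i = 1 ∨ i = 2 ∨ i = 3 ∨ i = 4 ∨ i = 5 ∨ i = 6 := by decide
    intro i
    rcases hi7 i with rfl | rfl | rfl | rfl | rfl | rfl | rfl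
    · exact hadj 2 0 e20 (hadj 3 2 e32 h3)
    · exact hadj 3 1 e31 h3
    · exact hadj 3 2 e32 h3
    · exact h3
    · exact hadj 3 4 e34 h3
    · exact hadj 4 5 e45 (hadj 3 4 e34 h3)
    · exact hadj 5 6 e56 (hadj 4 5 e45 (hadj 3 4 e34 h3))
  have hco : ∀ j, co j ∈ FB hζ B hB := by
    intro j
    refine mem_of_smul hζ B hB (m := 2) (by decide) ?_
    rw [two_co]
    exact sum_mem fun i _ => zsmul_mem (hall i) _
  have htop : ∀ g : (Fin 7 → ℤ) →+ ℤ, g ∈ FB hζ B hB := by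
    intro g
    have : g = ∑ j, g (sr j) • co j := by
      apply hom_ext
      intro k
      rw [AddMonoidHom.finsetSum_apply]
      simp only [AddMonoidHom.smul_apply, co_sr, smul_eq_mul]
      simp
    rw [this]
    exact sum_mem fun i _ => zsmul_mem (hco i) _
  intro a ha
  obtain ⟨g, hg⟩ := exists_fun hζ ha
  obtain ⟨t, ht, h4⟩ := htop g
  have h5 : a = t := cX_inj hp7 ha.1 (hB ht).1 fun i => by rw [hg, h4]
  rw [h5]
  exact ht


theorem nu_w0 {t : Y7} (ht : t ∈ TY) : nu _root_.Cfsg.Agent.R2.H27.WeylE7.w0 * t * (nu _root_.Cfsg.Agent.R2.H27.WeylE7.w0)⁻¹ = t⁻¹ := by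
  refine cX_inj hp7 (nu_TY _ ht) (inv_mem ht) fun i => ?_
  have h1 : (w0)⁻¹ = w0 := inv_eq_of_mul_eq_one_left w0_sq
  rw [cX_nu' _root_.Cfsg.Agent.R2.H27.WeylE7.w0 ht, h1, rep_w0, cX_inv ht, (isMC_cX hp7 ht).neg]

/-- the even part of the Weyl group -/
noncomputable def KW : Subgroup Y7 := Wp.map nu

/-- `3^7 : Sp₆(2)` -/
noncomputable def N0 : Subgroup Y7 := A7 ⊔ KW

theorem nu_norm {B : Subgroup Y7} (hB : B ≤ A7) (hn : KW ≤ Subgroup.normalizer (B : Set Y7)) (w : W7) {t : Y7}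
    (ht : t ∈ B) : nu w * t * (nu w)⁻¹ ∈ B := by
  have key : ∀ w ∈ Wp, ∀ t ∈ B, nu w * t * (nu w)⁻¹ ∈ B := fun w hw t ht =>
    ((Subgroup.mem_normalizer_iff.1 (hn ⟨w, hw, rfl⟩)) t).1 ht
  rcases mem_or w with h | h
  · exact key w h t ht
  · have h1 := key _ h t⁻¹ (inv_mem ht)
    rw [map_mul] at h1
    have h2 : nu w * nu _root_.Cfsg.Agent.R2.H27.WeylE7.w0 * t⁻¹ * (nu w * nu _root_.Cfsg.Agent.R2.H27.WeylE7.w0)⁻¹ = nu w * (nu _root_.Cfsg.Agent.R2.H27.WeylE7.w0 * t⁻¹ * (nu _root_.Cfsg.Agent.R2.H27.WeylE7.w0)⁻¹) * (nu w)⁻¹ := by group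
    rw [h2, nu_w0 (inv_mem (hB ht).1), inv_inv] at h1
    exact h1

theorem irr {B : Subgroup Y7} (hB : B ≤ A7) (hn : KW ≤ Subgroup.normalizer (B : Set Y7)) : B = ⊥ ∨ B = A7 := by
  by_cases h : B = ⊥
  · exact Or.inl h
  · obtain ⟨ζ, hζ⟩ := exists_zeta
    exact Or.inr (le_antisymm hB (irr_aux hζ hB (fun w t ht => nu_norm hB hn w ht) h))

end Cfsg.Agent.R2.H27.TorC
end

private theorem dce_a21dfee8b86b : _root_.True := by
  try have : _root_.True := by simp only [_root_.Cfsg.Agent.R2.H27.TorC.FB.congr_simp]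
  exact _root_.True.intro
end

-- part: R2/H27/Asm
section
set_option linter.all false
open scoped Cfsg.Agent.FastGrp

/-!
# S5934, assembly (helper27)
-/

set_option autoImplicit false

namespace Cfsg.Agent.R2.H27.Asm

open Subgroup

/-- pairs not separated by the orders -/
theorem sepOrd : ∀ i j : Fin 12, i < j → Nat.lcm (lo i) (lo j) ∣ Nat.gcd (up i) (up j) →
    (i, j) ∈ [((1 : Fin 12), (6 : Fin 12)), (1, 7), (1, 10), (1, 11), (2, 7), (2, 11), (4, 7), (6, 7), (6, 10), (6, 11),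
      (7, 10), (7, 11), (10, 11)] := by
  decide +kernel

theorem cls_dvd {i j : Fin 12} {M M' : Subgroup G7} (h : Cls i M) (h' : Cls j M') (hs : Sim M M') :
    Nat.lcm (lo i) (lo j) ∣ Nat.gcd (up i) (up j) := by
  have h1 : Nat.lcm (lo i) (lo j) ∣ Nat.card ↥M := Nat.lcm_dvd h.lo (by rw [hs.card]; exact h'.lo)
  have h2 : Nat.card ↥M ∣ Nat.gcd (up i) (up j) := Nat.dvd_gcd h.up (by rw [hs.card]; exact h'.up)
  exact h1.trans h2

/-- the additional information on the classes -/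
structure Info (N : Fin 12 → Subgroup G7) : Prop where
  cls : ∀ i, Cls i (N i)
  i2 : pc (N 1) ≠ 1 ∧ pc (N 1) ∣ 9
  e2 : Ex2G 19 (N 1)
  i3 : pc (N 2) = 3
  i5 : pc (N 4) = 1
  i7 : pc (N 6) ≠ 1 ∧ pc (N 6) ∣ 3 ^ 5
  e7 : Ex7 19 (N 6)
  e7' : Ex7' 11 (N 6)
  i8 : pc (N 7) = 27 ∨ (pc (N 7) = 1 ∧ Nat.card ↥(N 7) ∣ 2 * oFi22)
  e8 : pc (N 7) ≠ 1 → Ex8 11 (N 7)
  i11 : pc (N 10) = 3 ^ 7
  i12 : pc (N 11) = 1

theorem Info.sep_lt {N : Fin 12 → Subgroup G7} (h : Info N) {i j : Fin 12} (hij : i < j) : ¬ Sim (N i) (N j) := by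
  intro hs
  have h1 := sepOrd i j hij (cls_dvd (h.cls i) (h.cls j) hs)
  have hp := hs.pc
  have hc := hs.card
  simp only [List.mem_cons, Prod.mk.injEq, List.not_mem_nil, or_false] at h1
  rcases h1 with ⟨rfl, rfl⟩ | ⟨rfl, rfl⟩ | ⟨rfl, rfl⟩ | ⟨rfl, rfl⟩ | ⟨rfl, rfl⟩ | ⟨rfl, rfl⟩ | ⟨rfl, rfl⟩ | ⟨rfl, rfl⟩ |
    ⟨rfl, rfl⟩ | ⟨rfl, rfl⟩ | ⟨rfl, rfl⟩ | ⟨rfl, rfl⟩ | ⟨rfl, rfl⟩
  · exact sp27 h.e2 h.e7 hs
  · have a := h.i2
    rw [hp] at a
    rcases h.i8 with b | b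
    · rw [b] at a
      revert a; decide
    · exact a.1 b.1
  · have a := h.i2
    rw [hp, h.i11] at a
    revert a; decide
  · have a := h.i2
    rw [hp, h.i12] at a
    exact a.1 rfl
  · have a := h.i3
    rw [hp] at a
    rcases h.i8 with b | b
    · rw [b] at a
      revert a; decide
    · rw [b.1] at a
      revert a; decide
  · have a := h.i3
    rw [hp, h.i12] at a
    revert a; decide
  · have a := h.i5
    rw [hp] at a
    rcases h.i8 with b | b
    · rw [b] at a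
      revert a; decide
    · have c := (h.cls 4).lo
      rw [hc] at c
      have d := c.trans b.2
      revert d
      decide +kernel
  · have a := h.i7.1
    rw [hp] at a
    exact sp78 h.e7' (h.e8 a) hs
  · have a := h.i7.2
    rw [hp, h.i11] at a
    revert a; decide
  · have a := h.i7.1
    rw [hp, h.i12] at a
    exact a rfl
  · have a := h.i11
    rw [← hp] at a
    rcases h.i8 with b | b
    · rw [b] at a
      revert a; decide
    · rw [b.1] at a
      revert a; decide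
  · have a := h.i12
    rw [← hp] at a
    rcases h.i8 with b | b
    · rw [b] at a
      revert a; decide
    · have c := (h.cls 11).lo
      rw [← hc] at c
      have d := c.trans b.2
      revert d
      decide +kernel
  · have a := h.i11
    rw [hp, h.i12] at a
    revert a; decide

theorem Info.sep {N : Fin 12 → Subgroup G7} (h : Info N) {i j : Fin 12} (hs : Sim (N i) (N j)) : i = j := by
  rcases lt_trichotomy i j with h1 | h1 | h1
  · exact absurd hs (h.sep_lt h1)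
  · exact h1
  · exact absurd hs.symm (h.sep_lt h1)

theorem final {N : Fin 12 → Subgroup G7} (h : Info N) :
    ∃ M : Fin 19 → Subgroup G7, (∀ i, IsCoatom (M i)) ∧
      ∀ i j, (∃ g : G7, (M i).map (MulAut.conj g).toMonoidHom = M j) → i = j := by
  have key : ∃ M : Fin (7 + 12) → Subgroup G7, (∀ i, IsCoatom (M i)) ∧ ∀ i j, Sim (M i) (M j) → i = j := by
    refine ⟨Fin.append Par.P7 N, ?_, ?_⟩
    · intro i
      refine Fin.addCases (fun i => ?_) (fun i => ?_) i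
      · rw [Fin.append_left]; exact Par.isCoatom_P7 i
      · rw [Fin.append_right]; exact (h.cls i).np.co
    · intro i j
      refine Fin.addCases (fun i => ?_) (fun i => ?_) i <;>
        refine Fin.addCases (fun j => ?_) (fun j => ?_) j
      · rw [Fin.append_left, Fin.append_left]
        rintro ⟨g, hg⟩
        rw [Par.nonconj hg]
      · rw [Fin.append_left, Fin.append_right]
        intro hs
        exact absurd hs ((h.cls j).np.np i)
      · rw [Fin.append_left, Fin.append_right]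
        intro hs
        exact absurd hs.symm ((h.cls i).np.np j)
      · rw [Fin.append_right, Fin.append_right]
        intro hs
        rw [h.sep hs]
  exact key

/-- the boxes -/
structure Boxes : Prop where
  x0 : BoxX0
  p6 : BoxP6
  x1 : BoxX1
  x2 : BoxX2
  x3 : BoxX3
  f1 : BoxF1
  f2 : BoxF2
  f3 : BoxF3
  f4 : BoxF4
  f5 : BoxF5
  f6 : BoxF6
  f7 : BoxF7
  f8 : BoxF8
  f9 : BoxF9
  f10 : BoxF10
  f11 : BoxF11
  f12 : BoxF12
  s1 : BoxS1
  t2 : BoxT2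
  s3 : BoxS3
  s4 : BoxS4
  t5 : BoxT5
  s6 : BoxS6
  t7 : BoxT7
  s8 : BoxS8
  t9 : BoxT9
  t10 : BoxT10
  t11 : BoxT11
  s12 : BoxS12

theorem Boxes.info (b : Boxes) : ∃ N, Info N := by
  obtain ⟨M1, c1⟩ := cls1 b.x0 b.p6 b.s1 b.f1
  obtain ⟨M2, c2, p2, X, hX1, hX2, hX3, hX4⟩ := cls2 b.x0 b.p6 b.t2 b.f2
  obtain ⟨M3, c3, p3⟩ := cls3 b.x0 b.p6 b.s3 b.f3
  obtain ⟨M4, c4⟩ := cls4 b.x0 b.p6 b.s4 b.f4
  obtain ⟨M5, c5, p5⟩ := cls5 b.x0 b.p6 b.t5 b.f5
  obtain ⟨M6, c6⟩ := cls6 b.x0 b.p6 b.x2 b.s6 b.f6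
  obtain ⟨M7, c7, p7, e7, e7'⟩ := cls7 b.x0 b.p6 b.t7 b.f7
  obtain ⟨M8, c8, p8, e8⟩ := cls8 b.x0 b.p6 b.x1 b.s8 b.f8
  obtain ⟨M9, c9⟩ := cls9 b.x0 b.p6 b.x2 b.x3 b.t9 b.f9
  obtain ⟨M10, c10⟩ := cls10 b.x0 b.p6 b.t10 b.f10
  obtain ⟨M11, c11, p11⟩ := cls11 b.x0 b.p6 b.t11 b.f11
  obtain ⟨M12, c12, p12⟩ := cls12 b.x0 b.p6 b.s12 b.f12
  refine ⟨![M1, M2, M3, M4, M5, M6, M7, M8, M9, M10, M11, M12], ?_, p2, ⟨X, hX1, hX2, ?_, hX4⟩, p3, p5, p7, e7, e7', p8, e8,
    p11, p12⟩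
  · intro i
    match i with
    | 0 => exact c1
    | 1 => exact c2
    | 2 => exact c3
    | 3 => exact c4
    | 4 => exact c5
    | 5 => exact c6
    | 6 => exact c7
    | 7 => exact c8
    | 8 => exact c9
    | 9 => exact c10
    | 10 => exact c11
    | 11 => exact c12
  · rw [hX3]
    decide +kernel

theorem assembly (b : Boxes) :
    ∃ M : Fin 19 → Subgroup G7, (∀ i, IsCoatom (M i)) ∧
      ∀ i j, (∃ g : G7, (M i).map (MulAut.conj g).toMonoidHom = M j) → i = j := by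
  obtain ⟨N, hN⟩ := b.info
  exact final hN

end Cfsg.Agent.R2.H27.Asm
end

-- part: R2/H27/TorD
section
set_option linter.all false
open scoped Cfsg.Agent.FastGrp

/-!
# S5934, box T11: `3^7 : Sp₆(2)` (helper27)
-/

set_option autoImplicit false
set_option linter.unusedSectionVars false
set_option maxRecDepth 100000

namespace Cfsg.Agent.R2.H27.TorD

open Cfsg.Agent.R2.H27.Asm
open Subgroup
open scoped commutatorElement Pointwise

section Gen

variable {G : Type*} [Group G]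

theorem mem_sup_norm {A K : Subgroup G} (hn : K ≤ normalizer (A : Set G)) {g : G} (hg : g ∈ A ⊔ K) :
    ∃ a ∈ A, ∃ k ∈ K, g = a * k := by
  have hg' : g ∈ ((A ⊔ K : Subgroup G) : Set G) := hg
  rw [Subgroup.coe_mul_of_right_le_normalizer_left _ _ hn, Set.mem_mul] at hg'
  obtain ⟨x, hx, y, hy, rfl⟩ := hg'
  exact ⟨x, hx, y, hy, rfl⟩

theorem card_sup_norm {A K : Subgroup G} (hn : K ≤ normalizer (A : Set G)) (hd : A ⊓ K = ⊥) :
    Nat.card ↥(A ⊔ K : Subgroup G) = Nat.card ↥A * Nat.card ↥K := by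
  refine (Nat.card_congr (Equiv.ofBijective (fun p : ↥A × ↥K => (⟨p.1.1 * p.2.1,
    mul_mem (le_sup_left (a := A) p.1.2) (le_sup_right (a := A) p.2.2)⟩ : ↥(A ⊔ K : Subgroup G))) ⟨?_, ?_⟩)).symm.trans
    (Nat.card_prod _ _)
  · rintro ⟨a, b⟩ ⟨c, d⟩ he
    have he' : (a : G) * b = c * d := congrArg Subtype.val he
    have h4 : (c : G)⁻¹ * a = d * (b : G)⁻¹ := by
      rw [inv_mul_eq_iff_eq_mul, ← mul_assoc, ← he', mul_assoc, mul_inv_cancel, mul_one]
    have h5 : (c : G)⁻¹ * a ∈ A ⊓ K := by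
      refine ⟨A.mul_mem (A.inv_mem c.2) a.2, ?_⟩
      rw [h4]
      exact K.mul_mem d.2 (K.inv_mem b.2)
    rw [hd, mem_bot] at h5
    have h6 : (a : G) = c := by rw [← mul_one (c : G), ← h5]; group
    have h7 : (b : G) = d := by
      rw [h6] at he'
      exact mul_left_cancel he'
    exact Prod.ext (Subtype.ext h6) (Subtype.ext h7)
  · rintro ⟨g, hg⟩
    obtain ⟨x, hx, y, hy, rfl⟩ := mem_sup_norm hn hg
    exact ⟨(⟨x, hx⟩, ⟨y, hy⟩), rfl⟩

/-- the content of box T11 -/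
structure IsT11 (A N₀ : Subgroup G) : Prop where
  cardA : Nat.card ↥A = 3 ^ 7
  le : A ≤ N₀
  norm : N₀ ≤ normalizer (A : Set G)
  perf : ⁅N₀, N₀⁆ = N₀
  card : Nat.card ↥N₀ = 3 ^ 7 * oS6
  irr : ∀ B : Subgroup G, B ≤ A → N₀ ≤ normalizer (B : Set G) → B = ⊥ ∨ B = A
  cent : centralizer (A : Set G) = A
  sim : ∀ B : Subgroup G, A ≤ B → B ≤ N₀ → N₀ ≤ normalizer (B : Set G) → B = A ∨ B = N₀

theorem IsT11.map {A N₀ : Subgroup G} (h : IsT11 A N₀) {H : Type*} [Group H] (e : G ≃* H) :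
    IsT11 (A.map e.toMonoidHom) (N₀.map e.toMonoidHom) := by
  have hmm : ∀ B : Subgroup H, (B.map e.symm.toMonoidHom).map e.toMonoidHom = B := by
    intro B
    rw [Subgroup.map_map]
    have : e.toMonoidHom.comp e.symm.toMonoidHom = MonoidHom.id H := by
      ext x; simp
    rw [this, Subgroup.map_id]
  have hmm' : ∀ B : Subgroup G, (B.map e.toMonoidHom).map e.symm.toMonoidHom = B := by
    intro B
    rw [Subgroup.map_map]
    have : e.symm.toMonoidHom.comp e.toMonoidHom = MonoidHom.id G := by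
      ext x; simp
    rw [this, Subgroup.map_id]
  have hnorm : ∀ {B : Subgroup H}, N₀.map e.toMonoidHom ≤ normalizer (B : Set H) →
      N₀ ≤ normalizer ((B.map e.symm.toMonoidHom : Subgroup G) : Set G) := by
    intro B hB
    have h1 := map_le_normalizer e.symm.toMonoidHom hB
    rwa [hmm'] at h1
  refine ⟨?_, Subgroup.map_mono h.le, map_le_normalizer _ h.norm, ?_, ?_, ?_, ?_, ?_⟩
  · rw [← h.cardA]
    exact (Nat.card_congr (A.equivMapOfInjective _ e.injective).toEquiv).symm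
  · rw [← Subgroup.map_commutator, h.perf]
  · rw [← h.card]
    exact (Nat.card_congr (N₀.equivMapOfInjective _ e.injective).toEquiv).symm
  · intro B hB hn
    have h1 : B.map e.symm.toMonoidHom ≤ A := by
      have := Subgroup.map_mono (f := e.symm.toMonoidHom) hB
      rwa [hmm'] at this
    rcases h.irr _ h1 (hnorm hn) with h2 | h2
    · left
      rw [← hmm B, h2, Subgroup.map_bot]
    · right
      rw [← hmm B, h2]
  · apply le_antisymm
    · intro x hx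
      refine ⟨e.symm x, ?_, by simp⟩
      rw [SetLike.mem_coe, ← h.cent, mem_centralizer_iff]
      intro a ha
      apply e.injective
      have h1 := mem_centralizer_iff.1 hx (e a) ⟨a, ha, rfl⟩
      rw [map_mul, map_mul, e.apply_symm_apply]
      exact h1
    · have h1 : A ≤ centralizer (A : Set G) := h.cent.ge
      exact map_le_centralizer _ h1
  · intro B hAB hBN hn
    have h1 : A ≤ B.map e.symm.toMonoidHom := by
      have := Subgroup.map_mono (f := e.symm.toMonoidHom) hAB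
      rwa [hmm'] at this
    have h3 : B.map e.symm.toMonoidHom ≤ N₀ := by
      have := Subgroup.map_mono (f := e.symm.toMonoidHom) hBN
      rwa [hmm'] at this
    rcases h.sim _ h1 h3 (hnorm hn) with h2 | h2
    · left
      rw [← hmm B, h2]
    · right
      rw [← hmm B, h2]

theorem exists_congr_sub {G H : Type*} [Group G] [Group H] {P : Subgroup G} {Q : Subgroup H}
    (e : Nonempty (↥P ≃* ↥Q)) (h : ∃ A N₀ : Subgroup ↥P, IsT11 A N₀) : ∃ A N₀ : Subgroup ↥Q, IsT11 A N₀ := by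
  obtain ⟨e⟩ := e
  obtain ⟨A, N₀, h⟩ := h
  exact ⟨_, _, h.map e⟩

/-- the conditions on a split extension -/
theorem isT11_of {P A K : Subgroup G} (hAP : A ≤ P) (hKP : K ≤ P) (hKA : K ≤ normalizer (A : Set G))
    (hA : Nat.card ↥A = 3 ^ 7) (hKc : Nat.card ↥K = oS6) (hK : IsSimpleGroup ↥K)
    (hirr : ∀ B : Subgroup G, B ≤ A → K ≤ normalizer (B : Set G) → B = ⊥ ∨ B = A)
    (hC : centralizer (A : Set G) ⊓ P = A) (hCK : centralizer (A : Set G) ⊓ K = ⊥) :
    IsT11 (A.subgroupOf P) ((A ⊔ K : Subgroup G).subgroupOf P) := by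
  have hACA : A ≤ centralizer (A : Set G) := by
    intro a ha
    rw [← hC] at ha
    exact ha.1
  have hd : A ⊓ K = ⊥ := by
    rw [eq_bot_iff, ← hCK]
    exact inf_le_inf_right _ hACA
  have hNP : A ⊔ K ≤ P := sup_le hAP hKP
  have hfin : Finite ↥K := Nat.finite_of_card_ne_zero (by rw [hKc]; decide +kernel)
  have hK1 : K ≠ ⊥ := by
    rintro rfl
    rw [Subgroup.card_bot] at hKc
    revert hKc
    decide +kernel
  have hKnc : ¬ ∀ x y : ↥K, x * y = y * x := not_comm_of_card hK (a := 3) (b := 5) (by norm_num) (by norm_num)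
    (by norm_num) (by rw [hKc]; decide +kernel) (by rw [hKc]; decide +kernel)
  have hKp : ⁅K, K⁆ = K := by
    have h1 : commutator ↥K = ⊤ := by
      rcases (inferInstance : (commutator ↥K).Normal).eq_bot_or_eq_top with h | h
      · exfalso
        apply hKnc
        intro x y
        have h2 : ⁅x, y⁆ ∈ commutator ↥K := Subgroup.commutator_mem_commutator (mem_top _) (mem_top _)
        rw [h, mem_bot, commutatorElement_eq_one_iff_mul_comm] at h2
        exact h2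
      · exact h
    have h2 := congrArg (Subgroup.map K.subtype) h1
    rw [commutator_def, Subgroup.map_commutator, ← MonoidHom.range_eq_map, Subgroup.range_subtype] at h2
    exact h2
  have hNn : A ⊔ K ≤ normalizer (A : Set G) := sup_le Subgroup.le_normalizer hKA
  refine ⟨by rw [card_subgroupOf hAP, hA], fun x hx => le_sup_left (a := A) hx,
    le_normalizer_subgroupOf hNn, ?_, ?_, ?_, ?_, ?_⟩
  · apply perfect_subgroupOf hNP
    -- perfect
    apply le_antisymm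
    · rw [Subgroup.commutator_le]
      intro a ha b hb
      rw [commutatorElement_def]
      exact mul_mem (mul_mem (mul_mem ha hb) (inv_mem ha)) (inv_mem hb)
    · have h1 : K ≤ ⁅A ⊔ K, A ⊔ K⁆ := by
        conv_lhs => rw [← hKp]
        exact Subgroup.commutator_mono le_sup_right le_sup_right
      have h2 : K ≤ normalizer ((⁅A ⊔ K, A ⊔ K⁆ ⊓ A : Subgroup G) : Set G) := by
        intro k hk
        have hkey : ∀ k ∈ K, ∀ x ∈ (⁅A ⊔ K, A ⊔ K⁆ ⊓ A : Subgroup G), k * x * k⁻¹ ∈ (⁅A ⊔ K, A ⊔ K⁆ ⊓ A : Subgroup G) := by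
          rintro k hk x ⟨hx1, hx2⟩
          refine ⟨(⁅A ⊔ K, A ⊔ K⁆).mul_mem ((⁅A ⊔ K, A ⊔ K⁆).mul_mem (h1 hk) hx1)
            ((⁅A ⊔ K, A ⊔ K⁆).inv_mem (h1 hk)), ?_⟩
          exact ((Subgroup.mem_normalizer_iff.1 (hKA hk)) x).1 hx2
        rw [Subgroup.mem_normalizer_iff]
        intro x
        constructor
        · exact hkey k hk x
        · intro hx
          have := hkey k⁻¹ (inv_mem hk) _ hx
          have e1 : k⁻¹ * (k * x * k⁻¹) * k⁻¹⁻¹ = x := by group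
          rwa [e1] at this
      rcases hirr _ inf_le_right h2 with h3 | h3
      · exfalso
        apply hK1
        rw [eq_bot_iff, ← hCK]
        refine le_inf ?_ le_rfl
        intro k hk
        rw [mem_centralizer_iff]
        intro a ha
        have h4 : ⁅k, a⁆ ∈ ⁅A ⊔ K, A ⊔ K⁆ ⊓ A := by
          refine ⟨Subgroup.commutator_mem_commutator (le_sup_right (a := A) hk) (le_sup_left (a := A) ha), ?_⟩
          rw [commutatorElement_def]
          exact A.mul_mem (((Subgroup.mem_normalizer_iff.1 (hKA hk)) a).1 ha) (A.inv_mem ha)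
        rw [h3, mem_bot, commutatorElement_eq_one_iff_mul_comm] at h4
        exact h4.symm
      · exact sup_le (h3.ge.trans inf_le_left) h1
  · rw [card_subgroupOf hNP, card_sup_norm hKA hd, hA, hKc]
  · intro B hBA hB
    have h1 : B.map P.subtype ≤ A := by
      rintro _ ⟨x, hx, rfl⟩
      exact hBA hx
    have h2 := le_normalizer_map hNP hB
    rcases hirr _ h1 (le_sup_right.trans h2) with h3 | h3
    · left
      exact (Subgroup.map_eq_bot_iff_of_injective B P.subtype_injective).1 h3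
    · right
      exact eq_subgroupOf_of_map h3
  · rw [centralizer_subgroupOf hAP]
    ext x
    constructor
    · intro hx
      have h3 : (x : G) ∈ centralizer (A : Set G) ⊓ P := ⟨hx, x.2⟩
      rw [hC] at h3
      exact h3
    · intro hx
      exact hACA hx
  · intro B hAB hBN hB
    have h1 : B.map P.subtype ≤ A ⊔ K := by
      rintro _ ⟨x, hx, rfl⟩
      exact hBN hx
    have h2 : A ≤ B.map P.subtype := fun x hx => ⟨⟨x, hAP hx⟩, hAB hx, rfl⟩
    have h3 := le_normalizer_map hNP hB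
    have hsim : ∀ C : Subgroup G, A ≤ C → C ≤ A ⊔ K → A ⊔ K ≤ normalizer (C : Set G) → C = A ∨ C = A ⊔ K := by
      intro C hAC hCN hCn
      have h4 : C = A ⊔ (C ⊓ K) := by
        apply le_antisymm
        · intro c hc
          obtain ⟨a, ha, k, hk, rfl⟩ := mem_sup_norm hKA (hCN hc)
          have h5 : k ∈ C := by
            have := C.mul_mem (C.inv_mem (hAC ha)) hc
            rwa [inv_mul_cancel_left] at this
          exact mul_mem (le_sup_left (a := A) ha) (le_sup_right (a := A) ⟨h5, hk⟩)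
        · exact sup_le hAC inf_le_left
      have h5 : ((C ⊓ K).subgroupOf K).Normal := by
        refine ⟨fun x hx g => ?_⟩
        refine ⟨?_, (g * x * g⁻¹).2⟩
        have h6 := (Subgroup.mem_normalizer_iff.1 (hCn (le_sup_right (a := A) g.2))) (x : G)
        exact h6.1 hx.1
      rcases h5.eq_bot_or_eq_top with h6 | h6
      · left
        rw [Subgroup.subgroupOf_eq_bot] at h6
        have h7 : C ⊓ K = ⊥ := by
          have := h6.eq_bot
          rwa [inf_assoc, inf_idem] at this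
        rw [h4, h7, sup_bot_eq]
      · right
        rw [Subgroup.subgroupOf_eq_top] at h6
        apply le_antisymm hCN
        exact sup_le hAC (h6.trans inf_le_left)
    rcases hsim _ h2 h1 h3 with h4 | h4
    · left
      exact eq_subgroupOf_of_map h4
    · right
      exact eq_subgroupOf_of_map h4

end Gen

/-! ### `E₇(2)` -/

open Cfsg.Lie Cfsg.Agent.R2.H27.TorB Cfsg.Agent.R2.H27.TorC Cfsg.Agent.R2.H27.WeylE7

theorem PT_map : PT.map (chevE7.group KK).subtype =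
    Cfsg.Agent.H420.PG.PF chevE7 (iterateFrobenius KK 2 1) (nu w0 : GL chevE7.Idx KK) := by
  ext g
  constructor
  · rintro ⟨y, hy, rfl⟩
    refine ⟨y.2, ?_⟩
    have h1 : tau y = y := hy
    have h2 := congrArg Subtype.val h1
    exact h2
  · rintro ⟨hg, h1⟩
    refine ⟨⟨g, hg⟩, ?_, rfl⟩
    exact Subtype.ext h1

theorem isoPT : Nonempty (↥PT ≃* G7) := by
  have h1 : Nonempty (↥(Cfsg.Agent.H420.PG.PF chevE7 (iterateFrobenius KK 2 1) (nu w0 : GL chevE7.Idx KK)) ≃*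
    ↥(chevE7.group (ZMod 2))) := Cfsg.Agent.R2.E72T.iso7 (nu w0).2
  obtain ⟨e⟩ := h1
  have e2 := PT.equivMapOfInjective (chevE7.group KK).subtype (chevE7.group KK).subtype_injective
  rw [PT_map] at e2
  exact ⟨e2.trans e⟩

theorem isT11_PT : IsT11 (A7.subgroupOf PT) (N0.subgroupOf PT) := by
  refine isT11_of (P := PT) (A := A7) (K := KW) A7_le_PT ?_ ?_ card_A7 ?_ ?_ (fun B hB hn => irr hB hn)
    centralizer_inf ?_
  · rintro _ ⟨w, hw, rfl⟩
    exact nu_mem_PT w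
  · rintro _ ⟨w, hw, rfl⟩
    have hkey : ∀ w : W7, ∀ x ∈ A7, nu w * x * (nu w)⁻¹ ∈ A7 := fun w x hx => nu_A7 w hx
    show nu w ∈ _
    rw [Subgroup.mem_normalizer_iff]
    intro x
    constructor
    · exact hkey w x
    · intro hx
      have := hkey w⁻¹ _ hx
      rw [map_inv] at this
      have e1 : (nu w)⁻¹ * (nu w * x * (nu w)⁻¹) * (nu w)⁻¹⁻¹ = x := by group
      rwa [e1] at this
  · rw [KW, ← (Nat.card_congr (Wp.equivMapOfInjective _ nu_injective).toEquiv), card_Wp]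
    decide +kernel
  · exact simple_congr (Wp.equivMapOfInjective _ nu_injective) simple_Wp
  · rw [eq_bot_iff]
    rintro _ ⟨h1, w, hw, rfl⟩
    have h2 := nu_mem_TY (centralizer_A7 h1)
    rw [Subgroup.mem_bot]
    show nu w = 1
    rw [h2, map_one]

theorem exists_isT11 : ∃ A N₀ : Subgroup G7, IsT11 A N₀ := by
  exact exists_congr_sub (Q := chevE7.group (ZMod 2)) isoPT ⟨_, _, isT11_PT⟩

/-- **Box T11** -/
theorem box_T11 : BoxT11 := by
  obtain ⟨A, N₀, h⟩ := exists_isT11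
  exact ⟨A, N₀, h.cardA, h.le, h.norm, h.perf, h.card, h.irr, h.cent, h.sim⟩

end Cfsg.Agent.R2.H27.TorD

private theorem dce_f77a9677d807 : _root_.True := by
  try have : _root_.True := by simp only [_root_.Cfsg.Agent.R2.H27.TorC.KW.eq_1]
  exact _root_.True.intro
end

-- part: R2/E72T/BoxT10
section
set_option linter.all false
open scoped Cfsg.Agent.FastGrp

/-!
# S5934, box T10: `L₂(128)` (helper7)
-/

set_option autoImplicit false

namespace Cfsg.Agent.R2.E72T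

open Cfsg.Agent.R2.H27
open scoped MatrixGroups

universe v

theorem exists_field (m : ℕ) (hm : m ≠ 0) : ∃ (K : Type) (_ : Field K) (_ : Fintype K), Fintype.card K = 2 ^ m := by
  have : Fact (Nat.Prime 2) := ⟨Nat.prime_two⟩
  let F : Fintype (GaloisField 2 m) := Fintype.ofFinite _
  refine ⟨GaloisField 2 m, inferInstance, F, ?_⟩
  rw [← Nat.card_eq_fintype_card, GaloisField.card 2 m hm]

/-- a simple subgroup from an injective homomorphism -/
theorem simple_range {X G : Type*} [Group X] [Group G] {θ : X →* G} (h : Function.Injective θ) [IsSimpleGroup X] :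
    IsSimpleGroup ↥θ.range :=
  (MulEquiv.isSimpleGroup_congr (MonoidHom.ofInjective h)).1 inferInstance

theorem card_range {X G : Type*} [Group X] [Group G] {θ : X →* G} (h : Function.Injective θ) :
    Nat.card ↥θ.range = Nat.card X :=
  (Nat.card_congr (MonoidHom.ofInjective h).toEquiv).symm

theorem box_T10 : BoxT10 := by
  obtain ⟨K, _, _, hK⟩ := exists_field 7 (by norm_num)
  obtain ⟨θ, hθ⟩ := exists_l2_128 (K := K) (by rw [hK]; norm_num)
  have hc : CharP K 2 := charTwo_of_card hK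
  have hs : IsSimpleGroup SL(2, K) := H320.Kill.simple_sl (CharTwo.two_eq_zero)
    (by rw [Nat.card_eq_fintype_card, hK]; norm_num)
  refine ⟨θ.range, simple_range hθ, ?_⟩
  rw [card_range hθ, ClassicalGeometry.PSL2Basic.card_SL2, hK]
  norm_num [oL128]

end Cfsg.Agent.R2.E72T

private theorem dce_6ab77e556c39 : _root_.True := by
  try have : _root_.True := by simp only [_root_.Cfsg.Agent.R2.H27.oL128.eq_1]
  exact _root_.True.intro
end

-- part: R2/H27/UsA
section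
prune_inst 0x74304f044c22020008000002a00020006e00009200630801d0e00944084f77600000af007eb00a1200e2a2902078c06001100050423000000a00080000040000102b52029318ac0076000e00a804000000000000020000000000000000041000000000000
set_option linter.all false
open scoped Cfsg.Agent.FastGrp

namespace Cfsg.Agent.H90F

private noncomputable def frc {α : Type} (x : ℕ) (f : ℕ → α) : α := Nat.rec (f 0) (fun k _ => f (Nat.succ k)) x

private theorem frc_eq {α : Type} (x : ℕ) (f : ℕ → α) : frc x f = f x := by cases x <;> rfl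

private noncomputable def nth {α : Type} (d : α) (l : List α) : ℕ → α :=
  List.rec (fun _ => d) (fun a _ ih n => Nat.rec a (fun k _ => ih k) n) l

private theorem nth_eq {α : Type} (d : α) (l : List α) (n : ℕ) : nth d l n = l.getD n d := by
  induction l generalizing n with
  | nil => rfl
  | cons a l ih => cases n with
    | zero => rfl
    | succ k => exact ih k

private theorem nth_arr {α : Type} (d : α) (a : Array α) (n : ℕ) : a.getD n d = nth d a.toList n := by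
  rw [nth_eq, List.getD_eq_getElem?_getD, Array.getD_eq_getD_getElem?, Array.getElem?_toList]

private noncomputable def row (D : Cfsg.Lie.ChevalleyDatum) (r : ℕ) : List (ℕ × Array (ℕ × ℤ)) := (nth #[] D.chain.toList r).toList

private noncomputable def fnd (s : ℕ) (l : List (ℕ × Array (ℕ × ℤ))) : List (ℕ × ℤ) :=
  List.rec [] (fun e _ ih => Bool.rec ih e.2.toList (Nat.beq e.1 s)) l

private theorem ce_eq0 (D : Cfsg.Lie.ChevalleyDatum) (r s : ℕ) : D.chainEntry r s = fnd s (row D r) := by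
  unfold Cfsg.Lie.ChevalleyDatum.chainEntry row
  rw [nth_arr]
  generalize (nth #[] D.chain.toList r).toList = l
  induction l with
  | nil => rfl
  | cons e l ih =>
    show _ = (Bool.rec (fnd s l) e.2.toList (Nat.beq e.1 s) : List (ℕ × ℤ))
    by_cases h : e.1 = s
    · rw [List.find?_cons_of_pos (by simpa using h), Nat.beq_eq.mpr h]
    · rw [List.find?_cons_of_neg (by simpa using h), ih, Bool.eq_false_iff.2 fun h1 => h (Nat.eq_of_beq_eq_true h1)]

private noncomputable def fce (D : Cfsg.Lie.ChevalleyDatum) (r s : ℕ) : List (ℕ × ℤ) := frc r fun r => frc s fun s => fnd s (row D r)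

private theorem ce_eq (D : Cfsg.Lie.ChevalleyDatum) : D.chainEntry = fce D := by
  funext r s
  rw [fce, frc_eq, frc_eq, ce_eq0]

private noncomputable def fcr (D : Cfsg.Lie.ChevalleyDatum) (r s i : ℕ) : Option ℕ := ((fce D r s)[i - 1]?).map Prod.fst

private theorem cr_eq (D : Cfsg.Lie.ChevalleyDatum) : D.chainRoot = fcr D := by
  funext r s i
  rw [fcr, ← ce_eq]; rfl

private noncomputable def fng (D : Cfsg.Lie.ChevalleyDatum) (r : ℕ) : ℕ := frc r (nth 0 D.negIdx.toList)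

private theorem ng_eq (D : Cfsg.Lie.ChevalleyDatum) : D.neg = fng D := by
  funext r
  rw [fng, frc_eq]
  exact nth_arr _ _ _

private noncomputable def fsi (D : Cfsg.Lie.ChevalleyDatum) (i : ℕ) : ℕ := frc i (nth 0 D.simpleIdx.toList)

private theorem si_eq (D : Cfsg.Lie.ChevalleyDatum) : D.simple = fsi D := by
  funext r
  rw [fsi, frc_eq]
  exact nth_arr _ _ _

private noncomputable def fca (D : Cfsg.Lie.ChevalleyDatum) (i s : ℕ) : ℤ :=
  frc i fun i => frc s (nth 0 (nth #[] D.cartanSR.toList i).toList)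

private theorem ca_eq (D : Cfsg.Lie.ChevalleyDatum) : D.cartan = fca D := by
  funext i s
  rw [fca, frc_eq, frc_eq, ← nth_arr, ← nth_arr]
  rfl

private noncomputable def frr (D : Cfsg.Lie.ChevalleyDatum) (i s : ℕ) : ℕ :=
  frc i fun i => frc s fun s => frc (fsi D i) fun p => frc (fng D p) fun q =>
    Bool.rec (Bool.rec
      (Int.rec (fun a => Nat.rec s (fun k _ => (fcr D q s (Nat.succ k)).getD s) a)
        (fun k => (fcr D p s (Nat.succ k)).getD s) (fca D i s))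
      p (Nat.beq s q)) q (Nat.beq s p)

private theorem rr_eq (D : Cfsg.Lie.ChevalleyDatum) : D.reflectRoot = frr D := by
  funext i s
  rw [frr, frc_eq, frc_eq, frc_eq, frc_eq, ← cr_eq, ← ng_eq, ← si_eq, ← ca_eq]
  unfold Cfsg.Lie.ChevalleyDatum.reflectRoot
  dsimp only
  by_cases h1 : s = D.simple i
  · rw [if_pos h1, Nat.beq_eq.mpr h1]
  rw [if_neg h1, Bool.eq_false_iff.2 fun h => h1 (Nat.eq_of_beq_eq_true h)]
  by_cases h2 : s = D.neg (D.simple i)
  · rw [if_pos h2, Nat.beq_eq.mpr h2]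
  rw [if_neg h2, Bool.eq_false_iff.2 fun h => h2 (Nat.eq_of_beq_eq_true h)]
  generalize D.cartan i s = A
  rcases A with (_ | k) | k
  · rfl
  · exact if_pos (Int.ofNat_succ_pos k)
  · rw [if_neg (Int.negSucc_lt_zero k).not_gt, if_pos (Int.negSucc_lt_zero k)]; rfl

private theorem rr_fun : Cfsg.Lie.ChevalleyDatum.reflectRoot = frr := funext rr_eq

private theorem ng_fun : Cfsg.Lie.ChevalleyDatum.neg = fng := funext ng_eq

end Cfsg.Agent.H90F
attribute [local instance] Cfsg.Agent.TitsThree.RTFast.decRTb Cfsg.Agent.TitsThree.RTFast.decRTc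

/-!
# The twisted Frobenius map of `E₇(4)` (S5934, box T7; helper27)

* `nu : W(E₇) →* E₇(K)`, `K` finite of characteristic 2;
* `tau` : the Frobenius map twisted by the longest element; `P4` : its fixed points;
* `TK_le` : `T(4)` is contained in `P4`, `isoP4`;
* `f6 : SL₆(K) →* E₇(K)`, `f3 : SL₃(K) →* E₇(K)`.
-/

set_option autoImplicit false
set_option linter.unusedSectionVars false
set_option maxRecDepth 100000

namespace Cfsg.Agent.R2.H27.UsA

open CoxeterSystem Cfsg Cfsg.Lie Cfsg.Lie.ChevalleyDatum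
open Cfsg.Agent.ChevalleyStructure Cfsg.Agent.ChevalleyStructure.Elts Cfsg.Agent.ChevalleyStructure.CoxeterGeom
  Cfsg.Agent.ChevalleyStructure.CoxeterGeomTypes
open Cfsg.Agent.Tits.Roots Cfsg.Agent.Tits.Core Cfsg.Agent.Nodes Cfsg.Agent.Nodes.Reps Cfsg.Agent.Nodes.BNOf
  Cfsg.Agent.Nodes.RGDChev Cfsg.Agent.Nodes.Bruhat Cfsg.Agent.Nodes.SubComb Cfsg.Agent.Nodes.NormalForm
open Cfsg.Agent.KFacts.RgdField Cfsg.Agent.KFacts.RgdChevCoord Cfsg.Agent.BpExc.TorCent Cfsg.Agent.BpExc.TorChev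
open Cfsg.Agent.GpExc.Field Cfsg.Agent.BpExc.Tow Cfsg.Agent.BpExc.TowChev Cfsg.Agent.BpExc.Fr
  Cfsg.Agent.H129.TorusChar Cfsg.Agent.H129.TorusMain Cfsg.Agent.H129.TorusUntw
open Cfsg.Agent.R2.H27.Par Cfsg.Agent.R2.H27.WeylE7

section K

variable (K : Type) [Field K] [Fintype K] [CharP K 2]

/-- `E₇(K)` -/
abbrev Y : Type := ↥(chevE7.group K)

/-- the torus -/
noncomputable abbrev T : Subgroup (Y K) := TT chevE7 K

theorem lfK : LocFin K := fun _ _ => ⟨⊤, inferInstance, fun _ _ => trivial⟩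

theorem RK : RGD cs7 h7 2 (T K) (nc hp7 K) (XX chevE7 7 K) := rgd (K := K) hp7 cs7 2

theorem CK : Coords cs7 h7 (T K) (nc hp7 K) (XX chevE7 7 K) (xc hp7) (ch hp7) := coords (K := K) hp7 cs7 2

theorem nsK : NSys CoxeterMatrix.E₇ (T K) (nc hp7 K) := (RK K).nsys

/-- the embedding of `E₇(2)` -/
noncomputable def em : G7 →* Y K := emb hp7.inList (ZMod.castHom (dvd_refl 2) K)

/-- the embedding of the Weyl group -/
noncomputable def nu : W7 →* Y K := (em K).comp (cs7.lift ⟨n7, TorB.n7_liftable⟩)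

variable {K}

theorem nu_simple (i : Fin 7) : nu K (cs7.simple i) = nc hp7 K i := by
  show em K (cs7.lift ⟨n7, TorB.n7_liftable⟩ (cs7.simple i)) = _
  rw [cs7.lift_apply_simple TorB.n7_liftable i]
  exact emb_nc hp7 _ i

theorem rp_nu (w : W7) : Rp cs7 (nsK K) w (nu K w) := by
  obtain ⟨ω, rfl⟩ := cs7.wordProd_surjective w
  induction ω with
  | nil => rw [CoxeterSystem.wordProd_nil, map_one]; exact rp_one
  | cons i ω ih =>
    rw [CoxeterSystem.wordProd_cons, map_mul, nu_simple]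
    exact (rp_simple cs7 (nsK K) i).mul ih

theorem cX_inv {t : Y K} (ht : t ∈ T K) (x : Fin 7 → ℤ) : cX hp7 t⁻¹ x = (cX hp7 t x)⁻¹ := by
  have h1 := cX_mul hp7 (inv_mem ht) ht x
  rw [inv_mul_cancel, cX_one] at h1
  exact eq_inv_of_mul_eq_one_left h1.symm

theorem cX_nu (w : W7) {t : Y K} (ht : t ∈ T K) (x : Fin 7 → ℤ) :
    cX hp7 (nu K w * t * (nu K w)⁻¹) (rep cs7 h7 w x) = cX hp7 t x :=
  cX_rp hp7 cs7 (lfK K) 2 (rp_nu w) ht x

theorem cX_nu' (w : W7) {t : Y K} (ht : t ∈ T K) (x : Fin 7 → ℤ) :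
    cX hp7 (nu K w * t * (nu K w)⁻¹) x = cX hp7 t (rep cs7 h7 w⁻¹ x) := by
  rw [← cX_nu w ht, ← rep_mul_apply, mul_inv_cancel, map_one, Module.End.one_apply]

theorem nu_T (w : W7) {t : Y K} (ht : t ∈ T K) : nu K w * t * (nu K w)⁻¹ ∈ T K :=
  (Subgroup.mem_normalizer_iff.1 (rp_nu w).mem_normalizer t).1 ht

/-! ### the twisted Frobenius map -/

/-- the Frobenius map -/
noncomputable def ph : Y K →* Y K := emb hp7.inList (iterateFrobenius K 2 1)

theorem ph_nu (w : W7) : ph (nu K w) = nu K w := by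
  obtain ⟨ω, rfl⟩ := cs7.wordProd_surjective w
  induction ω with
  | nil => rw [CoxeterSystem.wordProd_nil, map_one, map_one]
  | cons i ω ih =>
    rw [CoxeterSystem.wordProd_cons, map_mul, map_mul, ih, nu_simple]
    congr 1
    exact emb_nc hp7 _ i

/-- the twisted Frobenius map -/
noncomputable def tau : Y K →* Y K := (MulAut.conj (nu K w0)).toMonoidHom.comp ph

theorem tau_apply (y : Y K) : tau y = nu K w0 * ph y * (nu K w0)⁻¹ := rfl

variable (K) in
/-- its fixed points -/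
noncomputable def P4 : Subgroup (Y K) := tau.eqLocus (MonoidHom.id _)

theorem mem_P4 {y : Y K} : y ∈ P4 K ↔ tau y = y := Iff.rfl

theorem nu_mem_P4 (w : W7) : nu K w ∈ P4 K := by
  rw [mem_P4, tau_apply, ph_nu, ← map_inv, ← map_mul, ← map_mul, w0_comm, mul_assoc, mul_inv_cancel, mul_one]

theorem ph_T {t : Y K} (ht : t ∈ T K) : ph t ∈ T K := emb_T hp7 _ ⟨t, ht, rfl⟩

theorem cX_tau {t : Y K} (ht : t ∈ T K) (x : Fin 7 → ℤ) : cX hp7 (tau t) x = (cX hp7 t x ^ 2)⁻¹ := by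
  have h1 : (w0)⁻¹ = w0 := inv_eq_of_mul_eq_one_left w0_sq
  rw [tau_apply, cX_nu' w0 (ph_T ht), h1, rep_w0]
  have h2 : cX hp7 (ph t) (-x) = iterateFrobenius K 2 1 (cX hp7 t (-x)) :=
    Cfsg.Agent.H351.UnfE7.cX_emb hp7 _ ht (-x)
  rw [h2, iterateFrobenius_def, pow_one, (isMC_cX hp7 ht).neg, inv_pow]

theorem tau_T {t : Y K} (ht : t ∈ T K) : tau t ∈ T K := by
  rw [tau_apply]
  exact nu_T w0 (ph_T ht)

theorem pow_three (hK : Fintype.card K = 4) {a : K} (ha : a ≠ 0) : a ^ 3 = 1 := by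
  have h1 := FiniteField.pow_card_sub_one_eq_one a ha
  rwa [hK] at h1

/-- **The torus over the field with four elements is fixed.** -/
theorem T_le (hK : Fintype.card K = 4) : T K ≤ P4 K := by
  intro t ht
  rw [mem_P4]
  refine cX_inj hp7 (tau_T ht) ht fun i => ?_
  rw [cX_tau ht]
  have h0 := (isMC_cX hp7 ht).ne_zero (sr i)
  have h1 := pow_three hK h0
  rw [pow_succ] at h1
  exact (eq_inv_of_mul_eq_one_right h1).symm

/-- the word of the longest element -/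
def w0w : List ℕ := Cfsg.Agent.H154.PQE.w0word.map Fin.val

theorem w0w_lt : ∀ i ∈ w0w, i < chevE7.rank := by decide +kernel

theorem w0w_neg : ∀ s < 126, w0w.foldr chevE7.reflectRoot s = chevE7.neg s := by (rewrite [H90F.rr_fun, H90F.ng_fun]; decide +kernel)

theorem neg_neg7 : ∀ s < 126, chevE7.neg (chevE7.neg s) = s := by (rewrite [H90F.ng_fun]; decide +kernel)

theorem neg_lt7 : ∀ s < 126, chevE7.neg s < 126 := by (rewrite [H90F.ng_fun]; decide +kernel)

theorem coe_nu_wordProd (ω : List (Fin 7)) : (nu K (cs7.wordProd ω) : GL chevE7.Idx K) =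
    Cfsg.Agent.H420.PG.nwd hp7.inList (ω.map Fin.val) := by
  induction ω with
  | nil => rw [CoxeterSystem.wordProd_nil, map_one]; rfl
  | cons i ω ih =>
    rw [CoxeterSystem.wordProd_cons, map_mul, Subgroup.coe_mul, ih, nu_simple, List.map_cons]
    rfl

theorem coe_tau (y : Y K) : ((tau y : Y K) : GL chevE7.Idx K) = Cfsg.Agent.R2.E72T.sgk K w0w y := by
  rw [tau_apply]
  have h1 : (nu K w0 : GL chevE7.Idx K) = Cfsg.Agent.H420.PG.nwd hp7.inList w0w := coe_nu_wordProd _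
  rw [Subgroup.coe_mul, Subgroup.coe_mul, Subgroup.coe_inv, h1]
  rfl

theorem P4_map : (P4 K).map (chevE7.group K).subtype = Cfsg.Agent.R2.E72T.Pk K w0w := by
  ext g
  constructor
  · rintro ⟨y, hy, rfl⟩
    refine ⟨y.2, ?_⟩
    have h1 : tau y = y := hy
    have h2 := congrArg Subtype.val h1
    rw [coe_tau] at h2
    exact h2
  · rintro ⟨hg, h1⟩
    refine ⟨⟨g, hg⟩, ?_, rfl⟩
    apply Subtype.ext
    rw [coe_tau]
    exact h1

theorem isoP4 (hK : Fintype.card K = 4) : Nonempty (↥(P4 K) ≃* G7) := by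
  obtain ⟨e⟩ := Cfsg.Agent.R2.E72T.isoPk (K := K) (m := 2) (by norm_num) (by rw [hK]; norm_num) w0w_lt (by
    intro s hs
    rw [Function.iterate_succ_apply, Function.iterate_one]
    show w0w.foldr chevE7.reflectRoot (w0w.foldr chevE7.reflectRoot s) = s
    rw [w0w_neg s hs, w0w_neg _ (neg_lt7 s hs), neg_neg7 s hs])
  have e2 := (P4 K).equivMapOfInjective (chevE7.group K).subtype (chevE7.group K).subtype_injective
  rw [P4_map] at e2
  exact ⟨e2.trans e⟩

/-- the twisted Frobenius map on the root elements -/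
theorem tau_x {r : ℕ} (hr : r < 126) (t : K) :
    tau (xc hp7 (vec chevE7 7 r) t) = xc hp7 (vec chevE7 7 (chevE7.neg r)) (t ^ 2) := by
  apply Subtype.ext
  rw [coe_tau, coe_xc hp7 (show r < chevE7.nroots from hr), coe_xc hp7 (show _ < chevE7.nroots from neg_lt7 r hr)]
  have h1 := Cfsg.Agent.R2.E72T.sgk_x (k := K) w0w_lt hr t
  rw [w0w_neg r hr] at h1
  exact h1

end K

/-! ### Tables -/

/-- `A₅` -/
def r5 : Fin 6 → Fin 6 → ℕ := ![![0, 0, 1, 2, 3, 7], ![125, 0, 93, 94, 95, 99], ![124, 32, 0, 73, 74, 83],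
  ![123, 31, 52, 0, 69, 79], ![122, 30, 51, 56, 0, 78], ![118, 26, 42, 46, 47, 0]]

def s5 : Fin 6 → Fin 6 → ℤ := ![![1, 1, 1, 1, 1, 1], ![1, 1, 1, -1, 1, -1], ![1, 1, 1, 1, -1, 1],
  ![1, -1, 1, 1, 1, 1], ![1, 1, -1, 1, 1, 1], ![1, -1, 1, 1, 1, 1]]

/-- `A₂` -/
def r2 : Fin 3 → Fin 3 → ℕ := ![![0, 64, 65], ![61, 0, 63], ![60, 62, 0]]

def s2 : Fin 3 → Fin 3 → ℤ := ![![1, 1, -1], ![1, 1, 1], ![-1, 1, 1]]

open Cfsg.Agent.TitsThree.KExcRT Cfsg.Agent.H194.Pw

theorem r5a : RTa chevE7 r5 := by decide +kernel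
theorem r5b : RTb chevE7 r5 s5 := by decide +kernel
theorem r5c : RTc chevE7 r5 := by decide +kernel
theorem r5d : RTd s5 := by decide +kernel
theorem r5s : ∀ i j, s5 j i = s5 i j := by decide +kernel
theorem r5n : ∀ i j, i ≠ j → r5 j i = chevE7.neg (r5 i j) := by decide +kernel

theorem r2a : RTa chevE7 r2 := by decide +kernel
theorem r2b : RTb chevE7 r2 s2 := by decide +kernel
theorem r2c : RTc chevE7 r2 := by decide +kernel
theorem r2d : RTd s2 := by decide +kernel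
theorem r2s : ∀ i j, s2 j i = s2 i j := by decide +kernel
theorem r2n : ∀ i j, i ≠ j → r2 j i = chevE7.neg (r2 i j) := by decide +kernel

theorem r5_lt : ∀ i j, r5 i j < 126 := by decide +kernel
theorem r2_lt : ∀ i j, r2 i j < 126 := by decide +kernel

section K

variable (K : Type) [Field K] [Fintype K] [CharP K 2]

theorem sign_one {s : ℤ} (h : s * s = 1) : (s : K) = 1 := by
  rcases Int.eq_one_or_neg_one_of_mul_eq_one h with h | h
  · rw [h, Int.cast_one]
  · rw [h, Int.cast_neg, Int.cast_one, CharTwo.neg_eq]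

theorem exists_f6 : ∃ φ : Matrix.SpecialLinearGroup (Fin 6) K →* Y K, ∀ a b (hab : a ≠ b) (c : K),
    φ (Matrix.SpecialLinearGroup.transvection hab c) = xc hp7 (vec chevE7 7 (r5 a b)) c := by
  obtain ⟨φ, h⟩ := exists_hom_S (K := K) hp7 r5a r5b r5c r5d r5s r5n
  exact ⟨φ, fun a b hab c => by rw [h a b hab c, sign_one K (r5d a b), one_mul]⟩

theorem exists_f3 : ∃ φ : Matrix.SpecialLinearGroup (Fin 3) K →* Y K, ∀ a b (hab : a ≠ b) (c : K),
    φ (Matrix.SpecialLinearGroup.transvection hab c) = xc hp7 (vec chevE7 7 (r2 a b)) c := by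
  obtain ⟨φ, h⟩ := exists_hom_S (K := K) (n := 0) hp7 r2a r2b r2c r2d r2s r2n
  exact ⟨φ, fun a b hab c => by rw [h a b hab c, sign_one K (r2d a b), one_mul]⟩

/-- `SL₆(K) →* E₇(K)` -/
noncomputable def f6 : Matrix.SpecialLinearGroup (Fin 6) K →* Y K := (exists_f6 K).choose

/-- `SL₃(K) →* E₇(K)` -/
noncomputable def f3 : Matrix.SpecialLinearGroup (Fin 3) K →* Y K := (exists_f3 K).choose

variable {K}

theorem f6_tv {a b : Fin 6} (hab : a ≠ b) (c : K) :
    f6 K (Matrix.SpecialLinearGroup.transvection hab c) = xc hp7 (vec chevE7 7 (r5 a b)) c :=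
  (exists_f6 K).choose_spec a b hab c

theorem f3_tv {a b : Fin 3} (hab : a ≠ b) (c : K) :
    f3 K (Matrix.SpecialLinearGroup.transvection hab c) = xc hp7 (vec chevE7 7 (r2 a b)) c :=
  (exists_f3 K).choose_spec a b hab c

end K

end Cfsg.Agent.R2.H27.UsA
end

-- part: R2/H27S/FTwo_mg
section
prune_inst 0x54204b004c22020000180002a00020206c0000020063000090200804014e57602001af0164200a100032a8502038004001100040021000000000000040010020902a52028308010466000f80b806000000000000020000000000000000041000000000000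
set_option linter.all false
open scoped Cfsg.Agent.FastGrp

-- part: R2/H27S/FTwo
section
/-!
# Root elements of `E₇(2)` (S5934, box S)
-/

set_option autoImplicit false
set_option linter.unusedSectionVars false

namespace Cfsg.Agent.R2.H27S.FTwo

open CoxeterSystem Cfsg.Agent.ChevalleyStructure.CoxeterGeom Cfsg.Agent.Tits.Roots Cfsg.Agent.Tits.Core
  Cfsg.Agent.Nodes.Reps Cfsg.Agent.Nodes.BNOf Cfsg.Agent.Nodes.StabComb Cfsg.Agent.Nodes.Bruhat
  Cfsg.Agent.Nodes.OppDec Cfsg.Agent.Nodes.LeviDec Cfsg.Agent.Nodes.SubComb Cfsg.Agent.Nodes.Coroot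
  Cfsg.Agent.KFacts.RgdSL Cfsg.Agent.KFacts.RgdTI Cfsg.Agent.KFacts.RgdCent Cfsg.Agent.KFacts.RgdPar
open Cfsg.Lie Cfsg.Agent.ChevalleyStructure Cfsg.Agent.ChevalleyStructure.Elts Cfsg.Agent.Nodes.RGDChev
  Cfsg.Agent.ChevalleyStructure.StBasic Cfsg.Agent.ChevalleyStructure.StTheta
  Cfsg.Agent.ChevalleyStructure.CoxeterGeomTypes
  Cfsg.Agent.KFacts.RgdChevCoord
open Cfsg.Agent.H904.E7Lat Cfsg.Agent.H904.E7Form Cfsg.Agent.H904.E7Main
open Cfsg.Agent.R2.H27 (G7)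
open Cfsg.Agent.R2.H27S.ESeven Cfsg.Agent.H129.FE

abbrev F2 : Type := ZMod 2

theorem hF : Fintype.card F2 = 2 := rfl

theorem hN : Nat.card F2 = 2 := by rw [Nat.card_eq_fintype_card]; rfl

theorem T_bot : T7 F2 = ⊥ := T7_eq_bot F2 hF

/-- the root elements -/
def xe (r : ℕ) : G7 := xg F2 hp7.inList r 1

theorem xe_mul (r : ℕ) : xe r * xe r = 1 := by
  apply Subtype.ext
  show xG hp7.inList r (1 : F2) * xG hp7.inList r (1 : F2) = 1
  rw [xG_add]
  exact xG_zero hp7.inList r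

theorem xe_inv (r : ℕ) : (xe r)⁻¹ = xe r := inv_eq_of_mul_eq_one_left (xe_mul r)

theorem xe_ne_one {r : ℕ} (hr : r < 126) : xe r ≠ 1 := by
  intro h
  have h1 : xG hp7.inList r (1 : F2) = 1 := congrArg Subtype.val h
  rw [xG_eq_one_iff hp7.inList (by rw [nroots_eq]; exact hr)] at h1
  exact one_ne_zero h1

theorem two_elts (t : F2) : t = 0 ∨ t = 1 := by
  revert t; decide

theorem mem_X7 {r : ℕ} (hr : r < 126) {u : G7} : u ∈ X7 F2 (rv r) ↔ u = 1 ∨ u = xe r := by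
  show (u : GL chevE7.Idx F2) ∈ XV chevE7 7 F2 (vec chevE7 7 r) ↔ _
  rw [XV_vec hp7 F2 (by rw [nroots_eq]; exact hr), mem_rootSubgroup_iff hp7.inList]
  constructor
  · rintro ⟨t, ht⟩
    rcases two_elts t with rfl | rfl
    · left
      apply Subtype.ext
      rw [ht, xG_zero]
      rfl
    · right
      apply Subtype.ext
      rw [ht]
      rfl
  · rintro (rfl | rfl)
    · exact ⟨0, by rw [xG_zero]; rfl⟩
    · exact ⟨1, rfl⟩

theorem xe_mem {r : ℕ} (hr : r < 126) : xe r ∈ X7 F2 (rv r) := (mem_X7 hr).2 (Or.inr rfl)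

theorem xe_conj {w : W7} {g : G7} (hg : Rp cs7 (R7 F2).nsys w g) {r s : ℕ} (hr : r < 126) (hs : s < 126)
    (h : rep cs7 h7 w (rv r) = rv s) : g * xe r * g⁻¹ = xe s := by
  have h1 := RGD.conj_mem (R7 F2) hg (isRoot_rv hr) (xe_mem hr)
  rw [h, mem_X7 hs] at h1
  rcases h1 with h1 | h1
  · exfalso
    apply xe_ne_one hr
    have h2 : g⁻¹ * (g * xe r * g⁻¹) * g = xe r := by group
    rw [← h2, h1]
    group
  · exact h1

theorem X7_eq_zpowers {r : ℕ} (hr : r < 126) : X7 F2 (rv r) = Subgroup.zpowers (xe r) := by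
  apply le_antisymm
  · intro u hu
    rcases (mem_X7 hr).1 hu with rfl | rfl
    · exact one_mem _
    · exact Subgroup.mem_zpowers _
  · rw [Subgroup.zpowers_le]
    exact xe_mem hr

theorem theta_ev (r : ℕ) : theta hp7.inList F2 (chevE7.stGen F2 r 1) = xe r := theta_stGen' hp7.inList F2 r 1

theorem xe_comm {r s : ℕ} (hr : r < 126) (hs : s < 126) (hne : s ≠ r) (hneg : s ≠ chevE7.neg r)
    (h : ct chevE7 r s = []) : Commute (xe r) (xe s) := by
  have h1 := stGen_mul_stGen chevE7 (K := F2) (r := r) (s := s) (by rw [nroots_eq]; exact hr)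
    (by rw [nroots_eq]; exact hs) hne hneg 1 1
  rw [ChevalleyDatum.commWord, laced_E7 r (by rw [nroots_eq]; exact hr) s (by rw [nroots_eq]; exact hs) hne hneg, h,
    List.map_nil, List.map_nil, wd_nil, mul_one] at h1
  have h2 := congrArg (theta hp7.inList F2) h1
  rw [map_mul, map_mul, theta_ev, theta_ev] at h2
  exact h2.symm

theorem xe_swap {r s : ℕ} (hr : r < 126) (hs : s < 126) (hne : s ≠ r) (hneg : s ≠ chevE7.neg r) {q : ℕ × ℤ}
    (h : ct chevE7 r s = [q]) (hq : (q.2 : F2) = 1) : xe s * xe r = xe r * xe s * xe q.1 := by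
  have h1 := stGen_mul_stGen chevE7 (K := F2) (r := r) (s := s) (by rw [nroots_eq]; exact hr)
    (by rw [nroots_eq]; exact hs) hne hneg 1 1
  rw [ChevalleyDatum.commWord, laced_E7 r (by rw [nroots_eq]; exact hr) s (by rw [nroots_eq]; exact hs) hne hneg, h,
    List.map_cons, List.map_nil, List.map_cons, List.map_nil, wd_singleton] at h1
  have h2 := congrArg (theta hp7.inList F2) h1
  rw [map_mul, map_mul, map_mul, theta_ev, theta_ev] at h2
  rw [h2]
  have h3 : (((q.2 : ℤ) : F2) * (-1) ^ 1 * 1 ^ 1 : F2) = 1 := by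
    rw [hq]; decide
  have h4 : theta hp7.inList F2 (chevE7.stGen F2 q.1 (((q.2 : ℤ) : F2) * (-1) ^ 1 * 1 ^ 1)) = xe q.1 := by
    rw [h3, theta_ev]
  exact congrArg (fun z => xe r * xe s * z) h4

/-! ### words -/

/-- the value of a word in the root elements -/
def wv (w : List ℕ) : G7 := (w.map xe).prod

theorem wv_nil : wv [] = 1 := rfl

theorem wv_cons (r : ℕ) (w : List ℕ) : wv (r :: w) = xe r * wv w := by
  simp [wv]

theorem wv_append (v w : List ℕ) : wv (v ++ w) = wv v * wv w := by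
  simp [wv]

theorem wv_reverse (w : List ℕ) : wv w.reverse = (wv w)⁻¹ := by
  induction w with
  | nil => simp [wv]
  | cons a w ih => rw [List.reverse_cons, wv_append, ih, wv_cons, wv_cons, wv_nil, mul_one, mul_inv_rev, xe_inv]

variable (cc : ℕ → ℕ → List (ℕ × ℤ)) (ng : ℕ → ℕ) (pos : ℕ → ℕ)

/-- multiplication of a sorted word by a letter on the left -/
def insG : ℕ → ℕ → List ℕ → List ℕ
  | _, l, [] => [l]
  | 0, l, w => l :: w
  | n + 1, l, m :: w =>
    if l = m then w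
    else if pos l < pos m then l :: m :: w
    else if l < 126 ∧ m < 126 ∧ l ≠ ng m then
      match cc m l with
      | [] => m :: insG n l w
      | [q] => if q.2 = 1 ∨ q.2 = -1 then m :: insG n l (insG n q.1 w) else l :: m :: w
      | _ => l :: m :: w
    else l :: m :: w

variable {cc ng} in
theorem wv_insG (hc : ∀ r s, cc r s = ct chevE7 r s) (hn : ∀ r, ng r = chevE7.neg r) (n : ℕ) :
    ∀ (l : ℕ) (w : List ℕ), wv (insG cc ng pos n l w) = xe l * wv w := by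
  induction n with
  | zero =>
    intro l w
    cases w with
    | nil => rw [insG, wv_cons]
    | cons m w =>
      rw [insG, wv_cons]
      exact List.cons_ne_nil _ _
  | succ n ih =>
    intro l w
    cases w with
    | nil => rw [insG, wv_cons]
    | cons m w =>
      rw [insG]
      split_ifs with h1 h2 h3
      · rw [h1, wv_cons, ← mul_assoc, xe_mul, one_mul]
      · rw [wv_cons]
      · obtain ⟨h4, h5, h6⟩ := h3
        rw [hn] at h6
        split
        · rename_i heq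
          rw [wv_cons, ih, wv_cons, ← mul_assoc, ← mul_assoc, (xe_comm h5 h4 h1 h6 ((hc _ _).symm.trans heq)).eq]
        · rename_i q heq
          split_ifs with h7
          · have h8 : (q.2 : F2) = 1 := by
              rcases h7 with h7 | h7 <;> rw [h7] <;> decide
            rw [wv_cons, ih, ih, wv_cons, ← mul_assoc (xe l) (xe m) (wv w),
              xe_swap h5 h4 h1 h6 ((hc _ _).symm.trans heq) h8]
            simp only [mul_assoc]
          · rw [wv_cons]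
        · rw [wv_cons]
      · rw [wv_cons]

/-- multiplication of a sorted word by a letter on the left -/
def ins2 : ℕ → ℕ → List ℕ → List ℕ := insG (ct chevE7) chevE7.neg pos

theorem wv_ins2 (n : ℕ) (l : ℕ) (w : List ℕ) : wv (ins2 pos n l w) = xe l * wv w :=
  wv_insG pos (fun _ _ => rfl) (fun _ => rfl) n l w

/-- the sorted word -/
def nf2 (n : ℕ) : List ℕ → List ℕ
  | [] => []
  | l :: w => ins2 pos n l (nf2 n w)

theorem wv_nf2 (n : ℕ) (w : List ℕ) : wv (nf2 pos n w) = wv w := by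
  induction w with
  | nil => rfl
  | cons l w ih => rw [nf2, wv_ins2, ih, wv_cons]

theorem wv_eq_of_nf {n : ℕ} {v w : List ℕ} (h : nf2 pos n v = nf2 pos n w) : wv v = wv w := by
  rw [← wv_nf2 pos n v, h, wv_nf2]

theorem commute_of_nf {n : ℕ} {v w : List ℕ} (h : nf2 pos n (v ++ w) = nf2 pos n (w ++ v)) :
    Commute (wv v) (wv w) := by
  have h1 := wv_eq_of_nf pos h
  rwa [wv_append, wv_append] at h1

end Cfsg.Agent.R2.H27S.FTwo
end

-- part: R2/H27S/Tab
section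
/-!
# Subsystems of `E₇` from tables (S5934, box S)

`Tab` : a table of a closed subsystem of the roots of type `E₇` with base `b`.
-/

set_option autoImplicit false
set_option linter.unusedSectionVars false
set_option linter.dupNamespace false

namespace Cfsg.Agent.R2.H27S.Tab

open CoxeterSystem Cfsg.Agent.ChevalleyStructure.CoxeterGeom Cfsg.Agent.Tits.Roots Cfsg.Agent.Tits.Core
  Cfsg.Agent.Nodes.Reps Cfsg.Agent.Nodes.BNOf Cfsg.Agent.Nodes.StabComb Cfsg.Agent.Nodes.Bruhat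
  Cfsg.Agent.Nodes.OppDec Cfsg.Agent.Nodes.LeviDec Cfsg.Agent.Nodes.SubComb Cfsg.Agent.Nodes.Coroot
  Cfsg.Agent.KFacts.RgdSL Cfsg.Agent.KFacts.RgdTI Cfsg.Agent.KFacts.RgdCent Cfsg.Agent.KFacts.RgdPar
open Cfsg.Lie Cfsg.Agent.ChevalleyStructure Cfsg.Agent.ChevalleyStructure.Elts Cfsg.Agent.Nodes.RGDChev
  Cfsg.Agent.ChevalleyStructure.CoxeterGeomTypes Cfsg.Agent.KFacts.RgdChevCoord
open Cfsg.Agent.H904.E7Lat Cfsg.Agent.H904.E7Form Cfsg.Agent.H904.E7Main
open Cfsg.Agent.R2.H27S.Gen Cfsg.Agent.R2.H27S.SubG Cfsg.Agent.R2.H27S.ESeven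
open scoped commutatorElement

universe u

/-- the table of a subsystem -/
structure Tab {l : ℕ} (A' : Fin l → Fin l → ℤ) (b : Fin l → ℕ) (pc : List (ℕ × (Fin l → ℤ)))
    (Fl : List ((Fin 7 → ℤ) × ℤ)) (Li : Fin l → Fin 7 → ℤ) (D : ℤ) : Prop where
  blt : ∀ j, b j < 126
  car : ∀ j k, bf (rv (b k)) (rv (b j)) = A' j k
  D0 : D ≠ 0
  linv : ∀ j k, ∑ i, Li j i * rv (b k) i = if j = k then D else 0
  pc1 : ∀ e ∈ pc, e.1 < 126 ∧ (∀ j, 0 ≤ e.2 j) ∧ ∀ i, rv e.1 i = ∑ j, e.2 j * rv (b j) i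
  fl : ∀ f ∈ Fl, ∀ j, f.2 ∣ ∑ i, f.1 i * rv (b j) i
  com : ∀ r < 126, (∀ f ∈ Fl, f.2 ∣ ∑ i, f.1 i * rv r i) → ∃ e ∈ pc, e.1 = r ∨ e.1 = chevE7.neg r
  nd : (pc.map Prod.snd).Nodup

/-- the base -/
def bb {l : ℕ} (b : Fin l → ℕ) : Fin l → Fin 7 → ℤ := fun j => rv (b j)

theorem iota_apply' {l : ℕ} (b : Fin l → ℕ) (c : Fin l → ℤ) (i : Fin 7) :
    iota (bb b) c i = ∑ j, c j * rv (b j) i := by
  rw [iota_apply, Finset.sum_apply]
  rfl

namespace Tab

variable {l : ℕ} {A' : Fin l → Fin l → ℤ} {b : Fin l → ℕ} {pc : List (ℕ × (Fin l → ℤ))}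
  {Fl : List ((Fin 7 → ℤ) × ℤ)} {Li : Fin l → Fin 7 → ℤ} {D : ℤ} (t : Tab A' b pc Fl Li D)

include t

theorem iota_inj {c d : Fin l → ℤ} (e : iota (bb b) c = iota (bb b) d) : c = d := by
  have key : ∀ c : Fin l → ℤ, ∀ j, ∑ i, Li j i * iota (bb b) c i = D * c j := by
    intro c j
    simp only [iota_apply', Finset.mul_sum]
    rw [Finset.sum_comm]
    have h1 : ∀ k, ∑ i, Li j i * (c k * rv (b k) i) = c k * if j = k then D else 0 := by
      intro k
      rw [← t.linv j k, Finset.mul_sum]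
      exact Finset.sum_congr rfl fun i _ => by ring
    rw [Finset.sum_congr rfl fun k _ => h1 k]
    simp [mul_comm]
  funext j
  have h1 := key c j
  rw [e, key d j] at h1
  exact mul_left_cancel₀ t.D0 h1.symm

theorem exists_subSys : ∃ (w : Fin l → W7) (i : Fin l → Fin 7), SubSys cs7 h7 A' (bb b) w i := by
  have h1 : ∀ j, IsRoot cs7 h7 (bb b j) := fun j => isRoot_rv (t.blt j)
  choose w i hw using h1
  refine ⟨w, i, hw, fun j k => ?_, fun c hc => ?_⟩
  · have h2 := cpr_rep_sr cs7 h7 (bb b k) (w j) (i j)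
    rw [← h2, ← hw j]
    exact (cpr_eq _ (isRoot_rv (t.blt j))).trans (t.car j k)
  · exact t.iota_inj (by rw [hc, map_zero])

theorem dvd_iota {f : (Fin 7 → ℤ) × ℤ} (hf : f ∈ Fl) (c : Fin l → ℤ) : f.2 ∣ ∑ i, f.1 i * iota (bb b) c i := by
  have h1 : ∑ i, f.1 i * iota (bb b) c i = ∑ j, c j * ∑ i, f.1 i * rv (b j) i := by
    simp only [iota_apply', Finset.mul_sum]
    rw [Finset.sum_comm]
    exact Finset.sum_congr rfl fun j _ => Finset.sum_congr rfl fun i _ => by ring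
  rw [h1]
  exact Finset.dvd_sum fun j _ => Dvd.dvd.mul_left (t.fl f hf j) _

theorem iota_pc {e : ℕ × (Fin l → ℤ)} (he : e ∈ pc) : iota (bb b) e.2 = rv e.1 := by
  funext i
  rw [iota_apply', (t.pc1 e he).2.2 i]

/-- the roots in the lattice of the subsystem -/
theorem mem_of_isRoot {c : Fin l → ℤ} (hc : IsRoot cs7 h7 (iota (bb b) c)) :
    ∃ e ∈ pc, c = e.2 ∨ c = -e.2 := by
  obtain ⟨r, hr, e⟩ := (isRoot_iff7 _).1 hc
  obtain ⟨f, hf, h1⟩ := t.com r hr fun f hf => by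
    have := t.dvd_iota hf c
    rw [← e] at this
    exact this
  refine ⟨f, hf, ?_⟩
  rcases h1 with h1 | h1
  · left
    apply t.iota_inj
    rw [t.iota_pc hf, h1, e]
  · right
    apply t.iota_inj
    rw [map_neg, t.iota_pc hf, h1, rv_neg hr, neg_neg, e]

theorem hbase (c : Fin l → ℤ) (hc : IsRoot cs7 h7 (iota (bb b) c)) : 0 ≤ c ∨ c ≤ 0 := by
  obtain ⟨e, he, h1 | h1⟩ := t.mem_of_isRoot hc
  · left; rw [h1]; exact (t.pc1 e he).2.1
  · right; rw [h1]; exact neg_nonpos.2 (t.pc1 e he).2.1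

section Sub

variable {W' : Type*} [Group W'] {M' : CoxeterMatrix (Fin l)} (cs' : CoxeterSystem M' W') (h' : IsCartan M' A')

theorem isRoot_iff' (c : Fin l → ℤ) : IsRoot cs' h' c ↔ IsRoot cs7 h7 (iota (bb b) c) := by
  obtain ⟨w, i, S⟩ := t.exists_subSys
  exact ⟨fun h => S.isRoot_iota h, fun h => S.isRoot_of_iota cs' h' t.hbase h⟩

theorem pos_iff (c : Fin l → ℤ) : c ∈ RGD.Pos cs' h' ↔ ∃ e ∈ pc, e.2 = c := by
  constructor
  · rintro ⟨h1, h2⟩
    obtain ⟨e, he, h3 | h3⟩ := t.mem_of_isRoot ((t.isRoot_iff' cs' h' c).1 h1)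
    · exact ⟨e, he, h3.symm⟩
    · exfalso
      have h4 := (t.pc1 e he).2.1
      have h5 : c = 0 := le_antisymm (by rw [h3]; exact neg_nonpos.2 h4) h2
      exact h1.ne_zero h5
  · rintro ⟨e, he, rfl⟩
    refine ⟨(t.isRoot_iff' cs' h' _).2 ?_, (t.pc1 e he).2.1⟩
    rw [t.iota_pc he]
    exact isRoot_rv (t.pc1 e he).1

theorem ncard_pos : (RGD.Pos cs' h').ncard = pc.length := by
  classical
  have h1 : RGD.Pos cs' h' = ((pc.map Prod.snd).toFinset : Set (Fin l → ℤ)) := by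
    ext c
    rw [t.pos_iff cs' h' c]
    simp
  rw [h1, Set.ncard_coe_finset, List.toFinset_card_of_nodup t.nd, List.length_map]

/-- the roots of the subsystem -/
theorem range_eq : {x | ∃ c, IsRoot cs' h' c ∧ x = iota (bb b) c} =
    {x | ∃ e ∈ pc, x = rv e.1 ∨ x = rv (chevE7.neg e.1)} := by
  ext x
  constructor
  · rintro ⟨c, hc, rfl⟩
    obtain ⟨e, he, h3 | h3⟩ := t.mem_of_isRoot ((t.isRoot_iff' cs' h' c).1 hc)
    · exact ⟨e, he, Or.inl (by rw [h3, t.iota_pc he])⟩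
    · exact ⟨e, he, Or.inr (by rw [h3, map_neg, t.iota_pc he, rv_neg (t.pc1 e he).1])⟩
  · rintro ⟨e, he, rfl | rfl⟩
    · refine ⟨e.2, (t.isRoot_iff' cs' h' _).2 ?_, (t.iota_pc he).symm⟩
      rw [t.iota_pc he]
      exact isRoot_rv (t.pc1 e he).1
    · refine ⟨-e.2, (t.isRoot_iff' cs' h' _).2 ?_, ?_⟩
      · rw [map_neg, t.iota_pc he]
        exact (isRoot_rv (t.pc1 e he).1).neg
      · rw [map_neg, t.iota_pc he, rv_neg (t.pc1 e he).1]

end Sub

end Tab

/-! ### Groups -/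

section Grp

variable (K : Type u) [Field K] [Finite K] [CharP K 2]

/-- the group generated by the root groups of a list of roots -/
def GS (L : List ℕ) : Subgroup ↥(chevE7.group K) := RGD.Sup (X7 K) {x | ∃ r ∈ L, x = rv r}

theorem X_le_GS {L : List ℕ} {r : ℕ} (hr : r ∈ L) : X7 K (rv r) ≤ GS K L :=
  RGD.le_Sup (S := {x | ∃ r ∈ L, x = rv r}) ⟨r, hr, rfl⟩

theorem GS_le {L : List ℕ} {H : Subgroup ↥(chevE7.group K)} (h : ∀ r ∈ L, X7 K (rv r) ≤ H) : GS K L ≤ H := by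
  refine RGD.Sup_le ?_
  rintro _ ⟨r, hr, rfl⟩
  exact h r hr

/-- the roots of a table -/
def rts {l : ℕ} (pc : List (ℕ × (Fin l → ℤ))) : List ℕ := pc.map Prod.fst ++ pc.map fun e => chevE7.neg e.1

variable {l : ℕ} {A' : Fin l → Fin l → ℤ} {b : Fin l → ℕ} {pc : List (ℕ × (Fin l → ℤ))}
  {Fl : List ((Fin 7 → ℤ) × ℤ)} {Li : Fin l → Fin 7 → ℤ} {D : ℤ} (t : Tab A' b pc Fl Li D)
  {W' : Type*} [Group W'] {M' : CoxeterMatrix (Fin l)} (cs' : CoxeterSystem M' W') (h' : IsCartan M' A')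

include t cs' h'

theorem HS_eq : HS cs' h' (T7 K) (X7 K) (bb b) = T7 K ⊔ GS K (rts pc) := by
  unfold HS GS
  rw [t.range_eq cs' h']
  congr 2
  ext x
  constructor
  · rintro ⟨e, he, h1 | h1⟩
    · exact ⟨e.1, List.mem_append_left _ (List.mem_map_of_mem he), h1⟩
    · exact ⟨chevE7.neg e.1, List.mem_append_right _ (List.mem_map.2 ⟨e, he, rfl⟩), h1⟩
  · rintro ⟨r, hr, rfl⟩
    rcases List.mem_append.1 hr with h1 | h1
    · obtain ⟨e, he, rfl⟩ := List.mem_map.1 h1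
      exact ⟨e, he, Or.inl rfl⟩
    · obtain ⟨e, he, rfl⟩ := List.mem_map.1 h1
      exact ⟨e, he, Or.inr rfl⟩

theorem card_sum [Fintype W'] : Nat.card ↥(T7 K ⊔ GS K (rts pc)) =
    Nat.card (T7 K) * Nat.card K ^ pc.length * ∑ w : W', Nat.card K ^ cs'.length w := by
  obtain ⟨w, i, S⟩ := t.exists_subSys
  rw [← HS_eq K t cs' h', card_HS (cs' := cs') (h' := h') (R7 K) sl7 S t.hbase (fun x hx => card_X7 K hx),
    t.ncard_pos cs' h']

theorem card_A [Finite W'] (L : List ((ℕ → Fin l) × ℕ))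
    (hL : ∀ k : ℕ, ∀ hk : k < L.length, Cfsg.Agent.H35.Poin.APath A'
      (Set.univ \ {j | ∃ e ∈ L.take k, ∃ t < e.2, e.1 t = j}) (L[k].1) (L[k].2))
    (hall : ∀ j, ∃ e ∈ L, ∃ t < e.2, e.1 t = j) : Nat.card ↥(T7 K ⊔ GS K (rts pc)) =
    Nat.card (T7 K) * Nat.card K ^ pc.length *
      (L.map fun e => ∏ i ∈ Finset.range e.2, ∑ t ∈ Finset.range (i + 2), Nat.card K ^ t).prod := by
  obtain ⟨w, i, S⟩ := t.exists_subSys
  rw [← HS_eq K t cs' h', card_HS' (cs' := cs') (h' := h') (R7 K) sl7 S t.hbase (fun x hx => card_X7 K hx) L hL hall,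
    t.ncard_pos cs' h']

omit [CharP K 2] [Finite K] in
theorem simple [Fintype K] [CharP K 2] (hK : Fintype.card K = 2) [Nonempty (Fin l)]
    (hconn : ∀ J : Set (Fin l), J.Nonempty → J ≠ Set.univ → ∃ a ∈ J, ∃ b, b ∉ J ∧ M' a b ≠ 2)
    (hadj : ∀ i, ∃ j, A' j i = -1) : IsSimpleGroup ↥(GS K (rts pc)) := by
  obtain ⟨w, i, S⟩ := t.exists_subSys
  have hT := T7_eq_bot K hK
  have h1 := simple_HS (cs' := cs') (h' := h') (R7 K) sl7 S t.hbase hT hconn hadj
  rwa [HS_eq K t cs' h', hT, bot_sup_eq] at h1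

end Grp

/-! ### Centralisers over `F₂` -/

section Cent

variable (K : Type u) [Field K] [Fintype K] [CharP K 2]

/-- The centraliser of the root groups of a symmetric set of roots. -/
theorem cent_le {L L' : List ℕ} (hL : ∀ r ∈ L, r < 126 ∧ chevE7.neg r ∈ L)
    (hL' : ∀ r < 126, (∀ s ∈ L, bf (rv r) (rv s) = 0) → r ∈ L') {g : ↥(chevE7.group K)}
    (hg : g ∈ Subgroup.centralizer (GS K L : Set ↥(chevE7.group K))) : g ∈ T7 K ⊔ GS K L' := by
  have h1 := Cfsg.Agent.KFacts.RgdCent.cent_le (R7 K) (Psi := {x | ∃ r ∈ L, x = rv r}) (by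
    rintro _ ⟨r, hr, rfl⟩
    exact lr7 K (isRoot_rv (hL r hr).1)) (g := g) (by rw [GG7 K]; exact Subgroup.mem_top g) (by
    rintro _ ⟨r, hr, rfl⟩ v hv
    exact (Subgroup.mem_centralizer_iff.1 hg v (X_le_GS K hr hv)).symm)
  refine (?_ : PS (T7 K) (X7 K) _ ≤ _) h1
  unfold PS
  refine sup_le_sup_left (RGD.Sup_le ?_) _
  rintro x ⟨hx, h2⟩
  obtain ⟨r, hr, rfl⟩ := (isRoot_iff7 x).1 hx
  refine X_le_GS K (hL' r hr fun s hs => ?_)
  have h3 := h2 (rv s) ⟨s, hs, rfl⟩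
  have h4 := h2 (rv (chevE7.neg s)) ⟨_, (hL s hs).2, rfl⟩
  rw [cpr_eq _ (isRoot_rv (hL s hs).1)] at h3
  rw [cpr_eq _ (isRoot_rv (neg_lt7 s (hL s hs).1)), rv_neg (hL s hs).1, bf_neg] at h4
  omega

theorem comm_of_bf {r s : ℕ} (hr : r < 126) (hs : s < 126) (h : bf (rv r) (rv s) = 0) :
    ∀ u ∈ X7 K (rv r), ∀ v ∈ X7 K (rv s), u * v = v * u :=
  fun u hu v hv => (lr7 K (isRoot_rv hs)).comm (rv r) (isRoot_rv hr) (by rw [cpr_eq _ (isRoot_rv hs), h]) u hu v hv

theorem GS_le_centralizer {L L' : List ℕ} (hL : ∀ r ∈ L, r < 126) (hL' : ∀ r ∈ L', r < 126)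
    (h : ∀ r ∈ L', ∀ s ∈ L, bf (rv r) (rv s) = 0) :
    GS K L' ≤ Subgroup.centralizer (GS K L : Set ↥(chevE7.group K)) := by
  rw [Subgroup.le_centralizer_iff]
  refine GS_le K fun s hs => ?_
  rw [Subgroup.le_centralizer_iff]
  refine GS_le K fun r hr => ?_
  intro u hu
  rw [Subgroup.mem_centralizer_iff]
  intro v hv
  exact (comm_of_bf K (hL' r hr) (hL s hs) (h r hr s hs) u hu v hv).symm

/-- **The centraliser over `F₂`.** -/
theorem cent_eq (hK : Fintype.card K = 2) {L L' : List ℕ} (hL : ∀ r ∈ L, r < 126 ∧ chevE7.neg r ∈ L)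
    (hL' : ∀ r ∈ L', r < 126) (h : ∀ r < 126, (r ∈ L' ↔ ∀ s ∈ L, bf (rv r) (rv s) = 0)) :
    Subgroup.centralizer (GS K L : Set ↥(chevE7.group K)) = GS K L' := by
  apply le_antisymm
  · intro g hg
    have h1 := cent_le K hL (fun r hr h0 => (h r hr).2 h0) hg
    rwa [T7_eq_bot K hK, bot_sup_eq] at h1
  · exact GS_le_centralizer K (fun r hr => (hL r hr).1) hL' fun r hr => (h r (hL' r hr)).1 hr

end Cent

end Cfsg.Agent.R2.H27S.Tab
end

private theorem dce_568f6d2063c4 : _root_.True := by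
  try have : _root_.True := by simp only [_root_.Cfsg.Agent.R2.H27S.FTwo.insG.eq_1]
  try have : _root_.True := by simp only [_root_.Cfsg.Agent.R2.H27S.FTwo.nf2.eq_def]
  try have : _root_.True := by simp only [_root_.Cfsg.Agent.R2.H27S.FTwo.insG.eq_3]
  try have : _root_.True := by simp only [_root_.Cfsg.Agent.R2.H27S.FTwo.insG._sparseCasesOn_1.else_eq]
  try have : _root_.True := by simp only [_root_.Cfsg.Agent.R2.H27S.FTwo.wv.eq_1]
  try have : _root_.True := by simp only [_root_.Cfsg.Agent.R2.H27S.FTwo.insG.eq_def]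
  try have : _root_.True := by simp only [_root_.Cfsg.Agent.R2.H27S.FTwo.insG.eq_2]
  try have : _root_.True := by simp only [_root_.Cfsg.Agent.R2.H27S.FTwo.nf2.eq_1]
  try have : _root_.True := by simp only [_root_.Cfsg.Agent.R2.H27S.FTwo.nf2.eq_2]
  exact _root_.True.intro
end

-- part: R2/E72T/BoxT9_mg
section
prune_inst 0x400042044000020000000000000000400e00009000430800404008440008264000000e00b4200012002020040038002001000050020000000000800001180080040000029008000040000e001000000000000000020000000000000000000000000000000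
set_option linter.all false
open scoped Cfsg.Agent.FastGrp

-- part: R2/E72T/T9a
section
/-!
# `L₂(8) × ³D₄(2)` in `E₇(2)`: the subgroups (S5934, box T9)
-/

set_option autoImplicit false
set_option linter.unusedSectionVars false

namespace Cfsg.Agent.R2.E72T

open Cfsg.Lie Cfsg.Agent.ChevalleyStructure Cfsg.Agent.ChevalleyStructure.Elts
open Cfsg.Agent.ChevalleyStructure.StBasic Cfsg.Agent.ChevalleyStructure.StTorus
open Cfsg.Agent.ChevalleyStructure.SL2Hom (up lo mem_closure_SL2)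
open Cfsg.Agent.Nodes.RGDFoldSL
open Cfsg.Agent.H420.PG
open scoped MatrixGroups

universe u v

section K

variable {K : Type u} [Field K] [CharP K 2]

/-- `Θ4` over one field -/
noncomputable abbrev Θd (K : Type u) [Field K] [CharP K 2] : chevD4.SteinbergGroup K →* GL chevE7.Idx K :=
  Θ4 (RingHom.id K)

theorem Θd_gen {r : ℕ} (hr : r < 24) (t : K) : Θd K (chevD4.stGen K r t) = xG hE7 (τ4 r) t :=
  subHom_stGen sub4 hE7 (RingHom.id K) (show r < chevD4.nroots from hr) t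

theorem τ4_lt {r : ℕ} (hr : r < 24) : τ4 r < 126 := sub4.lt (show r < chevD4.nroots from hr)

theorem rot (a b c : ℕ) (h : (a, b, c) = (18, 13, 12) ∨ (a, b, c) = (5, 10, 11)) :
    w3.foldr chevE7.reflectRoot (τ4 a) = τ4 b ∧ w3.foldr chevE7.reflectRoot (τ4 b) = τ4 c ∧
      w3.foldr chevE7.reflectRoot (τ4 c) = τ4 a := by
  have h1 := w3_D4
  simp only [List.map_cons, List.map_nil, List.cons.injEq, and_true] at h1
  obtain ⟨h18, -, h13, h12, h5, -, h10, h11⟩ := h1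
  rcases h with h | h
  · simp only [Prod.mk.injEq] at h
    obtain ⟨rfl, rfl, rfl⟩ := h
    exact ⟨h18, h13, h12⟩
  · simp only [Prod.mk.injEq] at h
    obtain ⟨rfl, rfl, rfl⟩ := h
    exact ⟨h5, h10, h11⟩

theorem mid (a : ℕ) (h : a = 14 ∨ a = 9) : w3.foldr chevE7.reflectRoot (τ4 a) = τ4 a := by
  have h1 := w3_D4
  simp only [List.map_cons, List.map_nil, List.cons.injEq, and_true] at h1
  obtain ⟨-, h14, -, -, -, h9, -, -⟩ := h1
  rcases h with rfl | rfl
  · exact h14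
  · exact h9

theorem outer_comm (a b c : ℕ) (h : (a, b, c) = (18, 13, 12) ∨ (a, b, c) = (5, 10, 11)) (t u : K) :
    Commute (xG hE7 (τ4 a) t) (xG hE7 (τ4 b) u) ∧ Commute (xG hE7 (τ4 a) t) (xG hE7 (τ4 c) u) ∧
      Commute (xG hE7 (τ4 b) t) (xG hE7 (τ4 c) u) := by
  have h1 := outD4
  simp only [Bool.and_eq_true] at h1
  obtain ⟨h1, h2, h3, h4, h5, h6⟩ := h1
  rcases h with h | h
  · simp only [Prod.mk.injEq] at h
    obtain ⟨rfl, rfl, rfl⟩ := h
    exact ⟨_root_.Cfsg.Agent.H420.PG.comm_of hE7 h1 t u, _root_.Cfsg.Agent.H420.PG.comm_of hE7 h2 t u, _root_.Cfsg.Agent.H420.PG.comm_of hE7 h3 t u⟩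
  · simp only [Prod.mk.injEq] at h
    obtain ⟨rfl, rfl, rfl⟩ := h
    exact ⟨_root_.Cfsg.Agent.H420.PG.comm_of hE7 h4 t u, _root_.Cfsg.Agent.H420.PG.comm_of hE7 h5 t u, _root_.Cfsg.Agent.H420.PG.comm_of hE7 h6 t u⟩

/-- the words of `³D₄` are fixed -/
theorem fix_word [Fintype K] (hK : Fintype.card K = 2 ^ 3) (w : List (ℕ × K)) (hw : w ∈ d4Words K 2) :
    sgk K w3 (Θd K (wd chevD4 w)) = Θd K (wd chevD4 w) := by
  rcases hw with ⟨t, ht, r, hr, rfl⟩ | ⟨t, rs, hrs, rfl⟩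
  · have hr' : r = 14 ∨ r = 9 := by simpa [d4p2, d4m2] using hr
    have hr24 : r < 24 := by rcases hr' with rfl | rfl <;> norm_num
    rw [wd_singleton, Θd_gen hr24, sgk_x w3_lt (τ4_lt hr24), mid r hr', ht]
  · obtain ⟨a, b, c⟩ := rs
    have h1 : (a, b, c) = (18, 13, 12) ∨ (a, b, c) = (5, 10, 11) := by
      simpa [d4p1, d4p3, d4p4, d4m1, d4m3, d4m4] using hrs
    have hlt : a < 24 ∧ b < 24 ∧ c < 24 := by
      rcases h1 with h1 | h1 <;> (simp only [Prod.mk.injEq] at h1; obtain ⟨rfl, rfl, rfl⟩ := h1; norm_num)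
    obtain ⟨ha, hb, hc⟩ := hlt
    obtain ⟨e1, e2, e3⟩ := rot a b c h1
    have e8 : ((t ^ 2 ^ 2) ^ 2 : K) = t := by
      rw [← pow_mul]
      have := FiniteField.pow_card t
      rw [hK] at this
      exact this
    have e0 : wd chevD4 [((a, b, c).1, t), ((a, b, c).2.1, t ^ 2), ((a, b, c).2.2, t ^ 2 ^ 2)] =
        chevD4.stGen K a t * (chevD4.stGen K b (t ^ 2) * chevD4.stGen K c (t ^ 2 ^ 2)) := by
      rw [wd_cons, wd_cons, wd_singleton]
    have e0' : Θd K (wd chevD4 [((a, b, c).1, t), ((a, b, c).2.1, t ^ 2), ((a, b, c).2.2, t ^ 2 ^ 2)]) =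
        xG hE7 (τ4 a) t * (xG hE7 (τ4 b) (t ^ 2) * xG hE7 (τ4 c) (t ^ 2 ^ 2)) := by
      rw [e0, map_mul, map_mul, Θd_gen ha, Θd_gen hb, Θd_gen hc]
    rw [e0', map_mul, map_mul,
      sgk_x w3_lt (τ4_lt ha), sgk_x w3_lt (τ4_lt hb), sgk_x w3_lt (τ4_lt hc), e1, e2, e3]
    show xG hE7 (τ4 b) (t ^ 2) * (xG hE7 (τ4 c) ((t ^ 2) ^ 2) * xG hE7 (τ4 a) ((t ^ 2 ^ 2) ^ 2)) =
      xG hE7 (τ4 a) t * (xG hE7 (τ4 b) (t ^ 2) * xG hE7 (τ4 c) (t ^ 2 ^ 2))
    rw [e8, show ((t ^ 2) ^ 2 : K) = t ^ 2 ^ 2 by rw [← pow_mul]; rfl]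
    have c1 := (outer_comm a b c h1 t (t ^ 2)).1
    have c2 := (outer_comm a b c h1 t (t ^ 2 ^ 2)).2.1
    rw [← mul_assoc, ← (c1.mul_right c2).eq]

/-- **`³D₄(2)`** -/
noncomputable def X9 (K : Type u) [Field K] [CharP K 2] : Subgroup (GL chevE7.Idx K) :=
  (stS chevD4 (d4Words K 2)).map (Θd K)

theorem X9_le [Fintype K] (hK : Fintype.card K = 2 ^ 3) : X9 K ≤ Pk K w3 := by
  rintro _ ⟨x, hx, rfl⟩
  rw [mem_Pk]
  exact ⟨subHom_mem sub4 hE7 _ x, fix_stS _ (fix_word hK) hx⟩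

/-- the isomorphism with `³D₄(2)` -/
noncomputable def X9Equiv (K : Type u) [Field K] [CharP K 2] : ↥(X9 K) ≃* ↥(twistedD4 K 2) :=
  ((stS chevD4 (d4Words K 2)).equivMapOfInjective _ (Θ4_injective (RingHom.id K))).symm.trans
    (stSEquiv hD4 (d4Words K 2) (thetaD4_injective K))

/-- **`L₂(8)`** -/
noncomputable def u9 (K : Type u) [Field K] [CharP K 2] : SL(2, K) →* GL chevE7.Idx K := uuk (RingHom.id K) orth3

theorem u9_mem [Fintype K] (hK : Fintype.card K = 2 ^ 3) (g : SL(2, K)) : u9 K g ∈ Pk K w3 := by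
  rw [mem_Pk]
  exact ⟨Psik_mem (r := r3) orth3 lt3 (dgk (RingHom.id K) 3 g), uuk_fix (RingHom.id K) hK orth3 w3_lt cyc3 g⟩

theorem u9_injective [Fintype K] (hK : Fintype.card K = 2 ^ 3) : Function.Injective (u9 K) :=
  uuk_injective (RingHom.id K) (by rw [hK]; norm_num) orth3
    (uuk_up_ne (RingHom.id K) orth3 lt3 act3 (by norm_num) nact3)

/-- `D₄(K)` commutes with the three root `SL₂`s -/
theorem Θd_comm_psi (x : chevD4.SteinbergGroup K) (i : Fin 3) (g : SL(2, K)) :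
    Commute (Θd K x) (psi hE7 K (r3 i) g) := by
  have h1 : (⊤ : Subgroup (chevD4.SteinbergGroup K)) ≤
      (Subgroup.centralizer {psi hE7 K (r3 i) g}).comap (Θd K) := by
    rw [← closure_stGen, Subgroup.closure_le]
    rintro _ ⟨r, t, hr, rfl⟩
    rw [SetLike.mem_coe, Subgroup.mem_comap, Subgroup.mem_centralizer_singleton_iff, Θd_gen hr]
    exact (psi_comm_x hE7 (orthD4 i r hr) g t).eq
  exact Subgroup.mem_centralizer_singleton_iff.1 (h1 (Subgroup.mem_top x))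

theorem Θd_comm_u9 (x : chevD4.SteinbergGroup K) (g : SL(2, K)) : Commute (Θd K x) (u9 K g) := by
  have h1 : Psik orth3 (dgk (RingHom.id K) 3 g) ∈ Subgroup.centralizer {Θd K x} := by
    refine Psik_mem_of orth3 _ fun i => ?_
    rw [Subgroup.mem_centralizer_singleton_iff]
    exact (Θd_comm_psi x i _).symm.eq
  exact (show Commute _ _ from Subgroup.mem_centralizer_singleton_iff.1 h1).symm

end K

end Cfsg.Agent.R2.E72T
end

-- part: R2/E72T/Tri
section
/-!
# Products of three orthogonal root elements (S5934, box T)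
-/

set_option autoImplicit false
set_option linter.unusedSectionVars false

namespace Cfsg.Agent.R2.E72T

open Cfsg.Lie Cfsg.Agent.ChevalleyStructure Cfsg.Agent.ChevalleyStructure.Elts
open Cfsg.Agent.ChevalleyStructure.SL2Hom (up lo mem_closure_SL2)
open Cfsg.Agent.Nodes.RGDFoldSL Cfsg.Agent.Nodes.RGDChev
open Cfsg.Agent.KFacts.RgdChevCoord
open Cfsg.Agent.H420.PG
open scoped MatrixGroups

universe u

/-- roots detecting the coordinates of a product of three orthogonal root elements -/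
def det3 (r s c : Fin 3 → ℕ) : Bool :=
  (List.finRange 3).all fun i => okB chevE7 (r i) (s i) [(c i, 1, 1)] && Nat.blt (c i) 126 &&
    (List.finRange 3).all fun j => i == j || okB chevE7 (r j) (s i) []

section Tri

variable {k : Type u} [Field k] [CharP k 2] {r s c : Fin 3 → ℕ}

theorem Psik_three (h : Orth r = true) (x : Fin 3 → SL(2, k)) :
    Psik h x = psi hE7 k (r 0) (x 0) * (psi hE7 k (r 1) (x 1) * psi hE7 k (r 2) (x 2)) := by
  have h1 : x = Pi.mulSingle 0 (x 0) * (Pi.mulSingle 1 (x 1) * Pi.mulSingle 2 (x 2)) := by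
    funext i
    fin_cases i
    · show x 0 = Pi.mulSingle (M := fun _ => SL(2, k)) 0 (x 0) 0 *
        (Pi.mulSingle (M := fun _ => SL(2, k)) 1 (x 1) 0 * Pi.mulSingle (M := fun _ => SL(2, k)) 2 (x 2) 0)
      rw [Pi.mulSingle_eq_same, Pi.mulSingle_eq_of_ne (by decide), Pi.mulSingle_eq_of_ne (by decide), mul_one, mul_one]
    · show x 1 = Pi.mulSingle (M := fun _ => SL(2, k)) 0 (x 0) 1 *
        (Pi.mulSingle (M := fun _ => SL(2, k)) 1 (x 1) 1 * Pi.mulSingle (M := fun _ => SL(2, k)) 2 (x 2) 1)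
      rw [Pi.mulSingle_eq_same, Pi.mulSingle_eq_of_ne (by decide), Pi.mulSingle_eq_of_ne (by decide), mul_one, one_mul]
    · show x 2 = Pi.mulSingle (M := fun _ => SL(2, k)) 0 (x 0) 2 *
        (Pi.mulSingle (M := fun _ => SL(2, k)) 1 (x 1) 2 * Pi.mulSingle (M := fun _ => SL(2, k)) 2 (x 2) 2)
      rw [Pi.mulSingle_eq_same, Pi.mulSingle_eq_of_ne (by decide), Pi.mulSingle_eq_of_ne (by decide), one_mul, one_mul]
  conv_lhs => rw [h1]
  rw [map_mul, map_mul, Psik_single, Psik_single, Psik_single]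

theorem up_add' (a b : k) : (up (a + b) : SL(2, k)) = up a * up b := by
  apply Subtype.ext
  rw [Matrix.SpecialLinearGroup.coe_mul]
  ext i j
  (revert i j; simp only [up, Matrix.mul_apply, Fin.sum_univ_two, add_comm, _root_.Fin.forall_fin_succ, _root_.Matrix.of_apply, _root_.Matrix.cons_val', _root_.Matrix.cons_val_fin_one, Fin.isValue, _root_.Matrix.cons_val_zero, _root_.Matrix.cons_val_one, _root_.mul_one, _root_.MulZeroClass.mul_zero, _root_.zero_add, _root_.Matrix.cons_val_succ, _root_.forall_const, _root_.true_and, _root_.one_mul, _root_.MulZeroClass.zero_mul, _root_.implies_true, _root_.and_self])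

theorem Psik_up_eq_one (h : Orth r = true) (hr : ∀ i, r i < 126) (hd : det3 r s c = true) {x : Fin 3 → k}
    (hx : Psik h (fun i => up (x i)) = 1) (i : Fin 3) : x i = 0 := by
  have hd1 := List.all_eq_true.1 hd i (List.mem_finRange i)
  simp only [Bool.and_eq_true, Nat.blt_eq] at hd1
  obtain ⟨⟨hs, hc⟩, ho⟩ := hd1
  have h4 : Psik h ((fun i => up (x i)) * (Pi.mulSingle i (up (x i)))⁻¹) ∈
      Subgroup.centralizer {xG hE7 (s i) (1 : k)} := by
    refine Psik_mem_of h _ fun j => ?_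
    rw [Subgroup.mem_centralizer_singleton_iff]
    by_cases hj : j = i
    · subst hj
      rw [Pi.mul_apply, Pi.inv_apply, Pi.mulSingle_eq_same, mul_inv_cancel, map_one, one_mul, mul_one]
    · rw [Pi.mul_apply, Pi.inv_apply, Pi.mulSingle_eq_of_ne hj, inv_one, mul_one,
        psi_up hE7 (show r j < chevE7.nroots from hr j)]
      have h5 := List.all_eq_true.1 ho j (List.mem_finRange j)
      rw [Bool.or_eq_true] at h5
      rcases h5 with h5 | h5
      · rw [beq_iff_eq] at h5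
        exact absurd h5.symm hj
      · exact (_root_.Cfsg.Agent.H420.PG.comm_of hE7 h5 (x j) 1).eq
  have h3 : Psik h (fun i => up (x i)) = Psik h ((fun i => up (x i)) * (Pi.mulSingle i (up (x i)))⁻¹) *
      xG hE7 (r i) (x i) := by
    have e : (fun i => up (x i) : Fin 3 → SL(2, k)) =
        ((fun i => up (x i)) * (Pi.mulSingle i (up (x i)))⁻¹) * Pi.mulSingle i (up (x i)) := by
      rw [inv_mul_cancel_right]
    conv_lhs => rw [e]
    rw [map_mul, Psik_single, psi_up hE7 (show r i < chevE7.nroots from hr i)]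
  rw [h3] at hx
  have h6 : Commute (xG hE7 (r i) (x i)) (xG hE7 (s i) 1) := by
    have h7 : xG hE7 (r i) (x i) = (Psik h ((fun i => up (x i)) * (Pi.mulSingle i (up (x i)))⁻¹))⁻¹ :=
      eq_inv_of_mul_eq_one_right hx
    rw [h7]
    exact (show Commute _ _ from Subgroup.mem_centralizer_singleton_iff.1 h4).inv_left
  have h8 := rel (F := k) hE7 hs (x i) 1
  rw [List.map_cons, List.map_nil, List.prod_cons, List.prod_nil, mul_one, h6.eq] at h8
  have h9 : xG hE7 (c i) ((x i) ^ 1 * 1 ^ 1) = 1 := by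
    have := mul_left_cancel (a := xG hE7 (s i) (1 : k) * xG hE7 (r i) (x i)) (b := 1)
      (c := xG hE7 (c i) ((x i) ^ 1 * 1 ^ 1)) (by rw [mul_one]; exact h8)
    exact this.symm
  rw [xG_eq_one_iff hE7 (show c i < chevE7.nroots from hc)] at h9
  simpa using h9

end Tri

section Fin

variable {K : Type u} [Field K] [Finite K] [CharP K 2] {r s c : Fin 3 → ℕ}

/-- A torus element commuting with a product of three orthogonal root elements. -/
theorem rv_three (h : Orth r = true) (hr : ∀ i, r i < 126) (hd : det3 r s c = true)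
    {t : ↥(chevE7.group K)} (ht : t ∈ TT chevE7 K)
    (hc : (t : GL chevE7.Idx K) * Psik h (fun _ => up (1 : K)) = Psik h (fun _ => up (1 : K)) * (t : GL chevE7.Idx K))
    (i : Fin 3) : rv t (r i) = 1 := by
  have h1 : (t : GL chevE7.Idx K) * Psik h (fun _ => up (1 : K)) * (t : GL chevE7.Idx K)⁻¹ =
      Psik h (fun i => up (rv t (r i))) := by
    rw [Psik_three, Psik_three]
    simp only [psi_up hE7 (show r 0 < chevE7.nroots from hr 0), psi_up hE7 (show r 1 < chevE7.nroots from hr 1),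
      psi_up hE7 (show r 2 < chevE7.nroots from hr 2)]
    have e0 := rv_act ht (hr 0) 1
    have e1 := rv_act ht (hr 1) 1
    have e2 := rv_act ht (hr 2) 1
    rw [mul_one] at e0 e1 e2
    rw [← e0, ← e1, ← e2]
    group
  rw [mul_inv_eq_iff_eq_mul.2 hc] at h1
  have h2 : Psik h (fun i => up (rv t (r i) + 1)) = 1 := by
    have e : (fun i => up (rv t (r i) + 1) : Fin 3 → SL(2, K)) =
        (fun i => up (rv t (r i))) * fun _ => up (1 : K) := by
      funext i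
      rw [up_add']
      rfl
    rw [e, map_mul, ← h1, ← map_mul]
    have e2 : ((fun _ => up (1 : K)) * fun _ => up (1 : K) : Fin 3 → SL(2, K)) = 1 := by
      funext i
      show up (1 : K) * up 1 = 1
      rw [← up_add', CharTwo.add_self_eq_zero]
      apply Subtype.ext
      ext i j
      (revert i j; simp only [up, _root_.Fin.forall_fin_succ, _root_.Matrix.of_apply, _root_.Matrix.cons_val', _root_.Matrix.cons_val_fin_one, _root_.Matrix.SpecialLinearGroup.coe_one, Fin.isValue, _root_.Matrix.cons_val_zero, _root_.Matrix.cons_val_succ, _root_.IsEmpty.forall_iff, _root_.and_true, _root_.Matrix.one_apply_eq, Nat.reduceAdd, _root_.Fin.succ_zero_eq_one, _root_.ne_eq, _root_.zero_ne_one, _root_.not_false_eq_true, _root_.Matrix.one_apply_ne, _root_.and_self, _root_.Fin.succ_ne_zero, _root_.true_and])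
    rw [e2, map_one]
  have h3 := Psik_up_eq_one h hr hd h2 i
  rwa [CharTwo.add_eq_zero] at h3

end Fin

end Cfsg.Agent.R2.E72T
end

-- part: R2/E72T/T9tabB
section
/-!
# `L₂(8) × ³D₄(2)` in `E₇(2)`: tables for the centralisers (S5934, box T9)
-/

set_option autoImplicit false
set_option linter.unusedSectionVars false

namespace Cfsg.Agent.R2.E72T

open Cfsg.Lie Cfsg.Agent.ChevalleyStructure Cfsg.Agent.ChevalleyStructure.Elts
open Cfsg.Agent.ChevalleyStructure.RootVec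
open Cfsg.Agent.Nodes.RGDChev
open Cfsg.Agent.H420.PG

/-- the outer simple roots of `D₄` -/
def rO : Fin 3 → ℕ := ![78, 66, 73]

/-- their negatives -/
def rO' : Fin 3 → ℕ := ![47, 59, 52]

theorem orthO : Orth rO = true := by (delta Cfsg.Agent.H420.PG.odd3 Cfsg.Agent.H420.PG.okB Cfsg.Agent.H420.PG.okP Cfsg.Agent.R2.E72T.Orth; rewrite [Cfsg.Agent.ChevFast.E7.commTerms, Cfsg.Agent.ChevFast.E7.neg]; decide +kernel)

theorem ltO : ∀ i, rO i < 126 := by decide +kernel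

theorem negO : ∀ i, chevE7.neg (rO i) = rO' i := by decide +kernel

theorem τ4_O : τ4 18 = 78 ∧ τ4 13 = 66 ∧ τ4 12 = 73 ∧ τ4 5 = 47 ∧ τ4 10 = 59 ∧ τ4 11 = 52 ∧ τ4 14 = 69 ∧ τ4 9 = 56 := by
  decide +kernel

/-- the exponents of the torus element -/
def e9 (s : ℕ) : ℤ := pr7 s 63 + 2 * pr7 s 92 + 4 * pr7 s 125

theorem e9_spec : ∀ s < 126, (7 : ℤ) ∣ e9 s → s ∈ l4 := by (delta Cfsg.Agent.ChevalleyStructure.CoxeterGeomTypes.cartanOf Cfsg.Agent.R2.E72T.e9 Cfsg.Agent.R2.E72T.pr7; rewrite [Cfsg.Agent.ChevFast.E7.cartan]; (delta Cfsg.Agent.H974.Exc.cf Cfsg.Agent.Nodes.RGDChev.vec Cfsg.Agent.ChevalleyStructure.RootVec.rt; set_option synthInstance.maxSize 100000 in exact Cfsg.Agent.Lib.Refl.of (by decide +kernel)))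

theorem mem_l4 : ∀ s ∈ l4, ∃ r < 24, τ4 r = s := by decide +kernel

theorem det_r3 : det3 r3 ![64, 35, 6] ![65, 65, 98] = true := by (delta Cfsg.Agent.H420.PG.odd3 Cfsg.Agent.H420.PG.okB Cfsg.Agent.R2.E72T.det3; rewrite [Cfsg.Agent.ChevFast.E7.commTerms, Cfsg.Agent.ChevFast.E7.neg]; decide +kernel)

theorem det_rO : det3 rO ![4, 7, 1] ![8, 8, 2] = true := by decide +kernel

/-- the roots commuting -/
def LC : List ℕ := [69, 56, 84, 41, 87, 38, 63, 62, 92, 33, 125, 0]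

theorem LC_lt : ∀ r ∈ LC, r < 126 := by decide +kernel

theorem LC_neg : ∀ r ∈ LC, chevE7.neg r ∈ LC := by decide +kernel

theorem LC_cent : ∀ b < 126, (∀ r ∈ LC, 0 ≤ pr7 b r) → b ∈ ([] : List ℕ) := by (delta Cfsg.Agent.ChevalleyStructure.CoxeterGeomTypes.cartanOf Cfsg.Agent.R2.E72T.pr7; rewrite [Cfsg.Agent.ChevFast.E7.cartan]; open scoped Cfsg.Agent.ChevFast.Lin in decide +kernel)

theorem refl69 : chevE7.reflectRoot 1 (chevE7.reflectRoot 4 (chevE7.reflectRoot 2 69)) = 84 ∧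
    chevE7.reflectRoot 1 (chevE7.reflectRoot 4 (chevE7.reflectRoot 2 56)) = 41 ∧
    chevE7.reflectRoot 3 84 = 87 ∧ chevE7.reflectRoot 3 41 = 38 ∧ chevE7.simple 1 = 78 ∧ chevE7.simple 4 = 66 ∧
    chevE7.simple 2 = 73 ∧ chevE7.simple 3 = 69 := by decide +kernel

/-- the roots where the values are 1 -/
def B9 : Fin 7 → ℕ := ![69, 78, 66, 73, 63, 92, 125]

/-- twice the simple roots -/
def A9 : Fin 7 → Fin 7 → ℤ := ![![-2, -1, -1, -2, 0, -1, 1], ![0, 2, 0, 0, 0, 0, 0], ![0, 0, 0, 2, 0, 0, 0],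
  ![2, 0, 0, 0, 0, 0, 0], ![0, 0, 2, 0, 0, 0, 0], ![-2, -1, -2, -1, -1, 1, 0], ![0, 0, 0, 0, 2, 0, 0]]

theorem A9_spec : ∀ i j : Fin 7, ∑ k : Fin 7, A9 i k * vec chevE7 7 (B9 k) j = if i = j then 2 else 0 := by
  decide +kernel

end Cfsg.Agent.R2.E72T
end

-- part: R2/E72T/T9b
section
/-!
# `L₂(8) × ³D₄(2)` in `E₇(2)`: the torus element of order 7 (S5934, box T9)
-/

set_option autoImplicit false
set_option linter.unusedSectionVars false

namespace Cfsg.Agent.R2.E72T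

open CoxeterSystem Cfsg.Agent.ChevalleyStructure.CoxeterGeom Cfsg.Agent.Tits.Roots Cfsg.Agent.Tits.Core
  Cfsg.Agent.Nodes.Reps Cfsg.Agent.Nodes.BNOf
open Cfsg.Lie Cfsg.Agent.ChevalleyStructure Cfsg.Agent.ChevalleyStructure.Elts
open Cfsg.Agent.ChevalleyStructure.StBasic Cfsg.Agent.ChevalleyStructure.StTorus
open Cfsg.Agent.ChevalleyStructure.SL2Hom (up lo mem_closure_SL2)
open Cfsg.Agent.Nodes.RGDFoldSL Cfsg.Agent.Nodes.RGDChev
open Cfsg.Agent.KFacts.RgdChevCoord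
open Cfsg.Agent.KFacts.RgdField (Coords Coord)
open Cfsg.Agent.H129.TorusChar (cX isMC_cX cX_vec cX_inj IsMC cX_pow)
open Cfsg.Agent.H420.PG
open Cfsg.Agent.BpExc.TorCent Cfsg.Agent.BpExc.TorChev
open scoped MatrixGroups

universe u v

section K

variable {K : Type u} [Field K] [Fintype K] [CharP K 2]

theorem pow7 (hK : Fintype.card K = 2 ^ 3) {a : K} (ha : a ≠ 0) : a ^ 7 = 1 := by
  have := FiniteField.pow_card_sub_one_eq_one a ha
  rw [hK] at this
  exact this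

theorem exists_ne7 (hK : Fintype.card K = 2 ^ 3) : ∃ a : K, a ≠ 0 ∧ a ≠ 1 := by
  by_contra h
  push Not at h
  classical
  have h1 : (Finset.univ : Finset K) ⊆ {0, 1} := by
    intro a _
    by_cases h0 : a = 0
    · simp only [h0, _root_.Finset.mem_insert, _root_.Finset.mem_singleton, _root_.zero_ne_one, _root_.or_false]
    · simp only [h a h0, _root_.Finset.mem_insert, _root_.one_ne_zero, _root_.Finset.mem_singleton, _root_.or_true]
  have h2 := (Finset.card_le_card h1).trans Finset.card_le_two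
  rw [Finset.card_univ, hK] at h2
  norm_num at h2

theorem zpow7 (hK : Fintype.card K = 2 ^ 3) {a : K} (ha : a ≠ 0) (h1 : a ≠ 1) {n : ℤ} (hn : a ^ n = 1) :
    (7 : ℤ) ∣ n := by
  have h2 : orderOf (Units.mk0 a ha) = 7 := by
    have : Fact (Nat.Prime 7) := ⟨by norm_num⟩
    refine orderOf_eq_prime ?_ fun h => h1 (congrArg Units.val h)
    apply Units.ext
    rw [Units.val_pow_eq_pow_val, Units.val_mk0, Units.val_one]
    exact pow7 hK ha
  have h3 : (Units.mk0 a ha) ^ n = 1 := by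
    apply Units.ext
    rw [Units.val_zpow_eq_zpow_val, Units.val_mk0, Units.val_one, hn]
  rw [← orderOf_dvd_iff_zpow_eq_one, h2] at h3
  exact_mod_cast h3

omit [Fintype K] in
theorem u9_eq (g : SL(2, K)) : u9 K g = psi hE7 K 63 g *
    (psi hE7 K 92 (Matrix.SpecialLinearGroup.map (frk (RingHom.id K) 1) g) *
      psi hE7 K 125 (Matrix.SpecialLinearGroup.map (frk (RingHom.id K) 2) g)) := by
  have h1 := Psik_three orth3 (dgk (RingHom.id K) 3 g)
  have h2 : dgk (RingHom.id K) 3 g 0 = g := by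
    rw [dgk_apply]
    apply Subtype.ext
    ext i j
    exact frk_zero (RingHom.id K) _
  rw [h2] at h1
  exact h1

omit [Fintype K] in
theorem u9_hS (a : K) : u9 K (hS a) = hG hE7 63 a * (hG hE7 92 (a ^ 2) * hG hE7 125 (a ^ 4)) := by
  rw [u9_eq, map_hS, map_hS, psi_hS hE7 (show 63 < chevE7.nroots by decide),
    psi_hS hE7 (show 92 < chevE7.nroots by decide), psi_hS hE7 (show 125 < chevE7.nroots by decide)]
  rfl

omit [Fintype K] in
theorem u9_mem_group (g : SL(2, K)) : u9 K g ∈ chevE7.group K := Psik_mem (r := r3) orth3 lt3 (dgk (RingHom.id K) 3 g)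

/-- the torus element -/
noncomputable def hh (a : K) : ↥(chevE7.group K) := ⟨u9 K (hS a), u9_mem_group _⟩

theorem hh_mem {a : K} (ha : a ≠ 0) : hh a ∈ TT chevE7 K := by
  rw [Subgroup.mem_subgroupOf]
  show u9 K (hS a) ∈ _
  rw [u9_hS]
  exact mul_mem (hG_mem_diagonal hE7 (by decide) ha) (mul_mem (hG_mem_diagonal hE7 (by decide) (pow_ne_zero _ ha))
    (hG_mem_diagonal hE7 (by decide) (pow_ne_zero _ ha)))

theorem hh_rv {a : K} (ha : a ≠ 0) {s : ℕ} (hs : s < 126) : rv (hh a) s = a ^ e9 s := by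
  have h1 := rv_act (hh_mem ha) hs 1
  have h2 := hG_conj7 (K := K) (r := 125) (by norm_num) (pow_ne_zero 4 ha) s hs 1
  have h3 := hG_conj7 (K := K) (r := 92) (by norm_num) (pow_ne_zero 2 ha) s hs ((a ^ 4) ^ pr7 s 125 * 1)
  have h4 := hG_conj7 (K := K) (r := 63) (by norm_num) ha s hs ((a ^ 2) ^ pr7 s 92 * ((a ^ 4) ^ pr7 s 125 * 1))
  rw [← h3, ← h2] at h4
  have h5 : ((hh a : ↥(chevE7.group K)) : GL chevE7.Idx K) = hG hE7 63 a * (hG hE7 92 (a ^ 2) * hG hE7 125 (a ^ 4)) :=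
    u9_hS a
  rw [h5] at h1
  have h6 : xG hE7 s (rv (hh a) s * 1) = xG hE7 s (a ^ pr7 s 63 * ((a ^ 2) ^ pr7 s 92 * ((a ^ 4) ^ pr7 s 125 * 1))) := by
    rw [← h1, ← h4]
    group
  have h7 := xG_injective hE7 (show s < chevE7.nroots from hs) h6
  rw [mul_one, mul_one] at h7
  rw [h7, e9, zpow_add₀ ha, zpow_add₀ ha, zpow_mul, zpow_mul, mul_assoc]
  norm_cast

/-- `D₄(8)` -/
noncomputable def D9 (K : Type u) [Field K] [CharP K 2] : Subgroup ↥(chevE7.group K) :=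
  (Θd K).range.subgroupOf (chevE7.group K)

theorem Θd_range_le : (Θd K).range ≤ chevE7.group K := by
  rintro _ ⟨x, rfl⟩
  exact subHom_mem sub4 hE7 _ x

theorem xG_mem_D9 {r : ℕ} (hr : r ∈ l4) (t : K) : xG hE7 r t ∈ (Θd K).range := by
  obtain ⟨s, hs, rfl⟩ := mem_l4 r hr
  exact ⟨chevD4.stGen K s t, Θd_gen hs t⟩

theorem TT_le_normalizer : TT chevE7 K ≤ Subgroup.normalizer (D9 K : Set ↥(chevE7.group K)) := by
  intro t ht
  have key : ∀ t ∈ TT chevE7 K, ∀ x ∈ D9 K, t * x * t⁻¹ ∈ D9 K := by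
    intro t ht x hx
    rw [D9, Subgroup.mem_subgroupOf] at hx ⊢
    obtain ⟨y, hy⟩ := hx
    have h1 : (⊤ : Subgroup (chevD4.SteinbergGroup K)) ≤
        (((Θd K).range).comap (MulAut.conj (t : GL chevE7.Idx K)).toMonoidHom).comap (Θd K) := by
      rw [← closure_stGen, Subgroup.closure_le]
      rintro _ ⟨r, u, hr, rfl⟩
      rw [SetLike.mem_coe, Subgroup.mem_comap, Subgroup.mem_comap, Θd_gen hr]
      show (t : GL chevE7.Idx K) * xG hE7 (τ4 r) u * (t : GL chevE7.Idx K)⁻¹ ∈ _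
      rw [rv_act ht (τ4_lt hr), ← Θd_gen hr]
      exact ⟨_, rfl⟩
    have h2 := h1 (Subgroup.mem_top y)
    rw [Subgroup.mem_comap, Subgroup.mem_comap, hy] at h2
    exact h2
  rw [Subgroup.mem_normalizer_iff]
  intro x
  refine ⟨fun hx => key t ht x hx, fun hx => ?_⟩
  have h1 := key t⁻¹ (inv_mem ht) _ hx
  have h2 : t⁻¹ * (t * x * t⁻¹) * t⁻¹⁻¹ = x := by group
  rwa [h2] at h1

theorem card_D9 (hK : Fintype.card K = 2 ^ 3) :
    Nat.card (D9 K) = 8 ^ 12 * (8 ^ 2 - 1) * (8 ^ 4 - 1) * (8 ^ 4 - 1) * (8 ^ 6 - 1) := by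
  have h1 : Nat.card (D9 K) = Nat.card (chevD4.SteinbergGroup K) := by
    have e1 : Nat.card (D9 K) = Nat.card (Θd K).range :=
      Nat.card_congr (Subgroup.subgroupOfEquivOfLe Θd_range_le).toEquiv
    rw [e1]
    exact (Nat.card_congr (MonoidHom.ofInjective (Θ4_injective (RingHom.id K))).toEquiv).symm
  have hb : Function.Bijective (StTheta.theta hD4 K) := by
    refine ⟨?_, StTheta.theta_surjective hD4⟩
    intro a b hab
    apply thetaD4_injective K
    exact congrArg Subtype.val hab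
  rw [h1, Nat.card_congr (MulEquiv.ofBijective _ hb).toEquiv]
  have h2 := Cfsg.Agent.S1061.result (F := K) (q := 8) (by rw [hK]; norm_num)
  norm_num only [_root_.one_mul] at h2 ⊢
  exact h2

theorem card_TT (hK : Fintype.card K = 2 ^ 3) : Nat.card (TT chevE7 K) = 7 ^ 7 := by
  have h1 := Cfsg.Agent.S1035.result (F := K) (q := 8) (by rw [hK]; norm_num) (chevE7, Nat.gcd 2 (8 - 1)) (by simp)
  have h2 : (chevE7.rank : ℕ) = 7 := rfl
  have h3 : Nat.card (TT chevE7 K) = Nat.card (chevE7.diagonalSubgroup K) :=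
    Nat.card_congr (Subgroup.subgroupOfEquivOfLe (diagonal_le_group hE7 K)).toEquiv
  rw [h3]
  have h4 : Nat.gcd 2 (8 - 1) * Nat.card (chevE7.diagonalSubgroup K) = (8 - 1) ^ 7 := h1
  norm_num only [_root_.one_mul] at h4 ⊢
  exact h4

/-- **The centraliser of the torus element of order 7.** -/
theorem pow_mem9 (hK : Fintype.card K = 2 ^ 3) {a : K} (ha : a ≠ 0) (h1 : a ≠ 1) {g : ↥(chevE7.group K)}
    (hg : g ∈ Subgroup.centralizer {hh a}) : ∃ m : ℕ, g ^ 7 ^ m ∈ D9 K ⊔ TT chevE7 K := by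
  obtain ⟨m, hm⟩ := exists_pow_mem (RK (K := K)) CK (hh_mem ha) (TT_comm hp7) (chAdd hp7 cE 2) (l := 7)
    (by norm_num) (fun b hb => pow7 hK ((CK.coord b hb).chi_ne_zero (hh_mem ha)))
    (g := g) (by rw [GG_top hp7 cE]; exact Subgroup.mem_top g) hg
  refine ⟨m, (sup_le_sup_right (RGD.Sup_le ?_) _) hm⟩
  rintro b ⟨hb, hb1⟩
  obtain ⟨r, hr, rfl⟩ := (isRoot_iff hp7 cE b).1 hb
  have h2 : rv (hh a) r = 1 := by
    rw [rv, cX_vec hp7 (hh_mem ha) (show r < chevE7.nroots from hr)]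
    exact hb1
  rw [hh_rv ha hr] at h2
  have h3 := e9_spec r hr (zpow7 hK ha h1 h2)
  intro u hu
  rw [Subgroup.mem_subgroupOf, XV_vec hp7 K hr, mem_rootSubgroup_iff hE7] at hu
  obtain ⟨t, ht⟩ := hu
  rw [D9, Subgroup.mem_subgroupOf, ht]
  exact xG_mem_D9 h3 t

end K

end Cfsg.Agent.R2.E72T
end

-- part: R2/E72T/T9c
section
/-!
# `L₂(8) × ³D₄(2)` in `E₇(2)`: the centralisers (S5934, box T9)
-/

set_option autoImplicit false
set_option linter.unusedSectionVars false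

namespace Cfsg.Agent.R2.E72T

open CoxeterSystem Cfsg.Agent.ChevalleyStructure.CoxeterGeom Cfsg.Agent.Tits.Roots Cfsg.Agent.Tits.Core
  Cfsg.Agent.Nodes.Reps Cfsg.Agent.Nodes.BNOf
open Cfsg.Lie Cfsg.Agent.ChevalleyStructure Cfsg.Agent.ChevalleyStructure.Elts
open Cfsg.Agent.ChevalleyStructure.StBasic Cfsg.Agent.ChevalleyStructure.StTorus
open Cfsg.Agent.ChevalleyStructure.SL2Hom (up lo mem_closure_SL2)
open Cfsg.Agent.Nodes.RGDFoldSL Cfsg.Agent.Nodes.RGDChev
open Cfsg.Agent.KFacts.RgdChevCoord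
open Cfsg.Agent.KFacts.RgdField (Coords Coord)
open Cfsg.Agent.H129.TorusChar (cX isMC_cX cX_vec cX_inj IsMC cX_pow cX_one)
open Cfsg.Agent.H420.PG
open Cfsg.Agent.R2.H27
open scoped MatrixGroups

universe u v

section K

variable {K : Type u} [Field K] [CharP K 2]

theorem mem_X9_of {w : List (ℕ × K)} (hw : w ∈ d4Words K 2) : Θd K (wd chevD4 w) ∈ X9 K :=
  ⟨wd chevD4 w, Subgroup.subset_closure ⟨w, hw, rfl⟩, rfl⟩

theorem x_mem_X9 {r : ℕ} (hr : r = 14 ∨ r = 9) : xG hE7 (τ4 r) (1 : K) ∈ X9 K := by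
  have h1 : [(r, (1 : K))] ∈ d4Words K 2 := Or.inl ⟨1, one_pow _, r, by simpa [d4p2, d4m2] using hr, rfl⟩
  have h2 := mem_X9_of h1
  rwa [wd_singleton, Θd_gen (by rcases hr with rfl | rfl <;> norm_num)] at h2

theorem out_mem_X9 {a b c : ℕ} (h : (a, b, c) = (18, 13, 12) ∨ (a, b, c) = (5, 10, 11)) :
    xG hE7 (τ4 a) (1 : K) * (xG hE7 (τ4 b) 1 * xG hE7 (τ4 c) 1) ∈ X9 K := by
  have h1 : [((a, b, c).1, (1 : K)), ((a, b, c).2.1, (1 : K) ^ 2), ((a, b, c).2.2, (1 : K) ^ 2 ^ 2)] ∈ d4Words K 2 :=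
    Or.inr ⟨1, (a, b, c), by simpa [d4p1, d4p3, d4p4, d4m1, d4m3, d4m4] using h, rfl⟩
  have hlt : a < 24 ∧ b < 24 ∧ c < 24 := by
    rcases h with h1 | h1 <;> (simp only [Prod.mk.injEq] at h1; obtain ⟨rfl, rfl, rfl⟩ := h1; norm_num)
  have h2 := mem_X9_of h1
  rw [wd_cons, wd_cons, wd_singleton, map_mul, map_mul, Θd_gen hlt.1, Θd_gen hlt.2.1, Θd_gen hlt.2.2] at h2
  simpa using h2

theorem outer_up : Psik orthO (fun _ => up (1 : K)) ∈ X9 K := by
  rw [Psik_three, psi_up hE7 (show rO 0 < chevE7.nroots from ltO 0), psi_up hE7 (show rO 1 < chevE7.nroots from ltO 1),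
    psi_up hE7 (show rO 2 < chevE7.nroots from ltO 2)]
  have h1 := out_mem_X9 (K := K) (a := 18) (b := 13) (c := 12) (Or.inl rfl)
  obtain ⟨e1, e2, e3, -⟩ := τ4_O
  rw [e1, e2, e3] at h1
  exact h1

theorem outer_lo : Psik orthO (fun _ => lo (1 : K)) ∈ X9 K := by
  rw [Psik_three, psi_lo hE7 (show rO 0 < chevE7.nroots from ltO 0), psi_lo hE7 (show rO 1 < chevE7.nroots from ltO 1),
    psi_lo hE7 (show rO 2 < chevE7.nroots from ltO 2), negO, negO, negO]
  have h1 := out_mem_X9 (K := K) (a := 5) (b := 10) (c := 11) (Or.inr rfl)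
  obtain ⟨-, -, -, e1, e2, e3, -⟩ := τ4_O
  rw [e1, e2, e3] at h1
  exact h1

theorem wS_one : (wS (1 : K) : SL(2, K)) = up 1 * (lo 1 * up 1) := by
  rw [wS, inv_one, CharTwo.neg_eq]

theorem outer_w : Psik orthO (fun _ => wS (1 : K)) ∈ X9 K := by
  have e : (fun _ => wS (1 : K) : Fin 3 → SL(2, K)) = (fun _ => up 1) * ((fun _ => lo 1) * fun _ => up 1) := by
    funext i
    exact wS_one
  rw [e, map_mul, map_mul]
  exact mul_mem outer_up (mul_mem outer_lo outer_up)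

theorem outer_w_eq : Psik orthO (fun _ => wS (1 : K)) =
    nG hE7 (chevE7.simple 1) 1 * (nG hE7 (chevE7.simple 4) 1 * nG hE7 (chevE7.simple 2) 1) := by
  rw [Psik_three, psi_wS hE7 (show rO 0 < chevE7.nroots from ltO 0), psi_wS hE7 (show rO 1 < chevE7.nroots from ltO 1),
    psi_wS hE7 (show rO 2 < chevE7.nroots from ltO 2)]
  obtain ⟨-, -, -, -, e1, e4, e2, -⟩ := refl69
  rw [e1, e4, e2]
  rfl

theorem outer_w_conj {s : ℕ} (hs : s < 126) (t : K) :
    Psik orthO (fun _ => wS (1 : K)) * xG hE7 s t * (Psik orthO (fun _ => wS (1 : K)))⁻¹ =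
      xG hE7 (chevE7.reflectRoot 1 (chevE7.reflectRoot 4 (chevE7.reflectRoot 2 s))) t := by
  have l2 := refl_lt7 2 (by norm_num) s hs
  have l4 := refl_lt7 4 (by norm_num) _ l2
  have h1 := nG_conj_two (F := K) hE7 (i := 2) (by decide) (show s < chevE7.nroots from hs) t
  have h2 := nG_conj_two (F := K) hE7 (i := 4) (by decide) (show _ < chevE7.nroots from l2) t
  have h3 := nG_conj_two (F := K) hE7 (i := 1) (by decide) (show _ < chevE7.nroots from l4) t
  rw [outer_w_eq, ← h3, ← h2, ← h1]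
  group

theorem w4_mem : nG hE7 (chevE7.simple 3) (1 : K) ∈ X9 K := by
  obtain ⟨-, -, -, -, -, -, e1, e2⟩ := τ4_O
  have hs : chevE7.simple 3 = 69 := refl69.2.2.2.2.2.2.2
  have hn : chevE7.neg 69 = 56 := by decide +kernel
  rw [hs, ← psi_wS hE7 (show 69 < chevE7.nroots by decide), wS_one, map_mul, map_mul,
    psi_up hE7 (show 69 < chevE7.nroots by decide), psi_lo hE7 (show 69 < chevE7.nroots by decide), hn, ← e1, ← e2]
  exact mul_mem (x_mem_X9 (Or.inl rfl)) (mul_mem (x_mem_X9 (Or.inr rfl)) (x_mem_X9 (Or.inl rfl)))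

/-- the long root elements of `³D₄(2)` -/
theorem long_mem {r : ℕ} (hr : r ∈ [69, 56, 84, 41, 87, 38]) : xG hE7 r (1 : K) ∈ X9 K := by
  obtain ⟨-, -, -, -, -, -, e1, e2⟩ := τ4_O
  have h69 : xG hE7 69 (1 : K) ∈ X9 K := by rw [← e1]; exact x_mem_X9 (Or.inl rfl)
  have h56 : xG hE7 56 (1 : K) ∈ X9 K := by rw [← e2]; exact x_mem_X9 (Or.inr rfl)
  obtain ⟨f1, f2, f3, f4, -⟩ := refl69
  have h84 : xG hE7 84 (1 : K) ∈ X9 K := by
    rw [← f1, ← outer_w_conj (by norm_num)]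
    exact mul_mem (mul_mem outer_w h69) (inv_mem outer_w)
  have h41 : xG hE7 41 (1 : K) ∈ X9 K := by
    rw [← f2, ← outer_w_conj (by norm_num)]
    exact mul_mem (mul_mem outer_w h56) (inv_mem outer_w)
  have h87 : xG hE7 87 (1 : K) ∈ X9 K := by
    rw [← f3, ← nG_conj_two hE7 (i := 3) (by decide) (show 84 < chevE7.nroots by decide)]
    exact mul_mem (mul_mem w4_mem h84) (inv_mem w4_mem)
  have h38 : xG hE7 38 (1 : K) ∈ X9 K := by
    rw [← f4, ← nG_conj_two hE7 (i := 3) (by decide) (show 41 < chevE7.nroots by decide)]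
    exact mul_mem (mul_mem w4_mem h41) (inv_mem w4_mem)
  simp only [List.mem_cons, List.not_mem_nil, or_false] at hr
  rcases hr with rfl | rfl | rfl | rfl | rfl | rfl <;> assumption

end K

section Fin

variable {K : Type u} [Field K] [Fintype K] [CharP K 2]

theorem rv_neg_root {t : ↥(chevE7.group K)} (ht : t ∈ TT chevE7 K) {r : ℕ} (hr : r < 126) (h : rv t r = 1) :
    rv t (chevE7.neg r) = 1 := by
  rw [rv, vec_neg hp7 (show r < chevE7.nroots from hr), (isMC_cX hp7 ht).neg]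
  rw [rv] at h
  rw [h, inv_one]

theorem comm_of_rv {t : ↥(chevE7.group K)} (ht : t ∈ TT chevE7 K) {r : ℕ} (hr : r < 126) (h : rv t r = 1) :
    (t : GL chevE7.Idx K) * xG hE7 r (1 : K) = xG hE7 r (1 : K) * (t : GL chevE7.Idx K) := by
  have h1 := rv_act ht hr 1
  rw [h, mul_one, mul_inv_eq_iff_eq_mul] at h1
  exact h1

theorem Rt_nil : Rt K [] = ⊥ := by
  rw [Rt, Subgroup.closure_eq_bot_iff]
  rintro g ⟨r, hr, -⟩
  exact absurd hr List.not_mem_nil

/-- **An element of `D₄(8) T` centralising `³D₄(2)` and `L₂(8)` is trivial.** -/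
theorem eq_one9 {g : ↥(chevE7.group K)} (hg : g ∈ D9 K ⊔ TT chevE7 K)
    (hX : ∀ x ∈ X9 K, (g : GL chevE7.Idx K) * x = x * g)
    (hY : ∀ y : SL(2, K), (g : GL chevE7.Idx K) * u9 K y = u9 K y * g) : g = 1 := by
  have hg' : g ∈ ((D9 K ⊔ TT chevE7 K : Subgroup ↥(chevE7.group K)) : Set ↥(chevE7.group K)) := hg
  rw [Subgroup.coe_mul_of_right_le_normalizer_left _ _ TT_le_normalizer, Set.mem_mul] at hg'
  obtain ⟨d, hd, t, ht, rfl⟩ := hg'
  have ht : t ∈ TT chevE7 K := ht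
  have hdc : ∀ (i : Fin 3) (y : SL(2, K)), (d : GL chevE7.Idx K) * psi hE7 K (r3 i) y = psi hE7 K (r3 i) y * d := by
    intro i y
    obtain ⟨z, hz⟩ := (Subgroup.mem_subgroupOf.1 hd : (d : GL chevE7.Idx K) ∈ (Θd K).range)
    rw [← hz]
    exact (Θd_comm_psi z i y).eq
  -- `t` commutes with the product of the root elements
  have htc : (t : GL chevE7.Idx K) * Psik orth3 (fun _ => up (1 : K)) = Psik orth3 (fun _ => up (1 : K)) * t := by
    have h1 : Psik orth3 (fun _ => up (1 : K)) = u9 K (up 1) := by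
      show _ = Psik orth3 (dgk (RingHom.id K) 3 (up 1))
      congr 1
      funext i
      rw [dgk_apply, map_up, map_one]
    have h2 : Commute (d : GL chevE7.Idx K) (Psik orth3 (fun _ => up (1 : K))) := by
      have h3 : Psik orth3 (fun _ => up (1 : K)) ∈ Subgroup.centralizer {(d : GL chevE7.Idx K)} := by
        refine Psik_mem_of orth3 _ fun i => ?_
        rw [Subgroup.mem_centralizer_singleton_iff]
        exact (hdc i _).symm
      exact (Subgroup.mem_centralizer_singleton_iff.1 h3).symm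
    have h4 := hY (up 1)
    rw [← h1, Subgroup.coe_mul] at h4
    have h5 : (t : GL chevE7.Idx K) = (d : GL chevE7.Idx K)⁻¹ * (d * t) := by group
    rw [h5]
    exact (h2.inv_left.mul_left h4).eq
  have hrv : ∀ i, rv t (r3 i) = 1 := rv_three orth3 lt3 det_r3 ht htc
  -- `g` commutes with the root elements of `LC`
  have hcomm : ∀ r ∈ LC, ((d * t : ↥(chevE7.group K)) : GL chevE7.Idx K) * xG hE7 r (1 : K) =
      xG hE7 r (1 : K) * ((d * t : ↥(chevE7.group K)) : GL chevE7.Idx K) := by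
    have hpos : ∀ i : Fin 3, ((d * t : ↥(chevE7.group K)) : GL chevE7.Idx K) * xG hE7 (r3 i) (1 : K) =
        xG hE7 (r3 i) (1 : K) * ((d * t : ↥(chevE7.group K)) : GL chevE7.Idx K) := by
      intro i
      have h1 := hdc i (up 1)
      rw [psi_up hE7 (show r3 i < chevE7.nroots from lt3 i)] at h1
      have h2 := comm_of_rv ht (lt3 i) (hrv i)
      rw [Subgroup.coe_mul]
      exact ((show Commute _ _ from h1).mul_left h2).eq
    have hneg : ∀ i : Fin 3, ((d * t : ↥(chevE7.group K)) : GL chevE7.Idx K) * xG hE7 (chevE7.neg (r3 i)) (1 : K) =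
        xG hE7 (chevE7.neg (r3 i)) (1 : K) * ((d * t : ↥(chevE7.group K)) : GL chevE7.Idx K) := by
      intro i
      have h1 := hdc i (lo 1)
      rw [psi_lo hE7 (show r3 i < chevE7.nroots from lt3 i)] at h1
      have h2 := comm_of_rv ht (neg_lt7 (lt3 i)) (rv_neg_root ht (lt3 i) (hrv i))
      rw [Subgroup.coe_mul]
      exact ((show Commute _ _ from h1).mul_left h2).eq
    intro r hr
    have h0 : r ∈ [69, 56, 84, 41, 87, 38] ∨ (∃ i, r3 i = r) ∨ ∃ i, chevE7.neg (r3 i) = r := by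
      revert r
      decide +kernel
    rcases h0 with h0 | ⟨i, rfl⟩ | ⟨i, rfl⟩
    · exact hX _ (long_mem h0)
    · exact hpos i
    · exact hneg i
  obtain ⟨t', ht', h1, q, hq, hgt⟩ := cent_one LC_lt LC_neg LC_cent hcomm
  rw [Rt_nil, Subgroup.mem_bot] at hq
  rw [hq, mul_one] at hgt
  rw [hgt] at hX ⊢
  have h2 := rv_three orthO ltO det_rO ht' (hX _ outer_up)
  have h3 : ∀ k : Fin 7, rv t' (B9 k) = 1 := by
    intro k
    fin_cases k
    · exact h1 69 (by decide)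
    · exact h2 0
    · exact h2 1
    · exact h2 2
    · exact h1 63 (by decide)
    · exact h1 92 (by decide)
    · exact h1 125 (by decide)
  have hM := isMC_cX hp7 ht'
  refine cX_inj hp7 ht' (one_mem _) fun i => ?_
  rw [cX_one]
  have h4 : (2 : ℤ) • (sr i : Fin 7 → ℤ) = ∑ k : Fin 7, A9 i k • vec chevE7 7 (B9 k) := by
    funext j
    rw [Finset.sum_apply]
    have h5 := A9_spec i j
    simp only [Pi.smul_apply, smul_eq_mul]
    rw [h5]
    by_cases hij : i = j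
    · subst hij; rw [sr_self]; simp
    · rw [sr_ne (Ne.symm hij)]; simp [hij]
  have h5 := hM.zsmul 2 (sr i)
  rw [h4, hM.sum_smul] at h5
  have h8 : ∀ k ∈ (Finset.univ : Finset (Fin 7)), cX hp7 t' (vec chevE7 7 (B9 k)) ^ A9 i k = 1 := by
    intro k _
    have h9 : cX hp7 t' (vec chevE7 7 (B9 k)) = 1 := h3 k
    rw [h9, one_zpow]
  rw [Finset.prod_congr rfl h8, Finset.prod_const_one] at h5
  have h6 : (cX hp7 t' (sr i) - 1) ^ 2 = 0 := by
    have h7 : cX hp7 t' (sr i) ^ 2 = 1 := by exact_mod_cast h5.symm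
    rw [sub_sq, h7, one_pow, mul_one, CharTwo.two_eq_zero, zero_mul, sub_zero, CharTwo.add_self_eq_zero]
  exact sub_eq_zero.1 (pow_eq_zero_iff two_ne_zero |>.1 h6)

end Fin

end Cfsg.Agent.R2.E72T
end

-- part: R2/E72T/BoxT9
section
/-!
# Box T9 of S5934: `L₂(8) × ³D₄(2)` in `E₇(2)`
-/

set_option autoImplicit false
set_option linter.unusedSectionVars false

namespace Cfsg.Agent.R2.E72T

open Cfsg.Lie Cfsg.Agent.ChevalleyStructure Cfsg.Agent.ChevalleyStructure.Elts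
open Cfsg.Agent.ChevalleyStructure.SL2Hom (up lo mem_closure_SL2)
open Cfsg.Agent.Nodes.RGDFoldSL
open Cfsg.Agent.KFacts.RgdChevCoord
open Cfsg.Agent.R2.H27
open Subgroup
open scoped MatrixGroups

universe u

/-- a finite subgroup without elements of prime order is trivial -/
theorem eq_bot_of_prime {G : Type*} [Group G] [Finite G] {H : Subgroup G}
    (h : ∀ p : ℕ, p.Prime → ∀ g ∈ H, orderOf g = p → False) : H = ⊥ := by
  by_contra hne
  have h1 : Nat.card H ≠ 1 := fun h1 => hne (Subgroup.card_eq_one.1 h1)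
  obtain ⟨p, hp, hpd⟩ := Nat.exists_prime_and_dvd h1
  have : Fact p.Prime := ⟨hp⟩
  obtain ⟨g, hg⟩ := exists_prime_orderOf_dvd_card' p hpd
  exact h p hp g g.2 (by rw [Subgroup.orderOf_coe, hg])

/-- an element of prime order `p ≠ q` with a `q`-power power in `H` lies in `H` -/
theorem mem_of_pow_mem {G : Type*} [Group G] {H : Subgroup G} {g : G} {p q m : ℕ} (hp : p.Prime) (hq : q.Prime)
    (hpq : p ≠ q) (hg : orderOf g = p) (h : g ^ q ^ m ∈ H) : g ∈ H := by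
  have h1 : (orderOf g).Coprime (q ^ m) := by
    rw [hg]
    exact Nat.Coprime.pow_right _ ((Nat.coprime_primes hp hq).2 hpq)
  obtain ⟨n, hn⟩ := exists_pow_eq_self_of_coprime h1.symm
  rw [← hn]
  exact pow_mem h n

theorem center_eq_bot_of_card {G : Type*} [Group G] [Finite G] (h : IsSimpleGroup G) (hc : ¬ (Nat.card G).Prime) :
    center G = ⊥ := by
  rcases h.eq_bot_or_eq_top_of_normal (center G) inferInstance with h1 | h1
  · exact h1
  · exfalso
    let _ : CommGroup G := Group.commGroupOfCenterEqTop h1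
    exact hc IsSimpleGroup.prime_card

theorem card_Pk {K : Type} [Field K] [Fintype K] [CharP K 2] {m : ℕ} (hm : 0 < m) (hK : Fintype.card K = 2 ^ m)
    {w : List ℕ} (hw : ∀ i ∈ w, i < chevE7.rank)
    (hwm : ∀ s < 126, (fun s => w.foldr chevE7.reflectRoot s)^[m] s = s) : Nat.card ↥(Pk K w) = N7 := by
  obtain ⟨e⟩ := isoPk hm hK hw hwm
  rw [Nat.card_congr e.toEquiv]
  have h1 := Cfsg.Agent.S1064.result (F := ZMod 2) (q := 2) (by simp [ZMod.card])
  have h2 : Nat.gcd 2 (2 - 1) = 1 := by decide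
  rw [h2, one_mul] at h1
  rw [h1]
  unfold N7
  norm_num

/-- box T9 for an arbitrary group -/
def P9 (G : Type u) [Group G] : Prop := ∃ X Y : Subgroup G, IsSimpleGroup ↥X ∧ Nat.card ↥X = oTD4 ∧ IsSimpleGroup ↥Y ∧
  Nat.card ↥Y = oL2e ∧ Y ≤ centralizer (X : Set G) ∧ centralizer (X : Set G) ⊓ centralizer (Y : Set G) = ⊥ ∧
  ¬ 17 ∣ Nat.card (centralizer (Y : Set G) : Subgroup G)

theorem P9_of_equiv {G : Type u} {H : Type*} [Group G] [Group H] (e : G ≃* H) (h : P9 G) : P9 H := by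
  obtain ⟨X, Y, h1, h2, h3, h4, h5, h6, h7⟩ := h
  refine ⟨X.map e.toMonoidHom, Y.map e.toMonoidHom, simple_map_equiv e X h1, by rw [card_map_equiv, h2],
    simple_map_equiv e Y h3, by rw [card_map_equiv, h4], ?_, ?_, ?_⟩
  · rw [centralizer_map_equiv]
    exact map_mono h5
  · rw [centralizer_map_equiv, centralizer_map_equiv, ← map_inf _ _ _ e.injective, h6, Subgroup.map_bot]
  · rw [centralizer_map_equiv, card_map_equiv]
    exact h7

section K

variable {K : Type} [Field K] [Fintype K] [CharP K 2]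

theorem p9_of_card (hK : Fintype.card K = 2 ^ 3) : P9 ↥(Pk K w3) := by
  have hXP := X9_le hK
  have hYP : (u9 K).range ≤ Pk K w3 := by
    rintro _ ⟨g, rfl⟩
    exact u9_mem hK g
  have hXs : IsSimpleGroup ↥(X9 K) := (MulEquiv.isSimpleGroup_congr (X9Equiv K)).2
    (Cfsg.Agent.S1071.result (K := K) (q := 2) Nat.prime_two.isPrimePow hK).1
  have hs : IsSimpleGroup SL(2, K) := H320.Kill.simple_sl (CharTwo.two_eq_zero)
    (by rw [Nat.card_eq_fintype_card, hK]; norm_num)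
  have hYs : IsSimpleGroup ↥(u9 K).range := simple_range (u9_injective hK)
  have hcX : Nat.card ↥(X9 K) = oTD4 := by
    rw [Nat.card_congr (X9Equiv K).toEquiv, Cfsg.Agent.S1067.result Nat.prime_two.isPrimePow hK]
    norm_num [oTD4]
  have hcY : Nat.card ↥(u9 K).range = oL2e := by
    rw [card_range (u9_injective hK), ClassicalGeometry.PSL2Basic.card_SL2, hK]
    norm_num [oL2e]
  have hXY : ∀ x ∈ X9 K, ∀ y, x * u9 K y = u9 K y * x := by
    rintro _ ⟨x, -, rfl⟩ y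
    exact (Θd_comm_u9 x y).eq
  obtain ⟨a, ha0, ha1⟩ := exists_ne7 hK
  have hcent : ∀ g : ↥(Pk K w3), g ∈ centralizer (((u9 K).range.subgroupOf (Pk K w3) : Subgroup _) : Set ↥(Pk K w3)) →
      ∀ p : ℕ, p.Prime → p ≠ 7 → orderOf g = p →
        (⟨g.1, (mem_Pk.1 g.2).1⟩ : ↥(chevE7.group K)) ∈ D9 K ⊔ TT chevE7 K := by
    intro g hg p hp hp7 hgp
    rw [mem_centralizer_subgroupOf hYP, mem_centralizer_iff] at hg
    have h1 : (⟨g.1, (mem_Pk.1 g.2).1⟩ : ↥(chevE7.group K)) ∈ centralizer {hh a} := by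
      rw [mem_centralizer_singleton_iff]
      exact Subtype.ext (hg _ ⟨hS a, rfl⟩).symm
    obtain ⟨m, hm⟩ := pow_mem9 hK ha0 ha1 h1
    refine mem_of_pow_mem hp (by norm_num) hp7 ?_ hm
    rw [← Subgroup.orderOf_coe]
    show orderOf (g.1 : GL chevE7.Idx K) = p
    rw [Subgroup.orderOf_coe, hgp]
  refine ⟨(X9 K).subgroupOf (Pk K w3), (u9 K).range.subgroupOf (Pk K w3), ?_, ?_, ?_, ?_, ?_, ?_, ?_⟩
  · exact (MulEquiv.isSimpleGroup_congr (subgroupOfEquivOfLe hXP)).2 hXs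
  · rw [Nat.card_congr (subgroupOfEquivOfLe hXP).toEquiv, hcX]
  · exact (MulEquiv.isSimpleGroup_congr (subgroupOfEquivOfLe hYP)).2 hYs
  · rw [Nat.card_congr (subgroupOfEquivOfLe hYP).toEquiv, hcY]
  · intro y hy
    rw [mem_centralizer_subgroupOf hXP, mem_centralizer_iff]
    obtain ⟨z, hz⟩ := (mem_subgroupOf.1 hy : (y : GL chevE7.Idx K) ∈ (u9 K).range)
    intro x hx
    rw [← hz]
    exact hXY x hx z
  · refine eq_bot_of_prime fun p hp g hg hgp => ?_
    by_cases hp7 : p = 7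
    · subst hp7
      have hcX' : Nat.card ↥((X9 K).subgroupOf (Pk K w3)) = oTD4 := by
        rw [Nat.card_congr (subgroupOfEquivOfLe hXP).toEquiv, hcX]
      have hcY' : Nat.card ↥((u9 K).range.subgroupOf (Pk K w3)) = oL2e := by
        rw [Nat.card_congr (subgroupOfEquivOfLe hYP).toEquiv, hcY]
      have h1 := card_mul_dvd_of_centralizer (G := ↥(Pk K w3)) (X := (X9 K).subgroupOf (Pk K w3))
        (Y := (u9 K).range.subgroupOf (Pk K w3))
        (center_eq_bot_of_card ((MulEquiv.isSimpleGroup_congr (subgroupOfEquivOfLe hXP)).2 hXs)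
          (by rw [hcX']; norm_num [oTD4]))
        (center_eq_bot_of_card ((MulEquiv.isSimpleGroup_congr (subgroupOfEquivOfLe hYP)).2 hYs)
          (by rw [hcY']; norm_num [oL2e])) (fun y hy => by
            rw [mem_centralizer_subgroupOf hXP, mem_centralizer_iff]
            obtain ⟨z, hz⟩ := (mem_subgroupOf.1 hy : (y : GL chevE7.Idx K) ∈ (u9 K).range)
            intro x hx
            rw [← hz]
            exact hXY x hx z) (mem_inf.1 hg).1 (mem_inf.1 hg).2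
      rw [hcX', hcY', hgp, card_Pk (by norm_num) hK w3_lt w3_pow] at h1
      norm_num [oTD4, oL2e, N7] at h1
    · have h1 := hcent g (mem_inf.1 hg).2 p hp hp7 hgp
      have h2 := eq_one9 h1 (fun x hx => ?_) (fun y => ?_)
      · have h3 : g = 1 := Subtype.ext (congrArg (fun z : ↥(chevE7.group K) => (z : GL chevE7.Idx K)) h2)
        rw [h3, orderOf_one] at hgp
        exact hp.one_lt.ne hgp
      · have h3 := (mem_inf.1 hg).1
        rw [mem_centralizer_subgroupOf hXP, mem_centralizer_iff] at h3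
        exact (h3 x hx).symm
      · have h3 := (mem_inf.1 hg).2
        rw [mem_centralizer_subgroupOf hYP, mem_centralizer_iff] at h3
        exact (h3 _ ⟨y, rfl⟩).symm
  · intro h
    have : Fact (Nat.Prime 17) := ⟨by norm_num⟩
    obtain ⟨g, hg⟩ := exists_prime_orderOf_dvd_card' 17 h
    have h1 := hcent g.1 g.2 17 (by norm_num) (by norm_num) (by rw [Subgroup.orderOf_coe, hg])
    have h2 : (17 : ℕ) ∣ Nat.card (D9 K ⊔ TT chevE7 K : Subgroup ↥(chevE7.group K)) := by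
      have h3 := _root_.orderOf_dvd_natCard (⟨_, h1⟩ : ↥(D9 K ⊔ TT chevE7 K))
      have h4 : orderOf (⟨_, h1⟩ : ↥(D9 K ⊔ TT chevE7 K)) = 17 := by
        rw [← Subgroup.orderOf_coe, ← Subgroup.orderOf_coe]
        show orderOf (g.1.1 : GL chevE7.Idx K) = 17
        rw [Subgroup.orderOf_coe, Subgroup.orderOf_coe, hg]
      rwa [h4] at h3
    have h3 := h2.trans (card_sup_dvd' (TT_le_normalizer (K := K)))
    rw [card_D9 hK, card_TT hK] at h3
    norm_num at h3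

end K

theorem box_T9 : BoxT9 := by
  obtain ⟨K, _, _, hK⟩ := exists_field 3 (by norm_num)
  have hc : CharP K 2 := charTwo_of_card hK
  obtain ⟨e⟩ := isoPk (by norm_num) hK w3_lt w3_pow
  exact P9_of_equiv e (p9_of_card hK)

end Cfsg.Agent.R2.E72T
end

-- part: R2/H27S/SpSix
section
/-!
# `Sp₆(2) ≤ SL₆(2) → E₇(2)` (S5934, box S12)
-/

set_option autoImplicit false
set_option linter.unusedSectionVars false

namespace Cfsg.Agent.R2.H27S.SpSix

open Cfsg.Lie Cfsg.Agent.ChevalleyStructure Cfsg.Agent.ChevalleyStructure.Elts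
  Cfsg.Agent.ChevalleyStructure.StBasic Cfsg.Agent.ClassicalGeometry.SympBasic
open Cfsg.Agent.R2.H27 (G7)
open Cfsg.Agent.R2.H27S.ESeven Cfsg.Agent.R2.H27S.FTwo Cfsg.Agent.H129.FE
open Cfsg (sympForm sympTransvection)

/-! ### `SL₆(2) → E₇(2)` -/

/-- the roots of `A₅` -/
def tR : Array (Array ℕ) := #[#[1000, 78, 79, 80, 81, 82], #[47, 1000, 69, 70, 71, 72], #[46, 56, 1000, 66, 67, 68],
  #[45, 55, 59, 1000, 64, 65], #[44, 54, 58, 61, 1000, 63], #[43, 53, 57, 60, 62, 1000]]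

/-- the root of `A₅` belonging to `(i, j)` -/
def rt6 (i j : Fin 6) : ℕ := (tR.getD i #[]).getD j 1000

theorem rt6_lt : ∀ i j : Fin 6, i ≠ j → rt6 i j < 126 := by decide +kernel

theorem rt6_comm : ∀ i j k l : Fin 6, i ≠ j → k ≠ l → i ≠ l → j ≠ k → rt6 k l ≠ rt6 i j →
    (rt6 k l ≠ chevE7.neg (rt6 i j) ∧ ct chevE7 (rt6 i j) (rt6 k l) = []) := by (delta Cfsg.Agent.H129.FE.ct; rewrite [Cfsg.Agent.ChevFast.E7.chainEntry, Cfsg.Agent.ChevFast.E7.neg]; (set_option synthInstance.maxSize 100000 in exact Cfsg.Agent.Lib.Refl.of (by decide +kernel)))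

theorem rt6_swap : ∀ i j l : Fin 6, i ≠ j → j ≠ l → i ≠ l → rt6 j l ≠ rt6 i j ∧ rt6 j l ≠ chevE7.neg (rt6 i j) ∧
    (ct chevE7 (rt6 j l) (rt6 i j) = [(rt6 i l, 1)] ∨ ct chevE7 (rt6 j l) (rt6 i j) = [(rt6 i l, -1)]) ∧
    rt6 i j ≠ chevE7.neg (rt6 j l) ∧ rt6 i l ≠ rt6 i j ∧ rt6 i l ≠ rt6 j l ∧ rt6 i l ≠ chevE7.neg (rt6 i j) ∧
    ct chevE7 (rt6 i j) (rt6 i l) = [] := by (delta Cfsg.Agent.H129.FE.ct; rewrite [Cfsg.Agent.ChevFast.E7.chainEntry, Cfsg.Agent.ChevFast.E7.neg]; decide +kernel)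

/-- the images of the generators -/
def g6 (a : {ij : Fin 6 × Fin 6 // ij.1 ≠ ij.2}) (t : F2) : G7 := if t = 0 then 1 else xe (rt6 a.1.1 a.1.2)

theorem g6_zero (a : {ij : Fin 6 × Fin 6 // ij.1 ≠ ij.2}) : g6 a 0 = 1 := if_pos rfl

theorem g6_one (a : {ij : Fin 6 × Fin 6 // ij.1 ≠ ij.2}) : g6 a 1 = xe (rt6 a.1.1 a.1.2) := if_neg one_ne_zero

theorem g6_add (a : {ij : Fin 6 × Fin 6 // ij.1 ≠ ij.2}) (t u : F2) : g6 a t * g6 a u * (g6 a (t + u))⁻¹ = 1 := by
  rcases two_elts t with rfl | rfl <;> rcases two_elts u with rfl | rfl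
  · rw [g6_zero, zero_add, g6_zero, mul_one, inv_one, mul_one]
  · rw [g6_zero, zero_add, one_mul, mul_inv_cancel]
  · rw [g6_zero, add_zero, mul_one, mul_inv_cancel]
  · have h1 : (1 : F2) + 1 = 0 := by decide
    rw [h1, g6_zero, g6_one, xe_mul, inv_one, mul_one]

theorem g6_comm (a b : {ij : Fin 6 × Fin 6 // ij.1 ≠ ij.2}) (t u : F2) (h1 : a.1.1 ≠ b.1.2) (h2 : a.1.2 ≠ b.1.1) :
    g6 a t * g6 b u * (g6 a t)⁻¹ * (g6 b u)⁻¹ = 1 := by
  have key : Commute (g6 a t) (g6 b u) := by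
    rcases two_elts t with rfl | rfl
    · rw [g6_zero]; exact Commute.one_left _
    rcases two_elts u with rfl | rfl
    · rw [g6_zero]; exact Commute.one_right _
    rw [g6_one, g6_one]
    by_cases h : rt6 b.1.1 b.1.2 = rt6 a.1.1 a.1.2
    · rw [h]
    · obtain ⟨h3, h4⟩ := rt6_comm a.1.1 a.1.2 b.1.1 b.1.2 a.2 b.2 h1 h2 h
      exact xe_comm (rt6_lt _ _ a.2) (rt6_lt _ _ b.2) h h3 h4
  rw [key.eq]
  group

theorem xe_bracket {r s q : ℕ} (hr : r < 126) (hs : s < 126) (hne : s ≠ r) (hneg : r ≠ chevE7.neg s)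
    (h : ct chevE7 s r = [(q, 1)] ∨ ct chevE7 s r = [(q, -1)]) :
    xe r * xe s * (xe r)⁻¹ * (xe s)⁻¹ * (xe q)⁻¹ = 1 := by
  have e1 : ((1 : ℤ) : F2) = 1 := by decide
  have e2 : ((-1 : ℤ) : F2) = 1 := by decide
  have h1 : xe r * xe s = xe s * xe r * xe q := by
    rcases h with h | h
    · exact xe_swap (q := (q, 1)) hs hr hne.symm hneg h e1
    · exact xe_swap (q := (q, -1)) hs hr hne.symm hneg h e2
  have h2 : xe s * xe r = xe r * xe s * xe q := by
    calc xe s * xe r = xe s * xe r * (xe q * xe q) := by rw [xe_mul, mul_one]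
      _ = xe s * xe r * xe q * xe q := by group
      _ = xe r * xe s * xe q := by rw [h1]
  rw [xe_inv, xe_inv, xe_inv]
  calc xe r * xe s * xe r * xe s * xe q = xe r * xe s * (xe r * xe s * xe q) := by group
    _ = xe r * xe s * (xe s * xe r) := by rw [h2]
    _ = xe r * (xe s * xe s) * xe r := by group
    _ = 1 := by rw [xe_mul, mul_one, xe_mul]

theorem g6_br (a b : {ij : Fin 6 × Fin 6 // ij.1 ≠ ij.2}) (h : a.1.1 ≠ b.1.2) (t u : F2) (h2 : a.1.2 = b.1.1) :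
    g6 a t * g6 b u * (g6 a t)⁻¹ * (g6 b u)⁻¹ * (g6 ⟨(a.1.1, b.1.2), h⟩ (t * u))⁻¹ = 1 := by
  rcases two_elts t with rfl | rfl
  · rw [zero_mul, g6_zero, g6_zero]; group
  rcases two_elts u with rfl | rfl
  · rw [mul_zero, g6_zero, g6_zero]; group
  rw [mul_one, g6_one, g6_one, g6_one]
  obtain ⟨⟨i, j⟩, hij⟩ := a
  obtain ⟨⟨k, l⟩, hkl⟩ := b
  change j = k at h2
  subst h2
  change i ≠ l at h
  change i ≠ j at hij
  change j ≠ l at hkl
  obtain ⟨h3, h4, h5, h6, -⟩ := rt6_swap i j l hij hkl h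
  exact xe_bracket (rt6_lt i j hij) (rt6_lt j l hkl) h3 h6 h5

/-- elementary matrices -/
def el (i j : Fin 6) (h : i ≠ j) : Matrix.SpecialLinearGroup (Fin 6) F2 :=
  ⟨Matrix.transvection i j 1, Matrix.det_transvection_of_ne i j h 1⟩

/-- **`SL₆(2) → E₇(2)`** -/
theorem exists_sl : ∃ φ : Matrix.SpecialLinearGroup (Fin 6) F2 →* G7, ∀ i j (h : i ≠ j), φ (el i j h) = xe (rt6 i j) := by
  obtain ⟨e, he⟩ := Cfsg.Agent.S2401.result (K := F2) 6 (by norm_num)
  have hrel : ∀ r ∈ ({g : FreeGroup ({ij : Fin 6 × Fin 6 // ij.1 ≠ ij.2} × F2) | ∃ (a : {ij : Fin 6 × Fin 6 // ij.1 ≠ ij.2}) (t u : F2),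
            g = FreeGroup.of (a, t) * FreeGroup.of (a, u) * (FreeGroup.of (a, t + u))⁻¹} ∪
          {g | ∃ (a b : {ij : Fin 6 × Fin 6 // ij.1 ≠ ij.2}) (t u : F2), a.1.1 ≠ b.1.2 ∧ a.1.2 ≠ b.1.1 ∧
            g = FreeGroup.of (a, t) * FreeGroup.of (b, u) * (FreeGroup.of (a, t))⁻¹ * (FreeGroup.of (b, u))⁻¹} ∪
          {g | ∃ (a b : {ij : Fin 6 × Fin 6 // ij.1 ≠ ij.2}) (h : a.1.1 ≠ b.1.2) (t u : F2), a.1.2 = b.1.1 ∧
            g = FreeGroup.of (a, t) * FreeGroup.of (b, u) * (FreeGroup.of (a, t))⁻¹ * (FreeGroup.of (b, u))⁻¹ *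
              (FreeGroup.of (⟨(a.1.1, b.1.2), h⟩, t * u))⁻¹}),
      FreeGroup.lift (fun p : {ij : Fin 6 × Fin 6 // ij.1 ≠ ij.2} × F2 => g6 p.1 p.2) r = 1 := by
    rintro _ ((⟨a, t, u, rfl⟩ | ⟨a, b, t, u, h1, h2, rfl⟩) | ⟨a, b, h, t, u, h2, rfl⟩)
    · rw [map_mul, map_mul, map_inv, FreeGroup.lift_apply_of, FreeGroup.lift_apply_of, FreeGroup.lift_apply_of]
      exact g6_add a t u
    · rw [map_mul, map_mul, map_mul, map_inv, map_inv, FreeGroup.lift_apply_of, FreeGroup.lift_apply_of]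
      exact g6_comm a b t u h1 h2
    · rw [map_mul, map_mul, map_mul, map_mul, map_inv, map_inv, map_inv, FreeGroup.lift_apply_of,
        FreeGroup.lift_apply_of, FreeGroup.lift_apply_of]
      exact g6_br a b h t u h2
  refine ⟨(PresentedGroup.toGroup hrel).comp e.symm.toMonoidHom, ?_⟩
  intro i j h
  have h1 : e.symm (el i j h) = PresentedGroup.of (⟨(i, j), h⟩, 1) := by
    rw [MulEquiv.symm_apply_eq]
    apply Subtype.ext
    rw [he]
    rfl
  show PresentedGroup.toGroup hrel (e.symm (el i j h)) = _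
  rw [h1, PresentedGroup.toGroup.of]
  exact g6_one _

/-! ### `Sp₆(2) → SL₆(2)` -/

/-- the symplectic group -/
abbrev Sp : Type := ↥(Matrix.symplecticGroup (Fin 3) F2)

/-- the numbering of the basis -/
def eq6 : Fin 3 ⊕ Fin 3 ≃ Fin 6 where
  toFun := Sum.elim ![0, 1, 2] ![5, 4, 3]
  invFun := ![Sum.inl 0, Sum.inl 1, Sum.inl 2, Sum.inr 2, Sum.inr 1, Sum.inr 0]
  left_inv := by decide
  right_inv := by decide

/-- `Sp₆(2) → SL₆(2)` -/
def toSL : Sp →* Matrix.SpecialLinearGroup (Fin 6) F2 where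
  toFun A := ⟨Matrix.reindex eq6 eq6 (A : Matrix (Fin 3 ⊕ Fin 3) (Fin 3 ⊕ Fin 3) F2), by
    rw [Matrix.det_reindex_self]
    exact SymplecticGroup.det_eq_one A.2⟩
  map_one' := by
    apply Subtype.ext
    show Matrix.reindex eq6 eq6 (1 : Matrix (Fin 3 ⊕ Fin 3) (Fin 3 ⊕ Fin 3) F2) = 1
    rw [Matrix.reindex_apply, Matrix.submatrix_one_equiv]
  map_mul' A B := by
    apply Subtype.ext
    show Matrix.reindex eq6 eq6 ((A : Matrix (Fin 3 ⊕ Fin 3) (Fin 3 ⊕ Fin 3) F2) *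
      (B : Matrix (Fin 3 ⊕ Fin 3) (Fin 3 ⊕ Fin 3) F2)) = _
    rw [Matrix.reindex_apply, ← Matrix.submatrix_mul_equiv _ _ _ eq6.symm]
    rfl

/-- vectors -/
def vn (n : ℕ) : Fin 3 ⊕ Fin 3 → F2 :=
  Sum.elim (fun i => if n.testBit i then 1 else 0) (fun i => if n.testBit (3 + i) then 1 else 0)

/-- symplectic transvections -/
abbrev tv (v : Fin 3 ⊕ Fin 3 → F2) : Sp := transv v (1 : F2)

theorem tv_conj (v w : Fin 3 ⊕ Fin 3 → F2) (h : sympForm 3 F2 v w = 1) : tv w * tv v * (tv w)⁻¹ = tv (v + w) := by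
  rw [mul_inv_eq_iff_eq_mul]
  apply Subtype.ext
  show sympTransvection 3 w 1 * sympTransvection 3 v 1 = sympTransvection 3 (v + w) 1 * sympTransvection 3 w (1 : F2)
  rw [mul_sympTransvection (sympTransvection_mem w 1), sympTransvection_mulVec, h, one_mul, one_smul]

/-- the checker -/
def chkS : List (ℕ × ℕ) → List ℕ → Bool
  | [], L => (List.range 64).all fun n => n == 0 || L.contains n
  | e :: s, L => L.contains e.1 && L.contains e.2 && decide (sympForm 3 F2 (vn e.1) (vn e.2) = 1) &&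
      decide (vn e.1 + vn e.2 = vn (e.1 ^^^ e.2)) && chkS s ((e.1 ^^^ e.2) :: L)

theorem chkS_spec {H : Subgroup Sp} : ∀ (s : List (ℕ × ℕ)) (L : List ℕ), chkS s L = true →
    (∀ n ∈ L, tv (vn n) ∈ H) → ∀ n < 64, n ≠ 0 → tv (vn n) ∈ H
  | [], L, h, hL, n, hn, h0 => by
    rw [chkS, List.all_eq_true] at h
    have h1 := h n (List.mem_range.2 hn)
    simp only [Bool.or_eq_true, beq_iff_eq, List.contains_iff_mem] at h1
    exact hL n (h1.resolve_left h0)
  | e :: s, L, h, hL, n, hn, h0 => by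
    rw [chkS] at h
    simp only [Bool.and_eq_true, decide_eq_true_eq, List.contains_iff_mem] at h
    obtain ⟨⟨⟨⟨h1, h2⟩, h3⟩, h4⟩, h5⟩ := h
    refine chkS_spec s _ h5 (fun m hm => ?_) n hn h0
    rcases List.mem_cons.1 hm with rfl | hm
    · rw [← h4, ← tv_conj _ _ h3]
      exact mul_mem (mul_mem (hL _ h2) (hL _ h1)) (inv_mem (hL _ h2))
    · exact hL m hm

/-- the steps -/
def steps : List (ℕ × ℕ) := [(1, 8), (2, 16), (3, 8), (3, 9), (3, 16), (3, 18), (4, 32), (6, 16), (6, 17), (6, 18),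
  (6, 19), (6, 32), (6, 36), (8, 17), (8, 19), (8, 21), (8, 23), (16, 10), (16, 23), (16, 31), (16, 34), (16, 38),
  (32, 7), (32, 15), (32, 20), (32, 21), (32, 23), (32, 29), (32, 31), (1, 15), (1, 25), (1, 29), (1, 31), (1, 47),
  (1, 61), (1, 63), (2, 50), (3, 14), (3, 15), (3, 46), (3, 47), (3, 48), (3, 50), (4, 39), (4, 44), (4, 45), (4, 46),
  (4, 47), (4, 60), (4, 61), (4, 62), (4, 63), (6, 35), (6, 39), (8, 13)]

/-- the basic vectors -/
def base : List ℕ := [1, 2, 4, 8, 16, 32, 3, 6]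

theorem chk_steps : chkS steps base = true := by decide +kernel

theorem vn_surj : ∀ v : Fin 3 ⊕ Fin 3 → F2, ∃ n ∈ List.range 64, vn n = v := by (set_option synthInstance.maxSize 100000 in exact Cfsg.Agent.Lib.Refl.of (by decide +kernel))

theorem tv_zero : tv 0 = 1 := by
  apply Subtype.ext
  show sympTransvection 3 (0 : Fin 3 ⊕ Fin 3 → F2) 1 = 1
  rw [sympTransvection_def, Matrix.zero_vecMulVec, smul_zero, add_zero]

theorem vn_zero : vn 0 = 0 := by decide +kernel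

/-- **generation** -/
theorem eq_top {H : Subgroup Sp} (h : ∀ n ∈ base, tv (vn n) ∈ H) : H = ⊤ := by
  rw [eq_top_iff, ← Cfsg.Agent.S0765.result (F := F2) 3, Subgroup.closure_le]
  rintro A ⟨w, c, hA⟩
  obtain ⟨n, hn, rfl⟩ := vn_surj w
  rcases two_elts c with rfl | rfl
  · have h1 : A = 1 := by
      apply Subtype.ext
      rw [hA, sympTransvection_zero]
      rfl
    rw [h1]
    exact one_mem _
  · have h1 : A = tv (vn n) := Subtype.ext hA
    rw [h1]
    by_cases h0 : n = 0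
    · rw [h0, vn_zero, tv_zero]
      exact one_mem _
    · exact chkS_spec steps base chk_steps h n (List.mem_range.1 hn) h0

theorem center_bot : Subgroup.center Sp = ⊥ := by
  have h1 := Cfsg.Agent.S0246.result (F := F2) (q := 2) hF 3 (by norm_num)
  exact Subgroup.card_eq_one.1 h1

instance simpleSp : IsSimpleGroup Sp := by
  have h1 : IsSimpleGroup (Cfsg.PSp 3 F2) := Cfsg.Agent.S0270.result (F := F2) 3 (by norm_num) (by norm_num)
  have e : Sp ≃* Cfsg.PSp 3 F2 :=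
    (QuotientGroup.quotientBot (G := Sp)).symm.trans (QuotientGroup.quotientMulEquivOfEq center_bot.symm)
  exact e.isSimpleGroup

theorem cardSp : Nat.card Sp = 1451520 := by
  have h1 := Cfsg.Agent.S0245.result (F := F2) (q := 2) hF 3
  rw [h1]
  decide

end Cfsg.Agent.R2.H27S.SpSix
end

-- part: R2/H27S/GTwo
section
/-!
# `G₂(2)' ≤ E₇(2)` (S5934, box S12)
-/

set_option autoImplicit false
set_option linter.unusedSectionVars false

namespace Cfsg.Agent.R2.H27S.GTwo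

open Cfsg.Lie Cfsg.Agent.ChevalleyStructure Cfsg.Agent.ChevalleyStructure.Elts
  Cfsg.Agent.ChevalleyStructure.StBasic Cfsg.Agent.ChevalleyStructure.StTheta
open Cfsg.Agent.R2.H27 (G7)
open Cfsg.Agent.R2.H27S.ESeven Cfsg.Agent.R2.H27S.FTwo Cfsg.Agent.H129.FE
open scoped commutatorElement

/-- the roots of `E₇` belonging to the roots of `G₂` -/
def tG : Array (List ℕ) := #[[0], [1], [11, 9, 6], [27, 24, 22], [48, 40, 38], [32], [93], [77, 85, 87], [98, 101, 103],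
  [114, 116, 119], [124], [125]]

/-- the roots of `E₇` belonging to the roots of `G₂` -/
def AG (r : ℕ) : List ℕ := tG.getD r []

theorem nrootsG : chevG2.nroots = 12 := by decide +kernel

/-- right hand side of the commutator formula -/
def rG (r s : ℕ) : List ℕ := (chevG2.commTerms r s).flatMap fun c => if c.2.1 % 2 = 0 then [] else AG c.1

/-- the ordering -/
def ordG (r s : ℕ) : List ℕ := AG r ++ AG s ++ (chevG2.commTerms r s).flatMap fun c => AG c.1

/-- the check -/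
def chkG (r s : ℕ) : Bool :=
  nf2 (posL (ordG r s)) 20 ((AG s).reverse ++ (AG r).reverse ++ AG s ++ AG r) == nf2 (posL (ordG r s)) 20 (rG r s)

theorem chkG_all : ∀ r < 12, ∀ s < 12, s ≠ r → s ≠ chevG2.neg r → chkG r s = true := by (delta Cfsg.Agent.H129.FE.ct Cfsg.Agent.R2.H27S.FTwo.ins2 Cfsg.Agent.R2.H27S.FTwo.nf2 Cfsg.Agent.R2.H27S.FTwo.nf2._f Cfsg.Agent.R2.H27S.GTwo.chkG Cfsg.Agent.R2.H27S.GTwo.ordG Cfsg.Agent.R2.H27S.GTwo.rG; rewrite [Cfsg.Agent.ChevFast.E7.chainEntry, Cfsg.Agent.ChevFast.E7.neg]; decide +kernel)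

theorem exp_all : ∀ r < 12, ∀ s < 12, ∀ c ∈ chevG2.commTerms r s, c.2.2.1 ≠ 0 ∧ c.2.2.2 ≠ 0 := by decide +kernel

theorem sq_all : ∀ r < 12, nf2 (posL (AG r)) 20 (AG r ++ AG r) = [] := by (delta Cfsg.Agent.H129.FE.ct Cfsg.Agent.R2.H27S.FTwo.ins2 Cfsg.Agent.R2.H27S.FTwo.nf2 Cfsg.Agent.R2.H27S.FTwo.nf2._f; rewrite [Cfsg.Agent.ChevFast.E7.chainEntry, Cfsg.Agent.ChevFast.E7.neg]; decide +kernel)

/-- the images of the generators -/
def genG (r : ℕ) (t : F2) : G7 := if t = 0 then 1 else wv (AG r)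

theorem genG_zero (r : ℕ) : genG r 0 = 1 := if_pos rfl

theorem genG_one (r : ℕ) : genG r 1 = wv (AG r) := if_neg one_ne_zero

theorem genG_of_not_lt (r : ℕ) (t : F2) (h : ¬ r < chevG2.nroots) : genG r t = 1 := by
  unfold genG
  split_ifs
  · rfl
  · have h1 : AG r = [] := by
      rw [nrootsG] at h
      rw [AG, Array.getD_eq_getD_getElem?, Array.getElem?_eq_none (Nat.not_lt.1 h)]
      rfl
    rw [h1]
    rfl

theorem wvA_mul {r : ℕ} (hr : r < 12) : wv (AG r) * wv (AG r) = 1 := by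
  rw [← wv_append, ← wv_nf2 (posL (AG r)) 20, sq_all r hr]
  rfl

theorem genG_mul (r : ℕ) (t₁ t₂ : F2) (hr : r < chevG2.nroots) : genG r t₁ * genG r t₂ = genG r (t₁ + t₂) := by
  rw [nrootsG] at hr
  rcases two_elts t₁ with rfl | rfl <;> rcases two_elts t₂ with rfl | rfl
  · rw [genG_zero, zero_add, genG_zero, mul_one]
  · rw [genG_zero, zero_add, one_mul]
  · rw [genG_zero, add_zero, mul_one]
  · have h1 : (1 : F2) + 1 = 0 := by decide
    rw [h1, genG_zero, genG_one, wvA_mul hr]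

theorem prod_one {G : Type*} [Monoid G] {α : Type*} {l : List α} {f : α → G} (h : ∀ a ∈ l, f a = 1) : (l.map f).prod = 1 :=
  List.prod_eq_one fun x hx => by
    obtain ⟨a, ha, rfl⟩ := List.mem_map.1 hx
    exact h a ha

theorem wv_flatMap {α : Type*} (g : α → List ℕ) (l : List α) : wv (l.flatMap g) = (l.map fun a => wv (g a)).prod := by
  induction l with
  | nil => rfl
  | cons a l ih => rw [List.flatMap_cons, wv_append, ih, List.map_cons, List.prod_cons]

theorem genG_comm (r s : ℕ) (t u : F2) (hr : r < chevG2.nroots) (hs : s < chevG2.nroots) (hne : s ≠ r)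
    (hneg : s ≠ chevG2.neg r) : (genG s u)⁻¹ * (genG r t)⁻¹ * genG s u * genG r t =
      ((chevG2.commWord F2 r s t u).map fun p => genG p.1 p.2).prod := by
  rw [nrootsG] at hr hs
  rw [ChevalleyDatum.commWord, List.map_map]
  rcases two_elts t with rfl | rfl
  · rw [genG_zero, inv_one, mul_one, mul_one, inv_mul_cancel]
    symm
    refine prod_one (G := G7) fun c hc => ?_
    have h1 := (exp_all r hr s hs c hc).1
    show genG c.1 ((c.2.1 : F2) * (-0) ^ c.2.2.1 * u ^ c.2.2.2) = 1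
    rw [neg_zero, zero_pow h1, mul_zero, zero_mul, genG_zero]
  rcases two_elts u with rfl | rfl
  · rw [genG_zero, inv_one, one_mul, mul_one, inv_mul_cancel]
    symm
    refine prod_one (G := G7) fun c hc => ?_
    have h1 := (exp_all r hr s hs c hc).2
    show genG c.1 ((c.2.1 : F2) * (-1) ^ c.2.2.1 * 0 ^ c.2.2.2) = 1
    rw [zero_pow h1, mul_zero, genG_zero]
  · have h := chkG_all r hr s hs hne hneg
    rw [chkG, beq_iff_eq] at h
    have h1 := wv_eq_of_nf _ h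
    rw [wv_append, wv_append, wv_append, wv_reverse, wv_reverse] at h1
    rw [genG_one, genG_one, h1, rG, wv_flatMap]
    congr 1
    apply List.map_congr_left
    intro c _
    show _ = genG c.1 ((c.2.1 : F2) * (-1) ^ c.2.2.1 * 1 ^ c.2.2.2)
    have h2 : (-1 : F2) = 1 := by decide
    rw [h2, one_pow, one_pow, mul_one, mul_one]
    split_ifs with h3
    · have h4 : (c.2.1 : F2) = 0 := by
        rw [ZMod.intCast_zmod_eq_zero_iff_dvd]
        exact Int.dvd_of_emod_eq_zero h3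
      rw [h4, genG_zero]
      rfl
    · have h4 : (c.2.1 : F2) = 1 := by
        rcases two_elts (c.2.1 : F2) with h5 | h5
        · rw [ZMod.intCast_zmod_eq_zero_iff_dvd] at h5
          exact absurd (Int.emod_eq_zero_of_dvd h5) h3
        · exact h5
      rw [h4, genG_one]

theorem neg_ltG : ∀ r < 12, chevG2.neg r < 12 := by decide +kernel

theorem hW {r : ℕ} (hr : r < 12) : ((chevG2.hWord r (1 : F2)).map fun p => genG p.1 p.2).prod = 1 := by
  have h1 : ((chevG2.hWord r (1 : F2)).map fun p => genG p.1 p.2).prod =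
      genG r 1 * (genG (chevG2.neg r) (-1⁻¹) * (genG r 1 * (genG r (-1) * (genG (chevG2.neg r) (-(-1)⁻¹) *
      (genG r (-1) * 1))))) := rfl
  have h2 : (-(1 : F2)⁻¹) = 1 := by rw [inv_one]; decide
  have h3 : (-(-1 : F2)⁻¹) = 1 := by rw [inv_neg, inv_one, neg_neg]
  have h4 : (-1 : F2) = 1 := by decide
  rw [h1, h2, h3, h4, genG_one, genG_one, mul_one, ← mul_assoc (wv (AG r)) (wv (AG r)), wvA_mul hr, one_mul,
    ← mul_assoc (wv (AG (chevG2.neg r))), wvA_mul (neg_ltG r hr), one_mul, wvA_mul hr]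

theorem genG_h (r : ℕ) (t₁ t₂ : F2) (hr : r < chevG2.nroots) (h₁ : t₁ ≠ 0) (h₂ : t₂ ≠ 0) :
    ((chevG2.hWord r t₁).map fun p => genG p.1 p.2).prod * ((chevG2.hWord r t₂).map fun p => genG p.1 p.2).prod =
      ((chevG2.hWord r (t₁ * t₂)).map fun p => genG p.1 p.2).prod := by
  rw [nrootsG] at hr
  have e1 : t₁ = 1 := (two_elts t₁).resolve_left h₁
  have e2 : t₂ = 1 := (two_elts t₂).resolve_left h₂
  subst e1 e2
  rw [mul_one, hW hr, mul_one]

/-- the homomorphism from the presented group -/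
noncomputable def stG : chevG2.SteinbergGroup F2 →* G7 :=
  lift chevG2 genG genG_of_not_lt genG_mul (fun r s t u hr hs h1 h2 => genG_comm r s t u hr hs h1 h2)
    (fun r t₁ t₂ hr h₁ h₂ => genG_h r t₁ t₂ hr h₁ h₂)

theorem stG_stGen (r : ℕ) (t : F2) : stG (chevG2.stGen F2 r t) = genG r t := lift_stGen _ _ _ _ _ _ _ _

theorem inG2 : InList chevG2 := by simp

/-- **`G₂(2) → E₇(2)`** -/
theorem exists_g2 : ∃ f : ↥(chevG2.group F2) →* G7, ∀ r < 12, f (xg F2 inG2 r 1) = wv (AG r) := by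
  obtain ⟨θ, hs, hk, he⟩ := Cfsg.Agent.S1077.result (K := F2) chevG2 (by simp)
  have hinj : Function.Injective θ := by
    rw [← MonoidHom.ker_eq_bot_iff, hk]
    exact Cfsg.Agent.S1078.result (K := F2) chevG2 (by simp)
  let e : chevG2.SteinbergGroup F2 ≃* ↥(chevG2.group F2) := MulEquiv.ofBijective θ ⟨hinj, hs⟩
  have h6 : ∀ r < 12, e (chevG2.stGen F2 r 1) = xg F2 inG2 r 1 := by
    intro r hr
    apply Subtype.ext
    apply Units.ext
    exact he r 1 (by rw [nrootsG]; exact hr)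
  refine ⟨stG.comp e.symm.toMonoidHom, fun r hr => ?_⟩
  rw [← h6 r hr]
  show stG (e.symm (e (chevG2.stGen F2 r 1))) = _
  rw [MulEquiv.symm_apply_apply, stG_stGen, genG_one]

/-- the image is generated by the root elements -/
theorem range_le {f : ↥(chevG2.group F2) →* G7} (h : ∀ r < 12, f (xg F2 inG2 r 1) = wv (AG r)) {S : Subgroup G7}
    (hS : ∀ r < 12, wv (AG r) ∈ S) : f.range ≤ S := by
  have h1 : chevG2.group F2 ≤ (S.comap f).map (chevG2.group F2).subtype := by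
    rw [group_le_iff inG2]
    intro r hr t
    rw [nrootsG] at hr
    refine ⟨xg F2 inG2 r t, ?_, rfl⟩
    show f (xg F2 inG2 r t) ∈ S
    rcases two_elts t with rfl | rfl
    · have h2 : xg F2 inG2 r 0 = 1 := Subtype.ext (xG_zero inG2 r)
      rw [h2, map_one]
      exact one_mem _
    · rw [h r hr]
      exact hS r hr
  rintro _ ⟨x, rfl⟩
  obtain ⟨y, hy, hyx⟩ := h1 x.2
  rw [Subtype.ext hyx] at hy
  exact hy

/-- sums of long roots -/
def lT : List (ℕ × ℕ × ℕ) := [(0, 1, 5), (1, 0, 6), (5, 0, 10), (6, 11, 1), (10, 11, 5), (11, 6, 10)]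

theorem lT_ok : ∀ e ∈ lT, e.2.1 < 12 ∧ e.2.2 < 12 ∧
    nf2 id 20 (AG e.2.1 ++ AG e.2.2 ++ AG e.2.1 ++ AG e.2.2) = AG e.1 := by (delta Cfsg.Agent.H129.FE.ct Cfsg.Agent.R2.H27S.FTwo.ins2 Cfsg.Agent.R2.H27S.FTwo.nf2 Cfsg.Agent.R2.H27S.FTwo.nf2._f; rewrite [Cfsg.Agent.ChevFast.E7.chainEntry, Cfsg.Agent.ChevFast.E7.neg]; decide +kernel)

theorem wv_single (r : ℕ) : wv [r] = xe r := by rw [wv_cons, wv_nil, mul_one]

/-- the long root elements are commutators -/
theorem long_mem {f : ↥(chevG2.group F2) →* G7} (h : ∀ r < 12, f (xg F2 inG2 r 1) = wv (AG r)) {r : ℕ}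
    (hr : r ∈ lT.map Prod.fst) : wv (AG r) ∈ (commutator ↥(chevG2.group F2)).map f := by
  obtain ⟨⟨_, s, t⟩, he, rfl⟩ := List.mem_map.1 hr
  obtain ⟨hs, ht, h1⟩ := lT_ok _ he
  change s < 12 at hs
  change t < 12 at ht
  refine ⟨⁅xg F2 inG2 s 1, xg F2 inG2 t 1⁆, ?_, ?_⟩
  · exact Subgroup.commutator_mem_commutator (Subgroup.mem_top _) (Subgroup.mem_top _)
  · have h2 : ∀ a b : G7, a * a = 1 → b * b = 1 → ⁅a, b⁆ = a * b * a * b := by
      intro a b ha hb
      have ha' : a⁻¹ = a := inv_eq_of_mul_eq_one_left ha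
      have hb' : b⁻¹ = b := inv_eq_of_mul_eq_one_left hb
      rw [commutatorElement_def, ha', hb']
    rw [map_commutatorElement, h s hs, h t ht, h2 _ _ (wvA_mul hs) (wvA_mul ht), ← wv_append, ← wv_append,
      ← wv_append, ← wv_nf2 id 20, h1]

theorem AG_eleven : AG 11 = [125] := rfl

seal _root_.Nat.mod _root_.List.foldr in
theorem psu : ∃ (_ : IsSimpleGroup ↥(commutator ↥(chevG2.group F2))), Nat.card ↥(commutator ↥(chevG2.group F2)) = 6048 := by
  have : Fact (Nat.Prime 3) := ⟨by norm_num⟩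
  have : Fintype (GaloisField 3 2) := Fintype.ofFinite _
  have hK : Fintype.card (GaloisField 3 2) = 9 := by
    rw [← Nat.card_eq_fintype_card, GaloisField.card 3 2 (by norm_num)]
    norm_num
  obtain ⟨e⟩ := Cfsg.Agent.S1057.result (F := F2) (K := GaloisField 3 2) hF hK
  have h1 : IsSimpleGroup (Cfsg.PSU 3 (GaloisField 3 2) 3) :=
    Cfsg.Agent.S0283.result (q := 3) (by rw [hK]; norm_num) 3 (le_refl 3) (by norm_num)
  have h2 := Cfsg.Agent.SmallSimple.PSLFacts.card_psu_three_three (F := GaloisField 3 2) hK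
  exact ⟨e.isSimpleGroup, by rw [Nat.card_congr e.toEquiv, h2]⟩

theorem simple_map {G H : Type*} [Group G] [Group H] (f : G →* H) (D : Subgroup G) (h1 : IsSimpleGroup ↥D)
    (hz : ∃ z ∈ D, f z ≠ 1) : IsSimpleGroup ↥(D.map f) ∧ Nat.card ↥(D.map f) = Nat.card ↥D := by
  have hinj : Function.Injective (f.comp D.subtype) := by
    rw [← MonoidHom.ker_eq_bot_iff]
    rcases h1.eq_bot_or_eq_top_of_normal (f.comp D.subtype).ker inferInstance with h3 | h3
    · exact h3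
    · exfalso
      obtain ⟨z, hz, hz1⟩ := hz
      have h4 : (⟨z, hz⟩ : D) ∈ (f.comp D.subtype).ker := by rw [h3]; exact Subgroup.mem_top _
      rw [MonoidHom.mem_ker] at h4
      exact hz1 h4
  have h3 : (f.comp D.subtype).range = D.map f := by
    rw [MonoidHom.range_comp, Subgroup.range_subtype]
  have e : D ≃* ↥(D.map f) := (MonoidHom.ofInjective hinj).trans (MulEquiv.subgroupCongr h3)
  exact ⟨e.symm.isSimpleGroup, (Nat.card_congr e.toEquiv).symm⟩

/-- the group `G₂(2)'` in `E₇(2)` -/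
theorem simple_card {f : ↥(chevG2.group F2) →* G7} (h : ∀ r < 12, f (xg F2 inG2 r 1) = wv (AG r)) :
    IsSimpleGroup ↥((commutator ↥(chevG2.group F2)).map f) ∧
      Nat.card ↥((commutator ↥(chevG2.group F2)).map f) = 6048 := by
  obtain ⟨h1, h2⟩ := psu
  have h3 := simple_map f (commutator ↥(chevG2.group F2)) h1 (by
    obtain ⟨z, hz, hz1⟩ := long_mem h (r := 11) (by decide)
    refine ⟨z, hz, ?_⟩
    rw [hz1, AG_eleven, wv_single]
    exact xe_ne_one (by norm_num))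
  exact ⟨h3.1, h3.2.trans h2⟩

end Cfsg.Agent.R2.H27S.GTwo
end

-- part: R2/H27S/BoxTwelve
section
/-!
# Box S12 of S5934: `Sp₆(2) × U₃(3)`
-/

set_option autoImplicit false
set_option linter.unusedSectionVars false

namespace Cfsg.Agent.R2.H27S.BoxTwelve

open Cfsg.Lie Cfsg.Agent.ChevalleyStructure Cfsg.Agent.ChevalleyStructure.Elts
open Cfsg.Agent.R2.H27 (G7 BoxS12 oS6 oG2)
open Cfsg.Agent.H904.E7Form
open Cfsg.Agent.R2.H27S.ESeven Cfsg.Agent.R2.H27S.FTwo Cfsg.Agent.R2.H27S.SpSix Cfsg.Agent.R2.H27S.GTwo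
  Cfsg.Agent.R2.H27S.Tab Cfsg.Agent.H129.FE

/-- the words of the basic transvections -/
def tabW : List (ℕ × List {ij : Fin 6 × Fin 6 // ij.1 ≠ ij.2}) :=
  [(1, [⟨(0, 5), by decide⟩]), (2, [⟨(1, 4), by decide⟩]), (4, [⟨(2, 3), by decide⟩]), (8, [⟨(5, 0), by decide⟩]),
   (16, [⟨(4, 1), by decide⟩]), (32, [⟨(3, 2), by decide⟩]),
   (3, [⟨(0, 4), by decide⟩, ⟨(0, 5), by decide⟩, ⟨(1, 4), by decide⟩, ⟨(1, 5), by decide⟩]),
   (6, [⟨(1, 3), by decide⟩, ⟨(1, 4), by decide⟩, ⟨(2, 3), by decide⟩, ⟨(2, 4), by decide⟩])]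

theorem tabW_mat : ∀ e ∈ tabW, Matrix.reindex eq6 eq6 (Cfsg.sympTransvection 3 (vn e.1) (1 : F2)) =
    (e.2.map fun p => Matrix.transvection p.1.1 p.1.2 (1 : F2)).prod := by decide +kernel

theorem tabW_base : ∀ n ∈ base, ∃ e ∈ tabW, e.1 = n := by decide +kernel

/-- the roots -/
def rW (l : List {ij : Fin 6 × Fin 6 // ij.1 ≠ ij.2}) : List ℕ := l.map fun p => rt6 p.1.1 p.1.2

theorem chkW : ∀ e ∈ tabW, ∀ r < 12, nf2 (posL (rW e.2 ++ AG r)) 60 (rW e.2 ++ AG r) =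
    nf2 (posL (rW e.2 ++ AG r)) 60 (AG r ++ rW e.2) := by (delta Cfsg.Agent.H129.FE.ct Cfsg.Agent.R2.H27S.FTwo.ins2 Cfsg.Agent.R2.H27S.FTwo.nf2 Cfsg.Agent.R2.H27S.FTwo.nf2._f; rewrite [Cfsg.Agent.ChevFast.E7.chainEntry, Cfsg.Agent.ChevFast.E7.neg]; decide +kernel)

theorem coe_prod (l : List {ij : Fin 6 × Fin 6 // ij.1 ≠ ij.2}) :
    (((l.map fun p => el p.1.1 p.1.2 p.2).prod : Matrix.SpecialLinearGroup (Fin 6) F2) : Matrix (Fin 6) (Fin 6) F2) =
      (l.map fun p => Matrix.transvection p.1.1 p.1.2 (1 : F2)).prod := by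
  induction l with
  | nil => rfl
  | cons a l ih =>
    rw [List.map_cons, List.prod_cons, List.map_cons, List.prod_cons, Matrix.SpecialLinearGroup.coe_mul, ih]
    rfl

theorem toSL_tv {e : ℕ × List {ij : Fin 6 × Fin 6 // ij.1 ≠ ij.2}} (he : e ∈ tabW) :
    toSL (tv (vn e.1)) = (e.2.map fun p => el p.1.1 p.1.2 p.2).prod := by
  apply Subtype.ext
  rw [coe_prod, ← tabW_mat e he]
  rfl

theorem map_tv {φ : Matrix.SpecialLinearGroup (Fin 6) F2 →* G7} (hφ : ∀ i j (h : i ≠ j), φ (el i j h) = xe (rt6 i j))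
    {e : ℕ × List {ij : Fin 6 × Fin 6 // ij.1 ≠ ij.2}} (he : e ∈ tabW) :
    φ.comp toSL (tv (vn e.1)) = wv (rW e.2) := by
  rw [MonoidHom.comp_apply, toSL_tv he, map_list_prod, List.map_map, wv, rW, List.map_map]
  congr 1
  apply List.map_congr_left
  intro p _
  exact hφ p.1.1 p.1.2 p.2

/-- the two groups commute -/
theorem commute_all {φ : Matrix.SpecialLinearGroup (Fin 6) F2 →* G7}
    (hφ : ∀ i j (h : i ≠ j), φ (el i j h) = xe (rt6 i j)) {g : ↥(chevG2.group F2) →* G7}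
    (hg : ∀ r < 12, g (xg F2 inG2 r 1) = wv (AG r)) : (φ.comp toSL).range ≤ Subgroup.centralizer (g.range : Set G7) := by
  have h1 : (Subgroup.centralizer (g.range : Set G7)).comap (φ.comp toSL) = ⊤ := by
    apply eq_top
    intro n hn
    obtain ⟨e, he, rfl⟩ := tabW_base n hn
    rw [Subgroup.mem_comap, map_tv hφ he]
    have h2 : g.range ≤ Subgroup.centralizer {wv (rW e.2)} := by
      refine range_le hg fun r hr => ?_
      rw [Subgroup.mem_centralizer_singleton_iff]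
      exact ((commute_of_nf _ (chkW e he r hr)).eq).symm
    rw [Subgroup.mem_centralizer_iff]
    intro x hx
    exact Subgroup.mem_centralizer_singleton_iff.1 (h2 hx)
  rintro _ ⟨x, rfl⟩
  have h2 : x ∈ (Subgroup.centralizer (g.range : Set G7)).comap (φ.comp toSL) := by rw [h1]; exact Subgroup.mem_top _
  exact h2

/-- the long roots -/
def lL : List ℕ := [82, 71, 66, 43, 54, 59, 0, 1, 32, 93, 124, 125]

theorem lL_ok : ∀ r ∈ lL, r < 126 ∧ chevE7.neg r ∈ lL := by decide +kernel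

theorem lL_perp : ∀ r < 126, (r ∈ ([] : List ℕ) ↔ ∀ s ∈ lL, bf (rv r) (rv s) = 0) := by (delta Cfsg.Agent.H904.E7Form.bf Cfsg.Agent.R2.H27S.ESeven.rv Cfsg.Agent.Nodes.RGDChev.vec Cfsg.Agent.H904.E7Form.pr Cfsg.Agent.ChevalleyStructure.RootVec.rt; set_option synthInstance.maxSize 100000 in exact Cfsg.Agent.Lib.Refl.of (by decide +kernel))

theorem lL_mem : ∀ r ∈ lL, (∃ e ∈ tabW, rW e.2 = [r]) ∨ ∃ s ∈ lT.map Prod.fst, AG s = [r] := by decide +kernel

theorem centralizer_GS {L : List ℕ} (hL : ∀ r ∈ L, r < 126) {z : G7} (h : ∀ r ∈ L, z * xe r = xe r * z) :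
    z ∈ Subgroup.centralizer (GS F2 L : Set G7) := by
  have h1 : GS F2 L ≤ Subgroup.centralizer {z} := by
    refine GS_le F2 fun r hr => ?_
    intro u hu
    rw [Subgroup.mem_centralizer_singleton_iff]
    rcases (mem_X7 (hL r hr)).1 hu with rfl | rfl
    · rw [one_mul, mul_one]
    · exact (h r hr).symm
  rw [Subgroup.mem_centralizer_iff]
  intro u hu
  exact Subgroup.mem_centralizer_singleton_iff.1 (h1 hu)

theorem GS_nil : GS F2 [] = ⊥ := by
  rw [eq_bot_iff]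
  exact GS_le F2 fun r hr => absurd hr List.not_mem_nil

/-- **Box S12** -/
theorem boxS12 : BoxS12 := by
  obtain ⟨φ, hφ⟩ := exists_sl
  obtain ⟨g, hg⟩ := exists_g2
  have h1 := commute_all hφ hg
  have h2 := GTwo.simple_card hg
  have h3 := simple_map (φ.comp toSL) ⊤ (by
    exact (Subgroup.topEquiv (G := Sp)).isSimpleGroup) ⟨tv (vn 1), Subgroup.mem_top _, by
      have h4 := map_tv hφ (e := (1, [⟨(0, 5), by decide⟩])) (by simp only [tabW, _root_.ne_eq, _root_.Fin.isValue, _root_.List.mem_cons, _root_.Prod.mk.injEq, _root_.OfNat.one_ne_ofNat, _root_.List.cons.injEq, _root_.Subtype.mk.injEq, _root_.zero_ne_one, _root_.Fin.reduceEq, _root_.and_self, _root_.and_true, _root_.and_false, _root_.List.nil_eq, _root_.reduceCtorEq, _root_.List.not_mem_nil, _root_.or_self, _root_.or_false])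
      rw [h4]
      have h5 : wv (rW [⟨((0 : Fin 6), (5 : Fin 6)), by decide⟩]) = xe 82 := wv_single 82
      rw [h5]
      exact xe_ne_one (by norm_num)⟩
  rw [← MonoidHom.range_eq_map] at h3
  have hle : (commutator ↥(chevG2.group F2)).map g ≤ g.range := by
    rintro _ ⟨x, _, rfl⟩
    exact ⟨x, rfl⟩
  refine ⟨(φ.comp toSL).range, (commutator ↥(chevG2.group F2)).map g, h3.1, ?_, h2.1, ?_, ?_, ?_⟩
  · rw [h3.2, Subgroup.card_top, cardSp]
    decide
  · rw [h2.2]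
    decide
  · exact hle.trans (Subgroup.le_centralizer_iff.1 h1)
  · rw [eq_bot_iff]
    rintro z ⟨hz1, hz2⟩
    have h4 : z ∈ Subgroup.centralizer (GS F2 lL : Set G7) := by
      refine centralizer_GS (fun r hr => (lL_ok r hr).1) fun r hr => ?_
      rcases lL_mem r hr with ⟨e, he, h5⟩ | ⟨s, hs, h5⟩
      · have h6 := map_tv hφ he
        rw [h5, wv_single] at h6
        exact (Subgroup.mem_centralizer_iff.1 hz1 (xe r) ⟨_, h6⟩).symm
      · have h6 := long_mem hg hs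
        rw [h5, wv_single] at h6
        exact (Subgroup.mem_centralizer_iff.1 hz2 (xe r) h6).symm
    rw [cent_eq F2 hF lL_ok (L' := []) (fun r hr => absurd hr List.not_mem_nil) lL_perp, GS_nil] at h4
    exact h4

end Cfsg.Agent.R2.H27S.BoxTwelve
end

private theorem dce_0c78cd98be98 : _root_.True := by
  try have : _root_.True := by simp only [_root_.Cfsg.Agent.R2.H27S.SpSix.chkS.eq_2]
  try have : _root_.True := by simp only [_root_.Cfsg.Agent.R2.H27.oTD4.eq_1]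
  try have : _root_.True := by simp only [_root_.Cfsg.Agent.R2.H27S.SpSix.chkS.eq_1]
  try have : _root_.True := by simp only [_root_.Cfsg.Agent.R2.H27.oL2e.eq_1]
  try have : _root_.True := by simp only [_root_.Cfsg.Agent.R2.H27S.BoxTwelve.rW.eq_1]
  try have : _root_.True := by simp only [_root_.Cfsg.Agent.H129.TorusChar.cX.congr_simp]
  try have : _root_.True := by simp only [_root_.Cfsg.Agent.R2.H27S.GTwo.rG.eq_1]
  try have : _root_.True := by simp only [_root_.Cfsg.Agent.R2.H27S.SpSix.chkS.eq_def]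
  try have : _root_.True := by simp only [_root_.Cfsg.Agent.R2.E72T.e9.eq_1]
  try have : _root_.True := by simp only [_root_.Cfsg.Agent.R2.H27S.GTwo.chkG.eq_1]
  try have : _root_.True := by simp only [_root_.Cfsg.Agent.R2.E72T.D9.eq_1]
  try have : _root_.True := by simp only [_root_.Cfsg.Agent.R2.E72T.X9.congr_simp]
  try have : _root_.True := by simp only [_root_.Cfsg.Agent.Nodes.RGDFoldSL.wS.eq_1]
  try have : _root_.True := by simp only [_root_.Cfsg.Agent.R2.H27S.GTwo.AG.eq_1]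
  try have : _root_.True := by simp only [_root_.Cfsg.Agent.R2.E72T.Rt.eq_1]
  try have : _root_.True := by simp only [_root_.Cfsg.Agent.R2.H27S.BoxTwelve.tabW.eq_1]
  try have : _root_.True := by simp only [_root_.Cfsg.Agent.R2.H27.N7.eq_1]
  exact _root_.True.intro
end

-- part: R2/H27S/Conj_mg
section
prune_inst 0x20000000000000000000000000000000
set_option linter.all false
open scoped Cfsg.Agent.FastGrp

-- part: R2/H27S/Wel
section
/-!
# Weyl group elements of `E₇(2)` given by words (S5934, box S)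
-/

set_option autoImplicit false
set_option linter.unusedSectionVars false

namespace Cfsg.Agent.R2.H27S.Wel

open CoxeterSystem Cfsg.Agent.ChevalleyStructure.CoxeterGeom Cfsg.Agent.Tits.Roots Cfsg.Agent.Tits.Core
  Cfsg.Agent.Nodes.Reps Cfsg.Agent.Nodes.BNOf Cfsg.Agent.Nodes.StabComb Cfsg.Agent.Nodes.Bruhat
  Cfsg.Agent.Nodes.OppDec Cfsg.Agent.Nodes.LeviDec Cfsg.Agent.Nodes.SubComb Cfsg.Agent.Nodes.Coroot
  Cfsg.Agent.KFacts.RgdSL Cfsg.Agent.KFacts.RgdTI Cfsg.Agent.KFacts.RgdCent Cfsg.Agent.KFacts.RgdPar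
open Cfsg.Lie Cfsg.Agent.ChevalleyStructure Cfsg.Agent.ChevalleyStructure.Elts Cfsg.Agent.Nodes.RGDChev
  Cfsg.Agent.ChevalleyStructure.CoxeterGeomTypes Cfsg.Agent.ChevalleyStructure.NPerm
  Cfsg.Agent.KFacts.RgdChevCoord
open Cfsg.Agent.H904.E7Lat Cfsg.Agent.H904.E7Form Cfsg.Agent.H904.E7Main
open Cfsg.Agent.R2.H27 (G7)
open Cfsg.Agent.R2.H27S.ESeven Cfsg.Agent.R2.H27S.FTwo

/-- a word in the simple reflections acting on the roots -/
def act (L : List ℕ) (r : ℕ) : ℕ := L.foldr chevE7.reflectRoot r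

theorem act_lt {L : List ℕ} (hL : ∀ i ∈ L, i < 7) {r : ℕ} (hr : r < 126) : act L r < 126 := by
  induction L with
  | nil => exact hr
  | cons i L ih =>
    have h1 := ih fun j hj => hL j (List.mem_cons_of_mem _ hj)
    have h2 := reflectRoot_lt hp7.inList (show i < chevE7.rank from hL i List.mem_cons_self)
      (s := act L r) (by rw [nroots_eq]; exact h1)
    rw [nroots_eq] at h2
    exact h2

/-- the element of the Weyl group given by a word -/
theorem exists_word (L : List ℕ) (hL : ∀ i ∈ L, i < 7) : ∃ w : W7, ∀ r < 126, rep cs7 h7 w (rv r) = rv (act L r) := by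
  induction L with
  | nil => exact ⟨1, fun r _ => by rw [map_one, Module.End.one_apply]; rfl⟩
  | cons i L ih =>
    obtain ⟨w, hw⟩ := ih fun j hj => hL j (List.mem_cons_of_mem _ hj)
    refine ⟨cs7.simple ⟨i, hL i List.mem_cons_self⟩ * w, fun r hr => ?_⟩
    rw [rep_mul_apply, hw r hr]
    exact rep_vec hp7 cs7 ⟨i, hL i List.mem_cons_self⟩ (r := act L r)
      (by rw [nroots_eq]; exact act_lt (fun j hj => hL j (List.mem_cons_of_mem _ hj)) hr)

/-- the representative in `E₇(2)` -/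
theorem exists_rep (L : List ℕ) (hL : ∀ i ∈ L, i < 7) : ∃ (w : W7) (g : G7), Rp cs7 (R7 F2).nsys w g ∧
    (∀ r < 126, rep cs7 h7 w (rv r) = rv (act L r)) ∧ ∀ r < 126, g * xe r * g⁻¹ = xe (act L r) := by
  obtain ⟨w, hw⟩ := exists_word L hL
  obtain ⟨g, hg⟩ := exists_rp cs7 (R7 F2).nsys w
  exact ⟨w, g, hg, hw, fun r hr => xe_conj hg hr (act_lt hL hr) (hw r hr)⟩

theorem sr_eq (i : Fin 7) : (sr i : V) = rv (chevE7.simple i) := (vec_simple hp7 i).symm

theorem simple_lt7 (i : Fin 7) : chevE7.simple i < 126 := by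
  have h := simple_lt hp7.inList (show (i : ℕ) < chevE7.rank from i.2)
  rw [nroots_eq] at h
  exact h

/-- an element of the Weyl group is determined by its action on the roots -/
theorem eq_one_of_act {w : W7} (h : ∀ r < 126, rep cs7 h7 w (rv r) = rv r) : w = 1 := by
  apply rep_injective cs7 h7
  rw [map_one]
  apply LinearMap.pi_ext'
  intro i
  apply LinearMap.ext_ring
  show rep cs7 h7 w (Pi.single i 1) = Pi.single i 1
  have h1 := h _ (simple_lt7 i)
  rw [← sr_eq] at h1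
  exact h1

end Cfsg.Agent.R2.H27S.Wel
end

-- part: R2/H27S/Conj
section
/-!
# Conjugation of groups generated by root groups of `E₇(2)` (S5934, box S)
-/

set_option autoImplicit false

namespace Cfsg.Agent.R2.H27S.Conj

open Cfsg.Lie Cfsg.Agent.ChevalleyStructure
open Cfsg.Agent.R2.H27 (G7)
open Cfsg.Agent.R2.H27S.ESeven Cfsg.Agent.R2.H27S.FTwo Cfsg.Agent.R2.H27S.Wel Cfsg.Agent.R2.H27S.Tab

theorem conj_mem_of_le {Y : Type*} [Group Y] {A B : Subgroup Y} {n : Y} (h : A ≤ B.comap (MulAut.conj n).toMonoidHom)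
    {x : Y} (hx : x ∈ A) : n * x * n⁻¹ ∈ B := h hx

theorem le_comap_of {L : List ℕ} {B : Subgroup G7} {n : G7}
    (h : ∀ r ∈ L, n * xe r * n⁻¹ ∈ B) (hL : ∀ r ∈ L, r < 126) :
    GS F2 L ≤ B.comap (MulAut.conj n).toMonoidHom := by
  refine GS_le F2 fun r hr => ?_
  rw [X7_eq_zpowers (hL r hr), Subgroup.zpowers_le, Subgroup.mem_comap]
  exact h r hr

theorem xe_mem_GS {L : List ℕ} {r : ℕ} (hr : r ∈ L) (h : r < 126) : xe r ∈ GS F2 L := X_le_GS F2 hr (xe_mem h)

/-- conjugation permutes the roots -/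
theorem conj_mem_GS {L L' : List ℕ} {n : G7} {f : ℕ → ℕ} (hn : ∀ r < 126, n * xe r * n⁻¹ = xe (f r))
    (hL : ∀ r ∈ L, r < 126 ∧ f r < 126 ∧ f r ∈ L') {x : G7} (hx : x ∈ GS F2 L) : n * x * n⁻¹ ∈ GS F2 L' := by
  refine conj_mem_of_le (le_comap_of (fun r hr => ?_) fun r hr => (hL r hr).1) hx
  rw [hn r (hL r hr).1]
  exact xe_mem_GS (hL r hr).2.2 (hL r hr).2.1

/-- `⟨X, n⟩` for an involution `n` normalizing `X` -/
theorem card_sup_zpowers {Y : Type*} [Group Y] {X : Subgroup Y} {n : Y} (hn : n * n = 1) (hX : n ∉ X)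
    (hN : ∀ x ∈ X, n * x * n⁻¹ ∈ X) :
    Nat.card ↥(X ⊔ Subgroup.zpowers n) = 2 * Nat.card X ∧ X ⊔ Subgroup.zpowers n ≤ Subgroup.normalizer (X : Set Y) := by
  have hni : n⁻¹ = n := inv_eq_of_mul_eq_one_left hn
  have hN' : n ∈ Subgroup.normalizer (X : Set Y) := by
    rw [Subgroup.mem_normalizer_iff]
    intro x
    refine ⟨hN x, fun h => ?_⟩
    have h1 := hN _ h
    have h2 : n * (n * x * n⁻¹) * n⁻¹ = x := by
      rw [hni]
      calc n * (n * x * n) * n = (n * n) * x * (n * n) := by group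
        _ = x := by rw [hn]; group
    rwa [h2] at h1
  have hle : X ⊔ Subgroup.zpowers n ≤ Subgroup.normalizer (X : Set Y) :=
    sup_le Subgroup.le_normalizer (by rwa [Subgroup.zpowers_le])
  refine ⟨?_, hle⟩
  have hn' : n ∈ X ⊔ Subgroup.zpowers n := Subgroup.mem_sup_right (Subgroup.mem_zpowers n)
  have key : ∀ g ∈ X ⊔ Subgroup.zpowers n, g ∈ X ∨ g * n ∈ X := by
    intro g hg
    rw [Subgroup.sup_eq_closure_mul, ← Subgroup.closure_eq X] at hg
    rw [Subgroup.closure_eq] at hg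
    refine Subgroup.closure_induction (p := fun g _ => g ∈ X ∨ g * n ∈ X) ?_ (Or.inl (one_mem _)) ?_ ?_ hg
    · rintro _ ⟨x, hx, z, hz, rfl⟩
      obtain ⟨k, rfl⟩ := Subgroup.mem_zpowers_iff.1 hz
      rcases Int.even_or_odd k with hk | hk
      · left
        obtain ⟨m, rfl⟩ := hk
        have : n ^ (m + m) = 1 := by
          rw [← two_mul, zpow_mul]
          have h2 : n ^ (2 : ℤ) = 1 := by
            rw [zpow_ofNat, pow_two, hn]
          rw [h2, one_zpow]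
        show x * n ^ (m + m) ∈ X
        rw [this, mul_one]
        exact hx
      · right
        obtain ⟨m, rfl⟩ := hk
        have : n ^ (2 * m + 1) = n := by
          rw [zpow_add, zpow_mul, zpow_one]
          have h2 : n ^ (2 : ℤ) = 1 := by
            rw [zpow_ofNat, pow_two, hn]
          rw [h2, one_zpow, one_mul]
        show x * n ^ (2 * m + 1) * n ∈ X
        rw [this, mul_assoc, hn, mul_one]
        exact hx
    · intro a b _ _ ha hb
      rcases ha with ha | ha <;> rcases hb with hb | hb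
      · exact Or.inl (mul_mem ha hb)
      · right; rw [mul_assoc]; exact mul_mem ha hb
      · right
        have h2 : a * b * n = a * n * (n * b * n⁻¹) := by
          rw [hni]
          calc a * b * n = a * 1 * b * n := by group
            _ = a * (n * n) * b * n := by rw [hn]
            _ = _ := by group
        rw [h2]
        exact mul_mem ha (hN b hb)
      · left
        have h2 : a * b = (a * n) * (n * (b * n) * n⁻¹) := by
          rw [hni]
          calc a * b = a * 1 * b * 1 := by group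
            _ = a * (n * n) * b * (n * n) := by rw [hn]
            _ = _ := by group
        rw [h2]
        exact mul_mem ha (hN _ hb)
    · intro a _ ha
      rcases ha with ha | ha
      · exact Or.inl (inv_mem ha)
      · right
        have h2 : a⁻¹ * n = n * (a * n)⁻¹ * n⁻¹ := by
          rw [hni]
          calc a⁻¹ * n = (n * n⁻¹) * a⁻¹ * n := by group
            _ = _ := by group
        rw [h2]
        exact hN _ (inv_mem ha)
  have h1 : X.relIndex (X ⊔ Subgroup.zpowers n) = 2 := by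
    rw [Subgroup.relIndex_eq_two_iff]
    refine ⟨n, hn', fun b hb => ?_⟩
    rcases key b hb with h2 | h2
    · refine Or.inr ⟨h2, fun h3 => hX ?_⟩
      have h4 := mul_mem (inv_mem h2) h3
      rwa [inv_mul_cancel_left] at h4
    · refine Or.inl ⟨h2, fun h3 => hX ?_⟩
      have h4 := mul_mem (inv_mem h3) h2
      rwa [inv_mul_cancel_left] at h4
  have h2 := Subgroup.relIndex_mul_relIndex (⊥ : Subgroup Y) X (X ⊔ Subgroup.zpowers n) bot_le le_sup_left
  rw [Subgroup.relIndex_bot_left, Subgroup.relIndex_bot_left, h1] at h2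
  rw [← h2, mul_comm]

end Cfsg.Agent.R2.H27S.Conj
end

-- part: R2/H27S/Cart
section
/-!
# Cartan matrices of the subsystems (S5934, box S)
-/

set_option autoImplicit false
set_option linter.unusedSectionVars false
set_option linter.dupNamespace false

namespace Cfsg.Agent.R2.H27S.Cart

open CoxeterSystem Cfsg.Agent.ChevalleyStructure.CoxeterGeom Cfsg.Agent.Tits.Roots Cfsg.Agent.Tits.Core
open Cfsg.Lie Cfsg.Agent.R2.H27S.Tab Cfsg.Agent.R2.H27S.ESeven Cfsg.Agent.H35.Poin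

universe u

/-- the Coxeter matrix of a simply laced Cartan matrix -/
def slM {l : ℕ} (A' : Fin l → Fin l → ℤ) (hs : ∀ i j, A' i j = A' j i) : CoxeterMatrix (Fin l) where
  M := Matrix.of fun i j => if i = j then 1 else if A' i j = 0 then 2 else 3
  isSymm := by
    ext i j
    simp only [Matrix.transpose_apply, Matrix.of_apply, eq_comm (a := i), hs i j]
  diagonal i := by simp
  off_diagonal i j hij := by
    simp only [Matrix.of_apply, if_neg hij]
    split_ifs <;> norm_num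

theorem slM_apply {l : ℕ} (A' : Fin l → Fin l → ℤ) (hs : ∀ i j, A' i j = A' j i) (i j : Fin l) :
    slM A' hs i j = if i = j then 1 else if A' i j = 0 then 2 else 3 := rfl

theorem slCartan {l : ℕ} (A' : Fin l → Fin l → ℤ) (hs : ∀ i j, A' i j = A' j i) (hd : ∀ i, A' i i = 2)
    (hv : ∀ i j, i ≠ j → A' i j = 0 ∨ A' i j = -1) : IsCartan (slM A' hs) A' where
  diag := hd
  rel i j hij := by
    rw [slM_apply, if_neg hij, ← hs i j]
    rcases hv i j hij with h | h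
    · left
      rw [if_pos h]
      exact ⟨rfl, h, h⟩
    · right; left
      rw [if_neg (by rw [h]; norm_num)]
      exact ⟨rfl, h, h⟩

theorem conn_of_fin {l : ℕ} {M' : CoxeterMatrix (Fin l)}
    (h : ∀ s : Finset (Fin l), s.Nonempty → s ≠ Finset.univ → ∃ a ∈ s, ∃ b, b ∉ s ∧ M' a b ≠ 2) :
    ∀ J : Set (Fin l), J.Nonempty → J ≠ Set.univ → ∃ a ∈ J, ∃ b, b ∉ J ∧ M' a b ≠ 2 := by
  classical
  intro J h1 h2
  obtain ⟨a, ha, b, hb, hab⟩ := h (Finset.univ.filter (· ∈ J)) (by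
    obtain ⟨x, hx⟩ := h1
    exact ⟨x, by simpa using hx⟩) (by
    intro h3
    apply h2
    ext x
    have : x ∈ Finset.univ.filter (· ∈ J) := by rw [h3]; exact Finset.mem_univ x
    simpa using this)
  exact ⟨a, by simpa using ha, b, by simpa using hb, hab⟩

theorem conn_of_cartan {l : ℕ} {M' : CoxeterMatrix (Fin l)} {A' : Fin l → Fin l → ℤ} (h' : IsCartan M' A')
    (h : ∀ s : Finset (Fin l), s.Nonempty → s ≠ Finset.univ → ∃ a ∈ s, ∃ b, b ∉ s ∧ A' a b ≠ 0) :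
    ∀ J : Set (Fin l), J.Nonempty → J ≠ Set.univ → ∃ a ∈ J, ∃ b, b ∉ J ∧ M' a b ≠ 2 := by
  refine conn_of_fin fun s h1 h2 => ?_
  obtain ⟨a, ha, b, hb, hab⟩ := h s h1 h2
  refine ⟨a, ha, b, hb, fun h3 => hab ?_⟩
  rcases h'.rel a b (fun e => hb (e ▸ ha)) with h4 | h4 | h4 | h4
  · exact h4.2.1
  · omega
  · omega
  · omega

/-- the Cartan matrix of type `A_l` -/
def cA (l : ℕ) (i j : Fin l) : ℤ := if i = j then 2 else if (i : ℕ) + 1 = j ∨ (j : ℕ) + 1 = i then -1 else 0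

/-- the Cartan matrix of type `A_1^l` -/
def cO (l : ℕ) (i j : Fin l) : ℤ := if i = j then 2 else 0

theorem cA_symm (l : ℕ) (i j : Fin l) : cA l i j = cA l j i := by
  unfold cA
  by_cases h : i = j
  · rw [if_pos h, if_pos h.symm]
  · rw [if_neg h, if_neg (Ne.symm h)]
    simp only [or_comm]

theorem cO_symm (l : ℕ) (i j : Fin l) : cO l i j = cO l j i := by
  unfold cO
  by_cases h : i = j
  · rw [if_pos h, if_pos h.symm]
  · rw [if_neg h, if_neg (Ne.symm h)]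

theorem isCartan_A (l : ℕ) : IsCartan (slM (cA l) (cA_symm l)) (cA l) :=
  slCartan _ _ (fun i => by simp [cA]) fun i j hij => by
    unfold cA
    rw [if_neg hij]
    split_ifs <;> simp

theorem isCartan_O (l : ℕ) : IsCartan (slM (cO l) (cO_symm l)) (cO l) :=
  slCartan _ _ (fun i => by simp [cO]) fun i j hij => by
    unfold cO
    rw [if_neg hij]
    simp

/-! ### Orders -/

section Ord

variable (K : Type u) [Field K] [Finite K] [CharP K 2]
variable {l : ℕ} {A' : Fin l → Fin l → ℤ} {b : Fin l → ℕ} {pc : List (ℕ × (Fin l → ℤ))}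
  {Fl : List ((Fin 7 → ℤ) × ℤ)} {Li : Fin l → Fin 7 → ℤ} {D : ℤ} (t : Tab A' b pc Fl Li D)
  {W' : Type*} [Group W'] {M' : CoxeterMatrix (Fin l)} (cs' : CoxeterSystem M' W') (h' : IsCartan M' A')

include t cs' h'

/-- type `A_l` -/
theorem card_chain [Finite W'] (hl : 0 < l) (hA : ∀ i j : Fin l, A' i j =
      if i = j then 2 else if (i : ℕ) + 1 = j ∨ (j : ℕ) + 1 = i then -1 else 0) :
    Nat.card ↥(T7 K ⊔ GS K (rts pc)) = Nat.card (T7 K) * Nat.card K ^ pc.length *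
      ∏ i ∈ Finset.range l, ∑ t ∈ Finset.range (i + 2), Nat.card K ^ t := by
  let c : ℕ → Fin l := fun t => if h : t < l then ⟨t, h⟩ else ⟨0, hl⟩
  have hc : ∀ t, t < l → (c t : ℕ) = t := fun t ht => by simp [c, ht]
  have h1 := card_A K t cs' h' [(c, l)] (by
    intro k hk
    have hk0 : k = 0 := by simpa using hk
    subst hk0
    have e : (Set.univ \ {j | ∃ e ∈ List.take 0 [(c, l)], ∃ t < e.2, e.1 t = j} : Set (Fin l)) = Set.univ := by
      ext j; simp
    rw [e]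
    refine ⟨fun t _ => Set.mem_univ _, ?_, ?_, ?_, ?_⟩
    · intro t ht
      have ht' : t + 1 < l := ht
      have e1 := hc t (by omega)
      have e2 := hc (t + 1) ht'
      show A' (c t) (c (t + 1)) = -1 ∧ A' (c (t + 1)) (c t) = -1
      rw [hA, hA, if_neg (by intro h; have := congrArg Fin.val h; omega), if_pos (by omega),
        if_neg (by intro h; have := congrArg Fin.val h; omega), if_pos (by omega)]
      exact ⟨rfl, rfl⟩
    · intro s t hst ht
      have ht' : t < l := ht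
      have e1 := hc s (by omega)
      have e2 := hc t ht'
      show A' (c s) (c t) = 0 ∧ A' (c t) (c s) = 0
      rw [hA, hA, if_neg (by intro h; have := congrArg Fin.val h; omega), if_neg (by omega),
        if_neg (by intro h; have := congrArg Fin.val h; omega), if_neg (by omega)]
      exact ⟨rfl, rfl⟩
    · intro j _ hj t ht
      exact absurd (Fin.ext (hc j j.2)) (hj j j.2)
    · intro s hs t ht e
      have e1 := hc s hs
      have e2 := hc t ht
      have e3 : (c s : ℕ) = c t := congrArg Fin.val e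
      omega) (by
    intro j
    exact ⟨_, List.mem_singleton.2 rfl, j, j.2, Fin.ext (hc j j.2)⟩)
  rw [h1]
  simp

/-- type `A_1^l` -/
theorem card_orth [Finite W'] (hA : ∀ i j : Fin l, i ≠ j → A' i j = 0) :
    Nat.card ↥(T7 K ⊔ GS K (rts pc)) = Nat.card (T7 K) * Nat.card K ^ pc.length * (1 + Nat.card K) ^ l := by
  have h1 := card_A K t cs' h' ((List.finRange l).map fun i => ((fun _ => i), 1)) (by
    intro k hk
    rw [List.length_map, List.length_finRange] at hk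
    refine ⟨?_, ?_, ?_, ?_, ?_⟩
    · intro t _
      refine ⟨Set.mem_univ _, ?_⟩
      rintro ⟨e, he, s, hs, h2⟩
      rw [← List.map_take, List.mem_map] at he
      obtain ⟨i, hi, rfl⟩ := he
      rw [List.mem_take_iff_getElem] at hi
      obtain ⟨m, hm, e2⟩ := hi
      have h3 : i = ⟨k, hk⟩ := by
        have h4 : i = _ := h2
        rw [h4, List.getElem_map, List.getElem_finRange]
        rfl
      rw [h3, List.getElem_finRange] at e2
      have := congrArg Fin.val e2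
      simp only [Fin.cast_mk] at this
      omega
    · intro t ht
      rw [List.getElem_map] at ht
      simp only at ht
      omega
    · intro s t hst ht
      rw [List.getElem_map] at ht
      simp only at ht
      omega
    · intro j _ hj t ht
      refine hA _ _ fun h2 => ?_
      exact hj t ht h2
    · intro s hs t ht _
      rw [List.getElem_map] at hs ht
      simp only at hs ht
      omega) (by
    intro j
    exact ⟨((fun _ => j), 1), List.mem_map.2 ⟨j, List.mem_finRange j, rfl⟩, 0, one_pos, rfl⟩)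
  rw [h1, List.map_map]
  congr 1
  rw [List.map_congr_left (g := fun _ => 1 + Nat.card K) (by
    intro i _
    simp [Finset.sum_range_succ]), List.map_const', List.prod_replicate, List.length_finRange]

end Ord

end Cfsg.Agent.R2.H27S.Cart
end

private theorem dce_e521319fefc5 : _root_.True := by
  try have : _root_.True := by simp only [_root_.Cfsg.Agent.R2.H27S.Cart.cA.eq_1]
  try have : _root_.True := by simp only [_root_.Cfsg.Agent.R2.H27S.Cart.cO.eq_1]
  exact _root_.True.intro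
end

-- part: R2/H27S/BoxEight
section
prune_inst 0x64000a0448220000000000008000200006000092006008000040004408086740000089003c3000020020a2840038004001100040020000000000000001190080100802029008a000400006000000000000000000020000000000000000000000000000000
set_option linter.all false
open scoped Cfsg.Agent.FastGrp

-- part: R2/H27S/TabDFourB
section
/-!
# Table `DFourB` (S5934, box S)
-/

set_option autoImplicit false
set_option maxRecDepth 20000

namespace Cfsg.Agent.R2.H27S.TabDFourB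

open Cfsg.Lie Cfsg.Agent.R2.H27S.Tab Cfsg.Agent.R2.H27S.ESeven Cfsg.Agent.R2.H27S.Cart

/-- base -/
def bDFourB : Fin 4 → ℕ := ![73, 93, 87, 92]

/-- positive roots -/
def pcDFourB : List (ℕ × (Fin 4 → ℤ)) := [(73, ![1, 0, 0, 0]),
  (87, ![0, 0, 1, 0]),
  (92, ![0, 0, 0, 1]),
  (93, ![0, 1, 0, 0]),
  (94, ![1, 1, 0, 0]),
  (103, ![0, 1, 1, 0]),
  (108, ![0, 1, 0, 1]),
  (109, ![1, 1, 1, 0]),
  (114, ![1, 1, 0, 1]),
  (123, ![0, 1, 1, 1]),
  (124, ![1, 1, 1, 1]),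
  (125, ![1, 2, 1, 1])]

/-- functionals -/
def flDFourB : List ((Fin 7 → ℤ) × ℤ) := [(![0, -2, 0, 0, 2, -1, 0], 0), (![0, -2, 0, 1, 0, -1, 2], 0)]

/-- left inverse -/
def liDFourB : Fin 4 → Fin 7 → ℤ := ![![0, -6, 35, -12, -5, 2, 1], ![35, 0, 0, 0, 0, 0, 0], ![0, 7, 0, 14, 0, -14, -7], ![0, -1, 0, -2, 5, 12, 6]]

theorem tab : Tab (Cfsg.Agent.Nodes.TypeD.A 2) bDFourB pcDFourB flDFourB liDFourB 35 where
  blt := by decide +kernel
  car := by (open scoped Cfsg.Agent.ChevFast.Lin in decide +kernel)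
  D0 := by decide +kernel
  linv := by decide +kernel
  pc1 := by decide +kernel
  fl := by decide +kernel
  com := by (rewrite [Cfsg.Agent.ChevFast.E7.neg]; decide +kernel)
  nd := by decide +kernel

end Cfsg.Agent.R2.H27S.TabDFourB
end

-- part: R2/H27S/TabTOneB
section
/-!
# Table `TOneB` (S5934, box S)
-/

set_option autoImplicit false
set_option maxRecDepth 20000

namespace Cfsg.Agent.R2.H27S.TabTOneB

open Cfsg.Lie Cfsg.Agent.R2.H27S.Tab Cfsg.Agent.R2.H27S.ESeven Cfsg.Agent.R2.H27S.Cart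

/-- base -/
def bTOneB : Fin 3 → ℕ := ![78, 66, 63]

/-- positive roots -/
def pcTOneB : List (ℕ × (Fin 3 → ℤ)) := [(63, ![0, 0, 1]),
  (66, ![0, 1, 0]),
  (78, ![1, 0, 0])]

/-- functionals -/
def flTOneB : List ((Fin 7 → ℤ) × ℤ) := [(![-2, 0, -2, -2, 0, -2, 0], 0)]

/-- left inverse -/
def liTOneB : Fin 3 → Fin 7 → ℤ := ![![0, 1, 0, 0, 0, 0, 0], ![0, 0, 0, 0, 1, 0, 0], ![0, 0, 0, 0, 0, 0, 1]]

theorem tab : Tab (cO 3) bTOneB pcTOneB flTOneB liTOneB 1 where
  blt := by decide +kernel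
  car := by decide +kernel
  D0 := by decide +kernel
  linv := by decide +kernel
  pc1 := by decide +kernel
  fl := by decide +kernel
  com := by decide +kernel
  nd := by decide +kernel

end Cfsg.Agent.R2.H27S.TabTOneB
end

-- part: R2/H27S/FFour
section
/-!
# `E₇(2)` in `E₇(4)`: perfect subgroups centralising three commuting elements of order 3 (S5934, box S8)
-/

set_option autoImplicit false
set_option linter.unusedSectionVars false

namespace Cfsg.Agent.R2.H27S.FFour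

open CoxeterSystem Cfsg.Agent.ChevalleyStructure.CoxeterGeom Cfsg.Agent.Tits.Roots Cfsg.Agent.Tits.Core
  Cfsg.Agent.Nodes.Reps Cfsg.Agent.Nodes.BNOf Cfsg.Agent.Nodes.StabComb Cfsg.Agent.Nodes.Bruhat
  Cfsg.Agent.Nodes.OppDec Cfsg.Agent.Nodes.LeviDec Cfsg.Agent.Nodes.SubComb Cfsg.Agent.Nodes.Coroot
open Cfsg.Lie Cfsg.Agent.ChevalleyStructure Cfsg.Agent.ChevalleyStructure.Elts Cfsg.Agent.Nodes.RGDChev
  Cfsg.Agent.ChevalleyStructure.CoxeterGeomTypes Cfsg.Agent.ChevalleyStructure.NPerm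
  Cfsg.Agent.KFacts.RgdChevCoord
open Cfsg.Agent.H904.E7Lat Cfsg.Agent.H904.E7Form Cfsg.Agent.H904.E7Main
open Cfsg.Agent.ChevalleyStructure.SL2Hom (up lo)
open Cfsg.Agent.Nodes.RGDFoldSL
open Cfsg.Agent.R2.H27 (G7)
open Cfsg.Agent.R2.H27S.ESeven Cfsg.Agent.R2.H27S.FTwo Cfsg.Agent.R2.H27S.Wel Cfsg.Agent.R2.H27S.Tab
  Cfsg.Agent.H129.FE
open Cfsg.Agent.GpExc.Field (emb coe_emb emb_injective glMap_xG)

/-! ### the field with four elements -/

theorem exists_omega {K : Type*} [Field K] [Fintype K] (hK : Fintype.card K = 4) :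
    ∃ ω : K, ω ≠ 0 ∧ ω ≠ 1 ∧ ω ^ 3 = 1 ∧ ω ^ 2 + ω + 1 = 0 := by
  have : Fact (Nat.Prime 3) := ⟨by norm_num⟩
  have h1 : 3 ∣ Nat.card Kˣ := by
    rw [Nat.card_units, Nat.card_eq_fintype_card, hK]
  obtain ⟨u, hu⟩ := exists_prime_orderOf_dvd_card' 3 h1
  have h2 : (u : K) ^ 3 = 1 := by
    rw [← Units.val_pow_eq_pow_val, ← hu, pow_orderOf_eq_one, Units.val_one]
  have h3 : (u : K) ≠ 1 := by
    intro h
    have : u = 1 := Units.ext h
    rw [this, orderOf_one] at hu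
    omega
  refine ⟨u, u.ne_zero, h3, h2, ?_⟩
  have h4 : ((u : K) - 1) * ((u : K) ^ 2 + u + 1) = 0 := by
    have : ((u : K) - 1) * ((u : K) ^ 2 + u + 1) = (u : K) ^ 3 - 1 := by ring
    rw [this, h2, sub_self]
  rcases mul_eq_zero.1 h4 with h5 | h5
  · exact absurd (sub_eq_zero.1 h5) h3
  · exact h5

section SL

open Matrix

variable {K : Type*} [Field K] [CharP K 2] {ω : K}

theorem two0 : (2 : K) = 0 := CharTwo.two_eq_zero

/-- the matrix diagonalising `(0 1; 1 1)` -/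
def gS (h : ω ^ 2 + ω + 1 = 0) : Matrix.SpecialLinearGroup (Fin 2) K :=
  ⟨!![1, ω; 1, ω ^ 2], by
    rw [Matrix.det_fin_two_of]
    have : (1 : K) * ω ^ 2 - ω * 1 = (ω ^ 2 + ω + 1) - 2 * ω - 1 := by ring
    rw [this, h, two0]
    have h1 : (-1 : K) = 1 := by
      have h2 : (1 : K) + 1 = 0 := by
        have := two0 (K := K)
        rw [← this]; norm_num
      exact (eq_neg_of_add_eq_zero_left h2).symm
    rw [zero_mul, sub_zero, zero_sub, h1]⟩

theorem gS_conj (h0 : ω ≠ 0) (h : ω ^ 2 + ω + 1 = 0) : gS h * (up 1 * lo 1) * (gS h)⁻¹ = hS ω := by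
  rw [mul_inv_eq_iff_eq_mul]
  apply Subtype.ext
  rw [Matrix.SpecialLinearGroup.coe_mul, Matrix.SpecialLinearGroup.coe_mul, Matrix.SpecialLinearGroup.coe_mul,
    coe_hS h0]
  show !![1, ω; 1, ω ^ 2] * (!![1, 1; 0, 1] * !![1, 0; 1, 1]) = !![ω, 0; 0, ω⁻¹] * !![1, ω; 1, ω ^ 2]
  have h2 : (1 : K) + 1 = 0 := by
    have := two0 (K := K)
    rw [← this]; norm_num
  have h3 : ω⁻¹ = ω ^ 2 := by
    rw [inv_eq_iff_eq_inv, eq_comm, inv_eq_iff_eq_inv]
    field_simp
    have : ω ^ 3 - 1 = (ω - 1) * (ω ^ 2 + ω + 1) := by ring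
    rw [h, mul_zero] at this
    linear_combination this
  have h4 : ω ^ 3 = 1 := by
    have : ω ^ 3 - 1 = (ω - 1) * (ω ^ 2 + ω + 1) := by ring
    rw [h, mul_zero] at this
    linear_combination this
  rw [h3]
  ext i j
  fin_cases i <;> fin_cases j <;> simp [Matrix.mul_apply, Fin.sum_univ_two]
  · linear_combination h2
  · linear_combination h - h2 * ω ^ 2
  · linear_combination h2
  · linear_combination h - h2 * ω - ω * h4

end SL

section Grp

variable {K : Type} [Field K] [Fintype K] [CharP K 2] (hK : Fintype.card K = 4)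

/-- `E₇(4)` -/
abbrev GK (K : Type) [Field K] : Type := ↥(chevE7.group K)

/-- the embedding -/
noncomputable def ε (K : Type) [Field K] [CharP K 2] : G7 →* GK K := emb hp7.inList (ZMod.castHom (dvd_refl 2) K)

theorem ε_inj : Function.Injective (ε K) := emb_injective hp7.inList _

theorem ε_xe (r : ℕ) : ε K (xe r) = xg K hp7.inList r 1 := by
  apply Subtype.ext
  show Cfsg.Agent.GpExc.Field.glMap chevE7 (ZMod.castHom (dvd_refl 2) K) (xG hp7.inList r 1) = xG hp7.inList r 1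
  rw [glMap_xG, map_one]

/-- the three orthogonal nodes -/
def nd : Fin 3 → Fin 7 := ![1, 4, 6]

/-- the three orthogonal roots -/
def rr : Fin 3 → ℕ := ![78, 66, 63]

theorem rr_eq (i : Fin 3) : rr i = chevE7.simple (nd i) := by
  revert i; decide +kernel

theorem rr_lt (i : Fin 3) : rr i < 126 := by
  revert i; decide

/-- the element of `⟨X_r, X_{-r}⟩` -/
noncomputable def gk {ω : K} (h : ω ^ 2 + ω + 1 = 0) (i : Fin 3) : GK K :=
  ⟨psi hp7.inList K (rr i) (gS h), by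
    refine (sup_le ?_ ?_ : chevE7.rootSubgroup K (rr i) ⊔ chevE7.rootSubgroup K (chevE7.neg (rr i)) ≤ chevE7.group K)
      (psi_mem hp7.inList (by rw [nroots_eq]; exact rr_lt i) _)
    · intro x hx
      obtain ⟨t, rfl⟩ := (mem_rootSubgroup_iff hp7.inList _ x).1 hx
      exact xG_mem_group hp7.inList _ t
    · intro x hx
      obtain ⟨t, rfl⟩ := (mem_rootSubgroup_iff hp7.inList _ x).1 hx
      exact xG_mem_group hp7.inList _ t⟩

theorem gk_conj {ω : K} (h0 : ω ≠ 0) (h : ω ^ 2 + ω + 1 = 0) (i : Fin 3) :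
    gk h i * ε K (xe (rr i) * xe (chevE7.neg (rr i))) * (gk h i)⁻¹ = hc hp7 (nd i) ω := by
  rw [map_mul, ε_xe, ε_xe]
  apply Subtype.ext
  show psi hp7.inList K (rr i) (gS h) * (xG hp7.inList (rr i) 1 * xG hp7.inList (chevE7.neg (rr i)) 1) *
    (psi hp7.inList K (rr i) (gS h))⁻¹ = hG hp7.inList (chevE7.simple (nd i)) ω
  have hr : rr i < chevE7.nroots := by rw [nroots_eq]; exact rr_lt i
  rw [← psi_up hp7.inList hr, ← psi_lo hp7.inList hr, ← map_mul, ← map_mul, ← map_inv, ← map_mul, gS_conj h0 h,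
    psi_hS hp7.inList hr, rr_eq]

/-- the two root groups -/
def pm (i : Fin 3) : List ℕ := [rr i, chevE7.neg (rr i)]

theorem pm_lt (i : Fin 3) : ∀ r ∈ pm i, r < 126 := by
  revert i; decide +kernel

theorem xg_mem_GS {L : List ℕ} {r : ℕ} (hr : r ∈ L) (h : r < 126) (t : K) : xg K hp7.inList r t ∈ GS K L := by
  refine X_le_GS K hr ?_
  show xG hp7.inList r t ∈ XV chevE7 7 K (vec chevE7 7 r)
  rw [XV_vec hp7 K (by rw [nroots_eq]; exact h)]
  exact xG_mem_rootSubgroup hp7.inList r t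

theorem gk_mem {ω : K} (h : ω ^ 2 + ω + 1 = 0) (i : Fin 3) : gk h i ∈ GS K (pm i) := by
  have hr : rr i < chevE7.nroots := by rw [nroots_eq]; exact rr_lt i
  have h1 := (sup_le ?_ ?_ : chevE7.rootSubgroup K (rr i) ⊔ chevE7.rootSubgroup K (chevE7.neg (rr i)) ≤
    (GS K (pm i)).map (chevE7.group K).subtype) (psi_mem hp7.inList hr (gS h))
  · obtain ⟨y, hy, hyx⟩ := h1
    have h2 : y = gk h i := Subtype.ext hyx
    rwa [h2] at hy
  · intro x hx
    obtain ⟨t, rfl⟩ := (mem_rootSubgroup_iff hp7.inList _ x).1 hx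
    exact ⟨xg K hp7.inList (rr i) t, xg_mem_GS (by simp [pm]) (rr_lt i) t, rfl⟩
  · intro x hx
    obtain ⟨t, rfl⟩ := (mem_rootSubgroup_iff hp7.inList _ x).1 hx
    exact ⟨xg K hp7.inList (chevE7.neg (rr i)) t, xg_mem_GS (by simp [pm]) (pm_lt i _ (by simp [pm])) t, rfl⟩

/-- the elements of order three -/
def ce (i : Fin 3) : G7 := xe (rr i) * xe (chevE7.neg (rr i))

theorem ε_ce_mem (i : Fin 3) : ε K (ce i) ∈ GS K (pm i) := by
  rw [ce, map_mul, ε_xe, ε_xe]
  exact mul_mem (xg_mem_GS (by simp [pm]) (rr_lt i) 1) (xg_mem_GS (by simp [pm]) (pm_lt i _ (by simp [pm])) 1)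

theorem hc_mem_GS {ω : K} (h0 : ω ≠ 0) (h : ω ^ 2 + ω + 1 = 0) (i : Fin 3) : hc hp7 (nd i) ω ∈ GS K (pm i) := by
  rw [← gk_conj h0 h i]
  exact mul_mem (mul_mem (gk_mem h i) (ε_ce_mem i)) (inv_mem (gk_mem h i))

theorem orth_pm : ∀ i j : Fin 3, i ≠ j → ∀ r ∈ pm j, ∀ s ∈ pm i, bf (rv r) (rv s) = 0 := by decide +kernel

theorem pm_comm {i j : Fin 3} (hij : i ≠ j) {a b : GK K} (ha : a ∈ GS K (pm i)) (hb : b ∈ GS K (pm j)) :
    a * b = b * a := by
  have h1 := GS_le_centralizer K (pm_lt i) (pm_lt j) (orth_pm i j hij) hb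
  exact Subgroup.mem_centralizer_iff.1 h1 a ha

theorem triple {G : Type*} [Group G] {g c h : Fin 3 → G} (h1 : ∀ i, g i * c i * (g i)⁻¹ = h i)
    (h2 : ∀ i j, i ≠ j → g i * c j = c j * g i) (h3 : ∀ i j, i ≠ j → g i * h j = h j * g i) (i : Fin 3) :
    (g 0 * g 1 * g 2) * c i * (g 0 * g 1 * g 2)⁻¹ = h i := by
  have e2 : ∀ i j, i ≠ j → g i * c j * (g i)⁻¹ = c j := fun i j hij => by rw [h2 i j hij, mul_inv_cancel_right]
  have e3 : ∀ i j, i ≠ j → g i * h j * (g i)⁻¹ = h j := fun i j hij => by rw [h3 i j hij, mul_inv_cancel_right]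
  have h4 : (g 0 * g 1 * g 2) * c i * (g 0 * g 1 * g 2)⁻¹ =
    g 0 * (g 1 * (g 2 * c i * (g 2)⁻¹) * (g 1)⁻¹) * (g 0)⁻¹ := by group
  rw [h4]
  fin_cases i
  · show g 0 * (g 1 * (g 2 * c 0 * (g 2)⁻¹) * (g 1)⁻¹) * (g 0)⁻¹ = h 0
    rw [e2 2 0 (by decide), e2 1 0 (by decide), h1]
  · show g 0 * (g 1 * (g 2 * c 1 * (g 2)⁻¹) * (g 1)⁻¹) * (g 0)⁻¹ = h 1
    rw [e2 2 1 (by decide), h1, e3 0 1 (by decide)]
  · show g 0 * (g 1 * (g 2 * c 2 * (g 2)⁻¹) * (g 1)⁻¹) * (g 0)⁻¹ = h 2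
    rw [h1, e3 1 2 (by decide), e3 0 2 (by decide)]

/-- the roots orthogonal to `rr i` -/
def perp (i : Fin 3) : List ℕ := (List.range 126).filter fun r => decide (bf (rv r) (rv (rr i)) = 0)

theorem mem_perp {i : Fin 3} {r : ℕ} : r ∈ perp i ↔ r < 126 ∧ bf (rv r) (rv (rr i)) = 0 := by
  simp [perp]

theorem cartan_val : ∀ i : Fin 3, ∀ r < 126, bf (rv r) (rv (rr i)) = 0 ∨ chevE7.cartan (nd i) r = 1 ∨
    chevE7.cartan (nd i) r = -1 ∨ chevE7.cartan (nd i) r = 2 ∨ chevE7.cartan (nd i) r = -2 := by (rewrite [Cfsg.Agent.ChevFast.E7.cartan]; open scoped Cfsg.Agent.ChevFast.Lin in decide +kernel)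

/-- **the perfect subgroups of the centraliser of a toral element** -/
theorem perfect_le_perp {ω : K} (h0 : ω ≠ 0) (h1 : ω ≠ 1) (h3 : ω ^ 3 = 1) (i : Fin 3) {J : Subgroup (GK K)}
    (hJC : J ≤ Subgroup.centralizer {hc hp7 (nd i) ω}) (hJ : ⁅J, J⁆ = J) : J ≤ GS K (perp i) := by
  have hω2 : ω ^ 2 ≠ 1 := by
    intro h2
    apply h1
    rw [pow_succ, h2, one_mul] at h3
    exact h3
  have hx : (hc hp7 (nd i) ω : GK K) ^ 3 = 1 := by
    apply Subtype.ext
    show (hG hp7.inList (chevE7.simple (nd i)) ω) ^ 3 = 1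
    have hr : rr i < chevE7.nroots := by rw [nroots_eq]; exact rr_lt i
    rw [← rr_eq, ← psi_hS hp7.inList hr, ← map_pow]
    have h4 : (hS ω : Matrix.SpecialLinearGroup (Fin 2) K) ^ 3 = 1 := by
      apply Subtype.ext
      rw [Matrix.SpecialLinearGroup.coe_pow, coe_hS h0, Matrix.SpecialLinearGroup.coe_one]
      have h5 : (ω⁻¹) ^ 3 = 1 := by rw [inv_pow, h3, inv_one]
      have h6 : (!![ω, 0; 0, ω⁻¹] : Matrix (Fin 2) (Fin 2) K) = Matrix.diagonal ![ω, ω⁻¹] := by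
        ext a b
        fin_cases a <;> fin_cases b <;> rfl
      rw [h6, Matrix.diagonal_pow, ← Matrix.diagonal_one]
      congr 1
      funext a
      fin_cases a
      · exact h3
      · exact h5
    rw [h4, map_one]
  have : Fact (Nat.Prime 2) := ⟨Nat.prime_two⟩
  refine (Cfsg.Agent.BpExc.TorChev.perfect_le (K := K) hp7 cs7 2 (hc_mem hp7 (nd i) h0) Nat.prime_three hx hJC hJ).trans ?_
  refine RGD.Sup_le ?_
  rintro a ⟨ha, h5⟩
  obtain ⟨r, hr, rfl⟩ := (isRoot_iff7 a).1 ha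
  rw [ch_hc hp7 (nd i) h0 (by rw [nroots_eq]; exact hr)] at h5
  refine X_le_GS K (mem_perp.2 ⟨hr, ?_⟩)
  rcases cartan_val i r hr with h6 | h6 | h6 | h6 | h6
  · exact h6
  · rw [h6, zpow_one] at h5; exact absurd h5 h1
  · rw [h6, zpow_neg, zpow_one, inv_eq_one] at h5; exact absurd h5 h1
  · rw [h6, zpow_ofNat] at h5; exact absurd h5 hω2
  · rw [h6, zpow_neg, inv_eq_one, zpow_ofNat] at h5; exact absurd h5 hω2

theorem orth_perp : ∀ i : Fin 3, ∀ r ∈ perp i, ∀ s ∈ pm i, bf (rv r) (rv s) = 0 := by (delta Cfsg.Agent.R2.H27S.FFour.pm; rewrite [Cfsg.Agent.ChevFast.E7.neg]; decide +kernel)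

/-- the six roots -/
def six : List ℕ := [78, 66, 63, 47, 59, 62]

theorem six_pm : ∀ s ∈ six, ∃ i : Fin 3, s ∈ pm i := by decide +kernel

noncomputable instance : Fintype (Cfsg.Agent.Nodes.TypeD.M 2).Group := by
  have := Cfsg.Agent.Nodes.TypeD.finite_W (n := 2) (Cfsg.Agent.Nodes.TypeD.M 2).toCoxeterSystem
  exact Fintype.ofFinite _

include hK in
theorem card_T7 : Nat.card (T7 K) = 3 ^ 7 := by
  have h2 := Cfsg.Agent.S1035.result (F := K) hK (chevE7, Nat.gcd 2 (4 - 1)) (by simp)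
  have h3 : Nat.gcd 2 (4 - 1) * Nat.card (chevE7.diagonalSubgroup K) = (4 - 1) ^ chevE7.rank := h2
  have h4 : (4 - 1 : ℕ) ^ chevE7.rank = 3 ^ 7 := by decide +kernel
  have h5 : Nat.gcd 2 (4 - 1) = 1 := by decide
  rw [h5, one_mul] at h3
  have h6 : Nat.card (T7 K) = Nat.card (chevE7.diagonalSubgroup K) :=
    Nat.card_congr (Subgroup.subgroupOfEquivOfLe (diagonal_le_group hp7.inList K)).toEquiv
  exact h6.trans (h3.trans h4)

include hK in
theorem card_four : Nat.card ↥(T7 K ⊔ GS K (rts TabDFourB.pcDFourB)) =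
    3 ^ 7 * 4 ^ 12 * Cfsg.Agent.H383.Cube.ND 4 4 := by
  have h1 := card_sum K TabDFourB.tab (Cfsg.Agent.Nodes.TypeD.M 2).toCoxeterSystem
    (Cfsg.Agent.Nodes.TypeD.isCartan 2)
  have h2 : Nat.card K = 4 := by rw [Nat.card_eq_fintype_card, hK]
  have h3 : TabDFourB.pcDFourB.length = 12 := by decide +kernel
  rw [Cfsg.Agent.H475.CoxD.sum_D, h2, card_T7 hK, h3] at h1
  exact h1

theorem not_dvd : ¬ 11 ∣ 3 ^ 7 * 4 ^ 12 * Cfsg.Agent.H383.Cube.ND 4 4 := by decide +kernel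

include hK in
/-- **perfect subgroups of `E₇(2)` centralising the three elements** -/
theorem perfect_main {J : Subgroup G7} (hJ : ⁅J, J⁆ = J) (hJc : J ≤ Subgroup.centralizer (Set.range ce)) :
    ¬ 11 ∣ Nat.card ↥J := by
  obtain ⟨ω, h0, h1, h3, h⟩ := exists_omega hK
  set γ : GK K := gk h 0 * gk h 1 * gk h 2 with hγ
  have key : ∀ i, γ * ε K (ce i) * γ⁻¹ = hc hp7 (nd i) ω := fun i =>
    triple (g := gk h) (c := fun i => ε K (ce i)) (h := fun i => hc hp7 (nd i) ω) (fun i => gk_conj h0 h i)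
      (fun i j hij => pm_comm hij (gk_mem h i) (ε_ce_mem j)) (fun i j hij => pm_comm hij (gk_mem h i) (hc_mem_GS h0 h j)) i
  set φ : G7 →* GK K := (MulAut.conj γ).toMonoidHom.comp (ε K) with hφ
  have hφi : Function.Injective φ := (MulAut.conj γ).injective.comp ε_inj
  have hJ' : ⁅J.map φ, J.map φ⁆ = J.map φ := by rw [← Subgroup.map_commutator, hJ]
  have hC : ∀ i, J.map φ ≤ Subgroup.centralizer {hc hp7 (nd i) ω} := by
    intro i
    rintro _ ⟨j, hj, rfl⟩
    rw [Subgroup.mem_centralizer_singleton_iff, ← key i]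
    show γ * ε K j * γ⁻¹ * (γ * ε K (ce i) * γ⁻¹) = γ * ε K (ce i) * γ⁻¹ * (γ * ε K j * γ⁻¹)
    have h5 : j * ce i = ce i * j := (Subgroup.mem_centralizer_iff.1 (hJc hj) (ce i) ⟨i, rfl⟩).symm
    have h6 : ε K j * ε K (ce i) = ε K (ce i) * ε K j := by rw [← map_mul, h5, map_mul]
    calc γ * ε K j * γ⁻¹ * (γ * ε K (ce i) * γ⁻¹) = γ * (ε K j * ε K (ce i)) * γ⁻¹ := by group
      _ = γ * (ε K (ce i) * ε K j) * γ⁻¹ := by rw [h6]
      _ = _ := by group
  have h7 : ∀ i, J.map φ ≤ Subgroup.centralizer (GS K (pm i) : Set (GK K)) := fun i =>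
    (perfect_le_perp h0 h1 h3 i (hC i) hJ').trans
      (GS_le_centralizer K (pm_lt i) (fun r hr => (mem_perp.1 hr).1) (orth_perp i))
  have h8 : J.map φ ≤ Subgroup.centralizer (GS K six : Set (GK K)) := by
    rw [Subgroup.le_centralizer_iff]
    refine GS_le K fun s hs => ?_
    obtain ⟨i, hi⟩ := six_pm s hs
    rw [Subgroup.le_centralizer_iff]
    exact (h7 i).trans (Subgroup.centralizer_le (X_le_GS K hi))
  have h9 : J.map φ ≤ T7 K ⊔ GS K (rts TabDFourB.pcDFourB) := by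
    intro g hg
    exact cent_le K (L := six) (by decide +kernel) (by (delta Cfsg.Agent.R2.H27S.Tab.rts; rewrite [Cfsg.Agent.ChevFast.E7.neg]; decide +kernel)) (h8 hg)
  have h10 : Nat.card ↥J = Nat.card ↥(J.map φ) := (Subgroup.card_map_of_injective hφi).symm
  rw [h10]
  intro h11
  have h12 := h11.trans (Subgroup.card_dvd_of_le h9)
  rw [card_four hK] at h12
  exact not_dvd h12

end Grp

end Cfsg.Agent.R2.H27S.FFour
end

-- part: R2/H27S/TabDSix
section
/-!
# Table `DSix` (S5934, box S)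
-/

set_option autoImplicit false
set_option maxRecDepth 20000

namespace Cfsg.Agent.R2.H27S.TabDSix

open Cfsg.Lie Cfsg.Agent.R2.H27S.Tab Cfsg.Agent.R2.H27S.ESeven Cfsg.Agent.R2.H27S.Cart

/-- base -/
def bDSix : Fin 6 → ℕ := ![63, 64, 66, 69, 73, 78]

/-- positive roots -/
def pcDSix : List (ℕ × (Fin 6 → ℤ)) := [(63, ![1, 0, 0, 0, 0, 0]),
  (64, ![0, 1, 0, 0, 0, 0]),
  (65, ![1, 1, 0, 0, 0, 0]),
  (66, ![0, 0, 1, 0, 0, 0]),
  (67, ![0, 1, 1, 0, 0, 0]),
  (68, ![1, 1, 1, 0, 0, 0]),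
  (69, ![0, 0, 0, 1, 0, 0]),
  (70, ![0, 0, 1, 1, 0, 0]),
  (71, ![0, 1, 1, 1, 0, 0]),
  (72, ![1, 1, 1, 1, 0, 0]),
  (73, ![0, 0, 0, 0, 1, 0]),
  (74, ![0, 0, 0, 1, 1, 0]),
  (75, ![0, 0, 1, 1, 1, 0]),
  (76, ![0, 1, 1, 1, 1, 0]),
  (77, ![1, 1, 1, 1, 1, 0]),
  (78, ![0, 0, 0, 0, 0, 1]),
  (79, ![0, 0, 0, 1, 0, 1]),
  (80, ![0, 0, 1, 1, 0, 1]),
  (81, ![0, 1, 1, 1, 0, 1]),
  (82, ![1, 1, 1, 1, 0, 1]),
  (83, ![0, 0, 0, 1, 1, 1]),
  (84, ![0, 0, 1, 1, 1, 1]),
  (85, ![0, 1, 1, 1, 1, 1]),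
  (86, ![1, 1, 1, 1, 1, 1]),
  (87, ![0, 0, 1, 2, 1, 1]),
  (88, ![0, 1, 1, 2, 1, 1]),
  (89, ![1, 1, 1, 2, 1, 1]),
  (90, ![0, 1, 2, 2, 1, 1]),
  (91, ![1, 1, 2, 2, 1, 1]),
  (92, ![1, 2, 2, 2, 1, 1])]

/-- functionals -/
def flDSix : List ((Fin 7 → ℤ) × ℤ) := [(![-2, 0, 0, 0, 0, 0, 0], 0)]

/-- left inverse -/
def liDSix : Fin 6 → Fin 7 → ℤ := ![![0, 0, 0, 0, 0, 0, 1], ![0, 0, 0, 0, 0, 1, 0], ![0, 0, 0, 0, 1, 0, 0], ![0, 0, 0, 1, 0, 0, 0], ![0, 0, 1, 0, 0, 0, 0], ![0, 1, 0, 0, 0, 0, 0]]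

theorem tab : Tab (Cfsg.Agent.Nodes.TypeD.A 4) bDSix pcDSix flDSix liDSix 1 where
  blt := by decide +kernel
  car := by decide +kernel
  D0 := by decide +kernel
  linv := by decide +kernel
  pc1 := by decide +kernel
  fl := by decide +kernel
  com := by (rewrite [Cfsg.Agent.ChevFast.E7.neg]; decide +kernel)
  nd := by decide +kernel

end Cfsg.Agent.R2.H27S.TabDSix
end

-- part: R2/H27S/TabAOne
section
/-!
# Table `AOne` (S5934, box S)
-/

set_option autoImplicit false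
set_option maxRecDepth 20000

namespace Cfsg.Agent.R2.H27S.TabAOne

open Cfsg.Lie Cfsg.Agent.R2.H27S.Tab Cfsg.Agent.R2.H27S.ESeven Cfsg.Agent.R2.H27S.Cart

/-- base -/
def bAOne : Fin 1 → ℕ := ![125]

/-- positive roots -/
def pcAOne : List (ℕ × (Fin 1 → ℤ)) := [(125, ![1])]

/-- functionals -/
def flAOne : List ((Fin 7 → ℤ) × ℤ) := [(![-2, -1, -2, 0, 2, 2, 2], 0), (![-2, -2, -2, 1, 2, 2, 0], 0)]

/-- left inverse -/
def liAOne : Fin 1 → Fin 7 → ℤ := ![![2, 2, 3, 4, 3, 2, 1]]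

theorem tab : Tab (cO 1) bAOne pcAOne flAOne liAOne 47 where
  blt := by decide +kernel
  car := by decide +kernel
  D0 := by decide +kernel
  linv := by decide +kernel
  pc1 := by decide +kernel
  fl := by decide +kernel
  com := by decide +kernel
  nd := by decide +kernel

end Cfsg.Agent.R2.H27S.TabAOne
end

-- part: R2/H27S/TabASeven
section
/-!
# Table `ASeven` (S5934, box S)
-/

set_option autoImplicit false
set_option maxRecDepth 20000

namespace Cfsg.Agent.R2.H27S.TabASeven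

open Cfsg.Lie Cfsg.Agent.R2.H27S.Tab Cfsg.Agent.R2.H27S.ESeven Cfsg.Agent.R2.H27S.Cart

/-- base -/
def bASeven : Fin 7 → ℕ := ![0, 93, 73, 69, 66, 64, 63]

/-- positive roots -/
def pcASeven : List (ℕ × (Fin 7 → ℤ)) := [(0, ![1, 0, 0, 0, 0, 0, 0]),
  (1, ![1, 1, 0, 0, 0, 0, 0]),
  (2, ![1, 1, 1, 0, 0, 0, 0]),
  (3, ![1, 1, 1, 1, 0, 0, 0]),
  (4, ![1, 1, 1, 1, 1, 0, 0]),
  (5, ![1, 1, 1, 1, 1, 1, 0]),
  (6, ![1, 1, 1, 1, 1, 1, 1]),
  (63, ![0, 0, 0, 0, 0, 0, 1]),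
  (64, ![0, 0, 0, 0, 0, 1, 0]),
  (65, ![0, 0, 0, 0, 0, 1, 1]),
  (66, ![0, 0, 0, 0, 1, 0, 0]),
  (67, ![0, 0, 0, 0, 1, 1, 0]),
  (68, ![0, 0, 0, 0, 1, 1, 1]),
  (69, ![0, 0, 0, 1, 0, 0, 0]),
  (70, ![0, 0, 0, 1, 1, 0, 0]),
  (71, ![0, 0, 0, 1, 1, 1, 0]),
  (72, ![0, 0, 0, 1, 1, 1, 1]),
  (73, ![0, 0, 1, 0, 0, 0, 0]),
  (74, ![0, 0, 1, 1, 0, 0, 0]),
  (75, ![0, 0, 1, 1, 1, 0, 0]),
  (76, ![0, 0, 1, 1, 1, 1, 0]),
  (77, ![0, 0, 1, 1, 1, 1, 1]),
  (93, ![0, 1, 0, 0, 0, 0, 0]),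
  (94, ![0, 1, 1, 0, 0, 0, 0]),
  (95, ![0, 1, 1, 1, 0, 0, 0]),
  (96, ![0, 1, 1, 1, 1, 0, 0]),
  (97, ![0, 1, 1, 1, 1, 1, 0]),
  (98, ![0, 1, 1, 1, 1, 1, 1])]

/-- functionals -/
def flASeven : List ((Fin 7 → ℤ) × ℤ) := [(![0, 1, 0, 0, 0, 0, 0], 2)]

/-- left inverse -/
def liASeven : Fin 7 → Fin 7 → ℤ := ![![0, -1, 0, 0, 0, 0, 0], ![2, -2, 0, 0, 0, 0, 0], ![0, -3, 2, 0, 0, 0, 0], ![0, -4, 0, 2, 0, 0, 0], ![0, -3, 0, 0, 2, 0, 0], ![0, -2, 0, 0, 0, 2, 0], ![0, -1, 0, 0, 0, 0, 2]]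

theorem tab : Tab (cA 7) bASeven pcASeven flASeven liASeven 2 where
  blt := by decide +kernel
  car := by decide +kernel
  D0 := by decide +kernel
  linv := by decide +kernel
  pc1 := by decide +kernel
  fl := by decide +kernel
  com := by (rewrite [Cfsg.Agent.ChevFast.E7.neg]; decide +kernel)
  nd := by decide +kernel

end Cfsg.Agent.R2.H27S.TabASeven
end

-- part: R2/H27S/TabAFive
section
/-!
# Table `AFive` (S5934, box S)
-/

set_option autoImplicit false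
set_option maxRecDepth 20000

namespace Cfsg.Agent.R2.H27S.TabAFive

open Cfsg.Lie Cfsg.Agent.R2.H27S.Tab Cfsg.Agent.R2.H27S.ESeven Cfsg.Agent.R2.H27S.Cart

/-- base -/
def bAFive : Fin 5 → ℕ := ![78, 69, 66, 64, 63]

/-- positive roots -/
def pcAFive : List (ℕ × (Fin 5 → ℤ)) := [(63, ![0, 0, 0, 0, 1]),
  (64, ![0, 0, 0, 1, 0]),
  (65, ![0, 0, 0, 1, 1]),
  (66, ![0, 0, 1, 0, 0]),
  (67, ![0, 0, 1, 1, 0]),
  (68, ![0, 0, 1, 1, 1]),
  (69, ![0, 1, 0, 0, 0]),
  (70, ![0, 1, 1, 0, 0]),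
  (71, ![0, 1, 1, 1, 0]),
  (72, ![0, 1, 1, 1, 1]),
  (78, ![1, 0, 0, 0, 0]),
  (79, ![1, 1, 0, 0, 0]),
  (80, ![1, 1, 1, 0, 0]),
  (81, ![1, 1, 1, 1, 0]),
  (82, ![1, 1, 1, 1, 1])]

/-- functionals -/
def flAFive : List ((Fin 7 → ℤ) × ℤ) := [(![-2, 0, -2, 0, 0, 0, 0], 0)]

/-- left inverse -/
def liAFive : Fin 5 → Fin 7 → ℤ := ![![0, 1, 0, 0, 0, 0, 0], ![0, 0, 0, 1, 0, 0, 0], ![0, 0, 0, 0, 1, 0, 0], ![0, 0, 0, 0, 0, 1, 0], ![0, 0, 0, 0, 0, 0, 1]]

theorem tab : Tab (cA 5) bAFive pcAFive flAFive liAFive 1 where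
  blt := by decide +kernel
  car := by decide +kernel
  D0 := by decide +kernel
  linv := by decide +kernel
  pc1 := by decide +kernel
  fl := by decide +kernel
  com := by decide +kernel
  nd := by decide +kernel

end Cfsg.Agent.R2.H27S.TabAFive
end

-- part: R2/H27S/TabATwo
section
/-!
# Table `ATwo` (S5934, box S)
-/

set_option autoImplicit false
set_option maxRecDepth 20000

namespace Cfsg.Agent.R2.H27S.TabATwo

open Cfsg.Lie Cfsg.Agent.R2.H27S.Tab Cfsg.Agent.R2.H27S.ESeven Cfsg.Agent.R2.H27S.Cart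

/-- base -/
def bATwo : Fin 2 → ℕ := ![0, 93]

/-- positive roots -/
def pcATwo : List (ℕ × (Fin 2 → ℤ)) := [(0, ![1, 0]),
  (1, ![1, 1]),
  (93, ![0, 1])]

/-- functionals -/
def flATwo : List ((Fin 7 → ℤ) × ℤ) := [(![0, -1, -2, -1, 2, 2, 2], 0), (![0, -2, -2, 1, 0, 2, 2], 0)]

/-- left inverse -/
def liATwo : Fin 2 → Fin 7 → ℤ := ![![0, -2, -3, -4, -3, -2, -1], ![43, -4, -6, -8, -6, -4, -2]]

theorem tab : Tab (cA 2) bATwo pcATwo flATwo liATwo 43 where
  blt := by decide +kernel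
  car := by decide +kernel
  D0 := by decide +kernel
  linv := by decide +kernel
  pc1 := by decide +kernel
  fl := by decide +kernel
  com := by (rewrite [Cfsg.Agent.ChevFast.E7.neg]; decide +kernel)
  nd := by decide +kernel

end Cfsg.Agent.R2.H27S.TabATwo
end

-- part: R2/H27S/BoxThree
section
/-!
# Boxes S3, S4, S6 of S5934: `S₃ × Ω₁₂⁺(2)`, `L₈(2)`, `L₃(2) × L₆(2)`
-/

set_option autoImplicit false
set_option maxRecDepth 20000

namespace Cfsg.Agent.R2.H27S.BoxThree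

open CoxeterSystem Cfsg.Agent.ChevalleyStructure.CoxeterGeom Cfsg.Agent.Tits.Roots Cfsg.Agent.Tits.Core
open Cfsg.Lie Cfsg.Agent.R2.H27S.Tab Cfsg.Agent.R2.H27S.ESeven Cfsg.Agent.R2.H27S.Cart
open Cfsg.Agent.H904.E7Lat Cfsg.Agent.H904.E7Form Cfsg.Agent.R2.H27
open Cfsg.Agent.R2.H27S

abbrev F2 : Type := ZMod 2

theorem hF : Fintype.card F2 = 2 := rfl

theorem hN : Nat.card F2 = 2 := by rw [Nat.card_eq_fintype_card]; rfl

theorem T_bot : T7 F2 = ⊥ := T7_eq_bot F2 hF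

theorem card_T : Nat.card (T7 F2) = 1 := by rw [T_bot, Subgroup.card_bot]

theorem sup_eq (L : List ℕ) : T7 F2 ⊔ GS F2 L = GS F2 L := by rw [T_bot, bot_sup_eq]

/-! ### S3 -/

noncomputable instance : Fintype (Cfsg.Agent.Nodes.TypeD.M 4).Group := by
  have := Cfsg.Agent.Nodes.TypeD.finite_W (n := 4) (Cfsg.Agent.Nodes.TypeD.M 4).toCoxeterSystem
  exact Fintype.ofFinite _

theorem connD6 : ∀ s : Finset (Fin 6), s.Nonempty → s ≠ Finset.univ →
    ∃ a ∈ s, ∃ b, b ∉ s ∧ Cfsg.Agent.Nodes.TypeD.A 4 a b ≠ 0 := by decide +kernel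

theorem simpleD6 : IsSimpleGroup ↥(GS F2 (rts TabDSix.pcDSix)) :=
  simple F2 TabDSix.tab (Cfsg.Agent.Nodes.TypeD.M 4).toCoxeterSystem (Cfsg.Agent.Nodes.TypeD.isCartan 4) hF
    (conn_of_cartan (Cfsg.Agent.Nodes.TypeD.isCartan 4) connD6) (by decide +kernel)

theorem cardD6 : Nat.card ↥(GS F2 (rts TabDSix.pcDSix)) = oO12 := by
  have h1 := card_sum F2 TabDSix.tab (Cfsg.Agent.Nodes.TypeD.M 4).toCoxeterSystem
    (Cfsg.Agent.Nodes.TypeD.isCartan 4)
  rw [sup_eq, card_T, hN, Cfsg.Agent.H475.CoxD.sum_D] at h1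
  rw [h1]
  decide +kernel

theorem finite_W_of {l : ℕ} {A' : Fin l → Fin l → ℤ} {b : Fin l → ℕ} {pc : List (ℕ × (Fin l → ℤ))}
    {Fl : List ((Fin 7 → ℤ) × ℤ)} {Li : Fin l → Fin 7 → ℤ} {D : ℤ} (t : Tab A' b pc Fl Li D)
    {W' : Type*} [Group W'] {M' : CoxeterMatrix (Fin l)} (cs' : CoxeterSystem M' W') (h' : IsCartan M' A') :
    Finite W' := by
  obtain ⟨w, i, S⟩ := t.exists_subSys
  exact S.finite cs' h'

theorem cardA1 : Nat.card ↥(GS F2 (rts TabAOne.pcAOne)) = 6 := by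
  have := finite_W_of TabAOne.tab (slM (cO 1) (cO_symm 1)).toCoxeterSystem (isCartan_O 1)
  have h1 := card_orth F2 TabAOne.tab (slM (cO 1) (cO_symm 1)).toCoxeterSystem (isCartan_O 1)
    (fun i j hij => by simp [cO, hij])
  rw [sup_eq, card_T, hN] at h1
  rw [h1]
  decide +kernel

theorem centD6 : Subgroup.centralizer (GS F2 (rts TabDSix.pcDSix) : Set G7) = GS F2 (rts TabAOne.pcAOne) :=
  cent_eq F2 hF (by (delta Cfsg.Agent.R2.H27S.Tab.rts; rewrite [Cfsg.Agent.ChevFast.E7.neg]; decide +kernel)) (by decide +kernel) (by (delta Cfsg.Agent.R2.H27S.Tab.rts; rewrite [Cfsg.Agent.ChevFast.E7.neg]; open scoped Cfsg.Agent.ChevFast.Lin in decide +kernel))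

/-- **Box S3** -/
theorem boxS3 : BoxS3 := by
  refine ⟨GS F2 (rts TabDSix.pcDSix), simpleD6, cardD6, ?_⟩
  rw [centD6]
  exact cardA1

/-! ### S4 -/

theorem connA7 : ∀ s : Finset (Fin 7), s.Nonempty → s ≠ Finset.univ →
    ∃ a ∈ s, ∃ b, b ∉ s ∧ cA 7 a b ≠ 0 := by decide +kernel

/-- **Box S4** -/
theorem boxS4 : BoxS4 := by
  have := finite_W_of TabASeven.tab (slM (cA 7) (cA_symm 7)).toCoxeterSystem (isCartan_A 7)
  refine ⟨GS F2 (rts TabASeven.pcASeven), simple F2 TabASeven.tab (slM (cA 7) (cA_symm 7)).toCoxeterSystem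
    (isCartan_A 7) hF (conn_of_cartan (isCartan_A 7) connA7) (by decide +kernel), ?_⟩
  have h1 := card_chain F2 TabASeven.tab (slM (cA 7) (cA_symm 7)).toCoxeterSystem (isCartan_A 7) (by norm_num)
    (fun i j => rfl)
  rw [sup_eq, card_T, hN] at h1
  rw [h1]
  decide +kernel

/-! ### S6 -/

theorem connA5 : ∀ s : Finset (Fin 5), s.Nonempty → s ≠ Finset.univ →
    ∃ a ∈ s, ∃ b, b ∉ s ∧ cA 5 a b ≠ 0 := by decide +kernel

theorem connA2 : ∀ s : Finset (Fin 2), s.Nonempty → s ≠ Finset.univ →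
    ∃ a ∈ s, ∃ b, b ∉ s ∧ cA 2 a b ≠ 0 := by decide +kernel

theorem simpleA5 : IsSimpleGroup ↥(GS F2 (rts TabAFive.pcAFive)) :=
  simple F2 TabAFive.tab (slM (cA 5) (cA_symm 5)).toCoxeterSystem (isCartan_A 5) hF (conn_of_cartan (isCartan_A 5) connA5)
    (by decide +kernel)

theorem simpleA2 : IsSimpleGroup ↥(GS F2 (rts TabATwo.pcATwo)) :=
  simple F2 TabATwo.tab (slM (cA 2) (cA_symm 2)).toCoxeterSystem (isCartan_A 2) hF (conn_of_cartan (isCartan_A 2) connA2)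
    (by decide +kernel)

theorem cardA5 : Nat.card ↥(GS F2 (rts TabAFive.pcAFive)) = oL6 := by
  have := finite_W_of TabAFive.tab (slM (cA 5) (cA_symm 5)).toCoxeterSystem (isCartan_A 5)
  have h1 := card_chain F2 TabAFive.tab (slM (cA 5) (cA_symm 5)).toCoxeterSystem (isCartan_A 5) (by norm_num)
    (fun i j => rfl)
  rw [sup_eq, card_T, hN] at h1
  rw [h1]
  decide +kernel

theorem cardA2 : Nat.card ↥(GS F2 (rts TabATwo.pcATwo)) = oL3 := by
  have := finite_W_of TabATwo.tab (slM (cA 2) (cA_symm 2)).toCoxeterSystem (isCartan_A 2)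
  have h1 := card_chain F2 TabATwo.tab (slM (cA 2) (cA_symm 2)).toCoxeterSystem (isCartan_A 2) (by norm_num)
    (fun i j => rfl)
  rw [sup_eq, card_T, hN] at h1
  rw [h1]
  decide +kernel

theorem centA5 : Subgroup.centralizer (GS F2 (rts TabAFive.pcAFive) : Set G7) = GS F2 (rts TabATwo.pcATwo) :=
  cent_eq F2 hF (by decide +kernel) (by decide +kernel) (by decide +kernel)

theorem centA2 : Subgroup.centralizer (GS F2 (rts TabATwo.pcATwo) : Set G7) = GS F2 (rts TabAFive.pcAFive) :=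
  cent_eq F2 hF (by decide +kernel) (by decide +kernel) (by decide +kernel)

/-- **Box S6** -/
theorem boxS6 : BoxS6 :=
  ⟨GS F2 (rts TabAFive.pcAFive), GS F2 (rts TabATwo.pcATwo), simpleA5, cardA5, simpleA2, cardA2, centA5, centA2⟩

end Cfsg.Agent.R2.H27S.BoxThree
end

-- part: R2/H27S/BoxEight
section
/-!
# Box S8 of S5934: `(S₃³ × Ω₈⁺(2)):3`
-/

set_option autoImplicit false
set_option linter.unusedSectionVars false

namespace Cfsg.Agent.R2.H27S.BoxEight

open CoxeterSystem Cfsg.Agent.ChevalleyStructure.CoxeterGeom Cfsg.Agent.Tits.Roots Cfsg.Agent.Tits.Core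
open Cfsg.Lie Cfsg.Agent.ChevalleyStructure Cfsg.Agent.ChevalleyStructure.Elts Cfsg.Agent.Nodes.RGDChev
open Cfsg.Agent.H904.E7Lat Cfsg.Agent.H904.E7Form Cfsg.Agent.H904.E7Main
open Cfsg.Agent.ChevalleyStructure.SL2Hom (up lo)
open Cfsg.Agent.Nodes.RGDFoldSL
open Cfsg.Agent.R2.H27 (G7 BoxS8 oO8)
open Cfsg.Agent.R2.H27S.ESeven Cfsg.Agent.R2.H27S.FTwo Cfsg.Agent.R2.H27S.Wel Cfsg.Agent.R2.H27S.Tab
  Cfsg.Agent.R2.H27S.Cart Cfsg.Agent.R2.H27S.Conj Cfsg.Agent.R2.H27S.Cube Cfsg.Agent.R2.H27S.FFour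
  Cfsg.Agent.H129.FE

theorem up_lo : (up 1 * lo 1 * up 1 : Matrix.SpecialLinearGroup (Fin 2) F2) = lo 1 * up 1 * lo 1 := by
  apply Subtype.ext
  show ((!![1, 1; 0, 1] : Matrix (Fin 2) (Fin 2) F2) * !![1, 0; 1, 1]) * !![1, 1; 0, 1] =
    (!![1, 0; 1, 1] * !![1, 1; 0, 1]) * !![1, 0; 1, 1]
  decide

/-- the braid relation -/
theorem xe_br {r : ℕ} (hr : r < 126) : xe r * xe (chevE7.neg r) * xe r = xe (chevE7.neg r) * xe r * xe (chevE7.neg r) := by
  apply Subtype.ext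
  show xG hp7.inList r 1 * xG hp7.inList (chevE7.neg r) 1 * xG hp7.inList r 1 =
    xG hp7.inList (chevE7.neg r) 1 * xG hp7.inList r 1 * xG hp7.inList (chevE7.neg r) (1 : F2)
  have h : r < chevE7.nroots := by rw [nroots_eq]; exact hr
  rw [← psi_up hp7.inList h, ← psi_lo hp7.inList h, ← map_mul, ← map_mul, ← map_mul, ← map_mul, up_lo]

theorem ne_tab : ∀ i : Fin 3, ∃ s ∈ List.range 126, s ≠ rr i ∧ s ≠ chevE7.neg (rr i) ∧
    s ≠ chevE7.neg (chevE7.neg (rr i)) ∧ ct chevE7 (chevE7.neg (rr i)) s = [] ∧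
    ∃ q ∈ List.range 126, ct chevE7 (rr i) s = [(q, 1)] ∨ ct chevE7 (rr i) s = [(q, -1)] := by (delta Cfsg.Agent.H129.FE.ct; rewrite [Cfsg.Agent.ChevFast.E7.chainEntry, Cfsg.Agent.ChevFast.E7.neg]; open scoped Cfsg.Agent.ChevFast.Lin in decide +kernel)

theorem xe_ne (i : Fin 3) : xe (rr i) ≠ xe (chevE7.neg (rr i)) := by
  intro h
  obtain ⟨s, hs, h1, h2, h3, h4, q, hq, h5⟩ := ne_tab i
  rw [List.mem_range] at hs hq
  have h6 : Commute (xe (rr i)) (xe s) := by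
    rw [h]
    exact xe_comm (neg_lt7 _ (rr_lt i)) hs h2 h3 h4
  have h7 : xe s * xe (rr i) = xe (rr i) * xe s * xe q := by
    have e1 : ((1 : ℤ) : F2) = 1 := by decide
    have e2 : ((-1 : ℤ) : F2) = 1 := by decide
    rcases h5 with h5 | h5
    · exact xe_swap (q := (q, 1)) (rr_lt i) hs h1 h2 h5 e1
    · exact xe_swap (q := (q, -1)) (rr_lt i) hs h1 h2 h5 e2
  rw [h6.eq] at h7
  exact xe_ne_one hq (mul_eq_left.1 h7.symm)

theorem comm_tab : ∀ i j : Fin 3, i ≠ j → ∀ r ∈ pm i, ∀ s ∈ pm j, s ≠ r ∧ s ≠ chevE7.neg r ∧ ct chevE7 r s = [] := by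
  (delta Cfsg.Agent.H129.FE.ct Cfsg.Agent.R2.H27S.FFour.pm; rewrite [Cfsg.Agent.ChevFast.E7.chainEntry, Cfsg.Agent.ChevFast.E7.neg]; decide +kernel)

theorem pm_comm' {i j : Fin 3} (hij : i ≠ j) {r s : ℕ} (hr : r ∈ pm i) (hs : s ∈ pm j) : Commute (xe r) (xe s) := by
  obtain ⟨h1, h2, h3⟩ := comm_tab i j hij r hr s hs
  exact xe_comm (pm_lt i r hr) (pm_lt j s hs) h1 h2 h3

theorem cube : IsCube (fun i => xe (rr i)) (fun i => xe (chevE7.neg (rr i))) where
  xx i := xe_mul _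
  yy i := xe_mul _
  br i := xe_br (rr_lt i)
  ne i := xe_ne i
  cxx i j hij := pm_comm' hij (by simp [pm]) (by simp [pm])
  cxy i j hij := pm_comm' hij (by simp [pm]) (by simp [pm])
  cyy i j hij := pm_comm' hij (by simp [pm]) (by simp [pm])

/-- `Ω₈⁺(2)` -/
abbrev X8 : Subgroup G7 := GS F2 (rts TabDFourB.pcDFourB)

/-- `S₃³` -/
abbrev C8 : Subgroup G7 := GS F2 (rts TabTOneB.pcTOneB)

theorem connD4 : ∀ s : Finset (Fin 4), s.Nonempty → s ≠ Finset.univ →
    ∃ a ∈ s, ∃ b, b ∉ s ∧ Cfsg.Agent.Nodes.TypeD.A 2 a b ≠ 0 := by decide +kernel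

theorem simpleX : IsSimpleGroup ↥X8 :=
  simple F2 TabDFourB.tab (Cfsg.Agent.Nodes.TypeD.M 2).toCoxeterSystem (Cfsg.Agent.Nodes.TypeD.isCartan 2) hF
    (conn_of_cartan (Cfsg.Agent.Nodes.TypeD.isCartan 2) connD4) (by decide +kernel)

theorem cardX : Nat.card ↥X8 = oO8 := by
  have h1 := card_sum F2 TabDFourB.tab (Cfsg.Agent.Nodes.TypeD.M 2).toCoxeterSystem
    (Cfsg.Agent.Nodes.TypeD.isCartan 2)
  rw [BoxThree.sup_eq, BoxThree.card_T, hN, Cfsg.Agent.H475.CoxD.sum_D] at h1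
  rw [h1]
  decide +kernel

theorem cardC : Nat.card ↥C8 = 2 ^ 3 * 3 ^ 3 := by
  have := BoxThree.finite_W_of TabTOneB.tab (slM (cO 3) (cO_symm 3)).toCoxeterSystem (isCartan_O 3)
  have h1 := card_orth F2 TabTOneB.tab (slM (cO 3) (cO_symm 3)).toCoxeterSystem (isCartan_O 3)
    (fun i j hij => by simp [cO, hij])
  rw [BoxThree.sup_eq, BoxThree.card_T, hN] at h1
  rw [h1]
  decide +kernel

theorem centX : Subgroup.centralizer (X8 : Set G7) = C8 :=
  cent_eq F2 hF (by decide +kernel) (by decide +kernel) (by decide +kernel)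

theorem mem_tab : ∀ r ∈ rts TabTOneB.pcTOneB, ∃ i : Fin 3, r = rr i ∨ r = chevE7.neg (rr i) := by decide +kernel

theorem mem_tab' : ∀ i : Fin 3, rr i ∈ rts TabTOneB.pcTOneB ∧ chevE7.neg (rr i) ∈ rts TabTOneB.pcTOneB := by
  decide +kernel

theorem C_eq : C8 = Subgroup.closure (Set.range (fun i => xe (rr i)) ∪ Set.range fun i => xe (chevE7.neg (rr i))) := by
  apply le_antisymm
  · refine GS_le F2 fun r hr => ?_
    obtain ⟨i, hi⟩ := mem_tab r hr
    rcases hi with hi | hi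
    · rw [hi, X7_eq_zpowers (rr_lt i), Subgroup.zpowers_le]
      exact Subgroup.subset_closure (Or.inl ⟨i, rfl⟩)
    · rw [hi, X7_eq_zpowers (neg_lt7 _ (rr_lt i)), Subgroup.zpowers_le]
      exact Subgroup.subset_closure (Or.inr ⟨i, rfl⟩)
  · rw [Subgroup.closure_le]
    rintro _ (⟨i, rfl⟩ | ⟨i, rfl⟩)
    · exact xe_mem_GS (mem_tab' i).1 (rr_lt i)
    · exact xe_mem_GS (mem_tab' i).2 (neg_lt7 _ (rr_lt i))

theorem inf_centralizer {G : Type*} [Group G] [Finite G] {X : Subgroup G} (hX : IsSimpleGroup ↥X)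
    (hp : ¬ (Nat.card X).Prime) : X ⊓ Subgroup.centralizer (X : Set G) = ⊥ := by
  have h1 : Subgroup.center X = ⊥ ∨ Subgroup.center X = ⊤ :=
    hX.eq_bot_or_eq_top_of_normal _ inferInstance
  rcases h1 with h1 | h1
  · rw [eq_bot_iff]
    rintro x ⟨hx1, hx2⟩
    have h2 : (⟨x, hx1⟩ : X) ∈ Subgroup.center X := by
      rw [Subgroup.mem_center_iff]
      intro y
      exact Subtype.ext (Subgroup.mem_centralizer_iff.1 hx2 y y.2)
    rw [h1, Subgroup.mem_bot] at h2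
    exact Subgroup.mem_bot.2 (congrArg Subtype.val h2)
  · exfalso
    apply hp
    let _ : CommGroup X := Group.commGroupOfCenterEqTop h1
    exact IsSimpleGroup.prime_card

/-- the word of `τ` -/
def wL : List ℕ := [3, 4, 5, 6, 1, 3, 4, 5]

theorem wL_rr : ∀ i : Fin 3, act wL (rr i) = rr (i + 1) ∧ act wL (chevE7.neg (rr i)) = chevE7.neg (rr (i + 1)) := by
  (delta Cfsg.Agent.R2.H27S.Wel.act Cfsg.Lie.ChevalleyDatum.chainRoot Cfsg.Lie.ChevalleyDatum.reflectRoot; rewrite [Cfsg.Agent.ChevFast.E7.cartan, Cfsg.Agent.ChevFast.E7.chainEntry, Cfsg.Agent.ChevFast.E7.neg]; decide +kernel)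

theorem wL_X : ∀ r ∈ rts TabDFourB.pcDFourB, r < 126 ∧ act wL r < 126 ∧ act wL r ∈ rts TabDFourB.pcDFourB := by
  (delta Cfsg.Agent.R2.H27S.Tab.rts Cfsg.Agent.R2.H27S.Wel.act Cfsg.Lie.ChevalleyDatum.chainRoot Cfsg.Lie.ChevalleyDatum.reflectRoot; rewrite [Cfsg.Agent.ChevFast.E7.cartan, Cfsg.Agent.ChevFast.E7.chainEntry, Cfsg.Agent.ChevFast.E7.neg]; decide +kernel)

theorem mem_normalizer_of {G : Type*} [Group G] [Finite G] {X : Subgroup G} {n : G}
    (h : ∀ x ∈ X, n * x * n⁻¹ ∈ X) : n ∈ Subgroup.normalizer (X : Set G) := by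
  have h1 : X.map (MulAut.conj n).toMonoidHom ≤ X := by
    rintro _ ⟨x, hx, rfl⟩
    exact h x hx
  have h2 : X.map (MulAut.conj n).toMonoidHom = X := by
    apply Subgroup.eq_of_le_of_card_ge h1
    rw [Subgroup.card_map_of_injective (MulAut.conj n).injective]
  rw [Subgroup.mem_normalizer_iff]
  intro x
  refine ⟨h x, fun hx => ?_⟩
  have h3 : n * x * n⁻¹ ∈ X.map (MulAut.conj n).toMonoidHom := by rw [h2]; exact hx
  obtain ⟨y, hy, hyx⟩ := h3
  have h4 : n * y * n⁻¹ = n * x * n⁻¹ := hyx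
  have h5 : y = x := by simpa using h4
  rw [← h5]
  exact hy

/-- **Box S8** -/
theorem boxS8 : BoxS8 := by
  obtain ⟨w, τ, h1, h2, h3⟩ := exists_rep wL (by decide)
  have hτX : τ ∈ Subgroup.normalizer (X8 : Set G7) :=
    mem_normalizer_of fun x hx => conj_mem_GS h3 wL_X hx
  have hτc : ∀ i : Fin 3, τ * (xe (rr i) * xe (chevE7.neg (rr i))) * τ⁻¹ =
      xe (rr (i + 1)) * xe (chevE7.neg (rr (i + 1))) := by
    intro i
    have h4 := h3 _ (rr_lt i)
    have h5 := h3 _ (neg_lt7 _ (rr_lt i))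
    rw [(wL_rr i).1] at h4
    rw [(wL_rr i).2] at h5
    rw [← h4, ← h5]
    group
  have hd : X8 ⊓ C8 = ⊥ := by
    rw [← centX]
    refine inf_centralizer simpleX ?_
    rw [cardX]
    unfold oO8
    norm_num
  have hcube := cube
  have hCe : Subgroup.closure (Set.range ce) = Subgroup.closure (Set.range fun i => xe (rr i) * xe (chevE7.neg (rr i))) := rfl
  have hceC : ∀ i, ce i ∈ C8 := fun i =>
    mul_mem (xe_mem_GS (mem_tab' i).1 (rr_lt i)) (xe_mem_GS (mem_tab' i).2 (neg_lt7 _ (rr_lt i)))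
  refine ⟨X8, Subgroup.normalizer (X8 : Set G7), ce, fun i => xe (rr i), τ, simpleX, cardX, ?_, Subgroup.le_normalizer,
    Subgroup.centralizer_le_normalizer _, hτX, le_refl _, ?_, ?_, ?_, ?_, ?_, ?_⟩
  · rw [centX]; exact cardC
  · have h4 := hcube.dvd_normalizer centX hd C_eq hτX hτc
    rw [cardX, cardC] at h4
    refine Dvd.dvd.trans ?_ h4
    unfold oO8
    norm_num
  · intro i
    rw [centX]
    exact ⟨hcube.orderOf_c i, hcube.x_conj i, hceC i, xe_mem_GS (mem_tab' i).1 (rr_lt i), hτc i⟩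
  · intro i j hij
    exact ⟨hcube.cc hij, hcube.tc hij⟩
  · intro P hP _ hPC
    rw [centX] at hPC
    exact hcube.le_of_isPGroup C_eq cardC hP hPC
  · exact hcube.card_closure
  · intro J hJ hJc
    have : Fintype (GaloisField 2 2) := Fintype.ofFinite _
    refine perfect_main (K := GaloisField 2 2) ?_ hJ hJc
    rw [← Nat.card_eq_fintype_card, GaloisField.card 2 2 (by norm_num)]
    norm_num

end Cfsg.Agent.R2.H27S.BoxEight
end

private theorem dce_ca1e7f288d33 : _root_.True := by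
  try have : _root_.True := by simp only [_root_.Cfsg.Agent.R2.H27S.FFour.perp.eq_1]
  try have : _root_.True := by simp only [_root_.Cfsg.Agent.R2.H27S.FFour.ce.eq_1]
  try have : _root_.True := by simp only [_root_.Cfsg.Agent.R2.H27S.FFour.pm.eq_1]
  try have : _root_.True := by simp only [_root_.Cfsg.Agent.R2.H27S.FFour.ε.congr_simp]
  exact _root_.True.intro
end

-- part: R2/H27S/BoxOne
section
prune_inst 0x54204b044c22020008000012a00020206e00009200230801d1e00946094f77600000af006c300a1200e6a2903040c04001100050021800000000800040010020942b52229318bd0476000f80f806000000000000020000000000000000041000000000000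
set_option linter.all false
open scoped Cfsg.Agent.FastGrp

/-!
# Box S1 of S5934: `E₆(2).2`
-/

set_option autoImplicit false
set_option linter.unusedSectionVars false
set_option maxRecDepth 20000

namespace Cfsg.Agent.R2.H27S.BoxOne

open CoxeterSystem Cfsg.Agent.ChevalleyStructure.CoxeterGeom Cfsg.Agent.Tits.Roots Cfsg.Agent.Tits.Core
  Cfsg.Agent.Nodes.Reps Cfsg.Agent.Nodes.BNOf Cfsg.Agent.Nodes.StabComb Cfsg.Agent.Nodes.Bruhat
  Cfsg.Agent.Nodes.OppDec Cfsg.Agent.Nodes.LeviDec Cfsg.Agent.Nodes.SubComb Cfsg.Agent.Nodes.Coroot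
open Cfsg.Lie Cfsg.Agent.ChevalleyStructure Cfsg.Agent.ChevalleyStructure.Elts Cfsg.Agent.Nodes.RGDChev
  Cfsg.Agent.ChevalleyStructure.StBasic Cfsg.Agent.ChevalleyStructure.StTheta Cfsg.Agent.ChevalleyStructure.StEmbed
  Cfsg.Agent.ChevalleyStructure.CoxeterGeomTypes Cfsg.Agent.KFacts.RgdChevCoord
open Cfsg.Agent.H904.E7Lat Cfsg.Agent.H904.E7Form Cfsg.Agent.H904.E7Main
open Cfsg.Agent.R2.H27 (G7 BoxS1)
open Cfsg.Agent.R2.H27S.ESeven Cfsg.Agent.R2.H27S.FTwo Cfsg.Agent.R2.H27S.Wel Cfsg.Agent.R2.H27S.Tab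
  Cfsg.Agent.R2.H27S.Conj Cfsg.Agent.H129.FE

theorem inE6 : InList chevE6 := by simp

theorem nroots6 : chevE6.nroots = 72 := by decide +kernel

theorem lt67 : ∀ r < 72, ι67 r < 126 := by decide +kernel

/-- `E₆(2) → E₇(2)` -/
theorem exists_e6 : ∃ f : ↥(chevE6.group F2) →* G7, Function.Injective f ∧
    ∀ r < 72, f (xg F2 inE6 r 1) = xe (ι67 r) := by
  obtain ⟨θ6, hs6, hk6, he6⟩ := Cfsg.Agent.S1077.result (K := F2) chevE6 (by simp)
  have hsimp := (Cfsg.Agent.S1054.result (F := F2) chevE6 (by simp)).1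
  have hc : Nat.card (Subgroup.center (chevE6.SteinbergGroup F2)) = 1 := by
    have h := Cfsg.Agent.S1079.result hF (chevE6, 3) (by simp)
    simpa only [_root_.Subgroup.card_eq_one, _root_.Nat.add_one_sub_one, _root_.Nat.gcd_one_right] using h
  have hinj : Function.Injective θ6 := by
    rw [← MonoidHom.ker_eq_bot_iff, hk6]
    exact (Subgroup.card_eq_one).1 hc
  let e6 : chevE6.SteinbergGroup F2 ≃* ↥(chevE6.group F2) := MulEquiv.ofBijective θ6 ⟨hinj, hs6⟩
  have h6 : ∀ r < 72, e6 (chevE6.stGen F2 r 1) = xg F2 inE6 r 1 := by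
    intro r hr
    apply Subtype.ext
    apply Units.ext
    exact he6 r 1 (by rw [nroots6]; exact hr)
  set f : ↥(chevE6.group F2) →* G7 := ((theta hp7.inList F2).comp (hom emb67 F2)).comp e6.symm.toMonoidHom with hf
  have h7 : ∀ r < 72, f (xg F2 inE6 r 1) = xe (ι67 r) := by
    intro r hr
    rw [hf, ← h6 r hr]
    show theta hp7.inList F2 (hom emb67 F2 (e6.symm (e6 (chevE6.stGen F2 r 1)))) = _
    rw [MulEquiv.symm_apply_apply, hom_stGen emb67 (by rw [nroots6]; exact hr), theta_ev]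
  refine ⟨f, ?_, h7⟩
  have hn : (f.ker).Normal := inferInstance
  rcases hn.eq_bot_or_eq_top with h | h
  · exact (MonoidHom.ker_eq_bot_iff f).1 h
  · exfalso
    have h1 : xg F2 inE6 0 1 ∈ f.ker := by rw [h]; exact Subgroup.mem_top _
    rw [MonoidHom.mem_ker, h7 0 (by norm_num)] at h1
    exact xe_ne_one (lt67 0 (by norm_num)) h1

/-- the roots of `E₆` -/
def l67' : List ℕ := (List.range 72).map ι67

theorem mem_l67' {r : ℕ} : r ∈ l67' ↔ ∃ s < 72, ι67 s = r := by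
  simp [l67']

theorem range_eq {f : ↥(chevE6.group F2) →* G7} (h : ∀ r < 72, f (xg F2 inE6 r 1) = xe (ι67 r)) :
    f.range = GS F2 l67' := by
  apply le_antisymm
  · have h1 : chevE6.group F2 ≤ ((GS F2 l67').comap f).map (chevE6.group F2).subtype := by
      rw [group_le_iff inE6]
      intro r hr t
      rw [nroots6] at hr
      refine ⟨xg F2 inE6 r t, ?_, rfl⟩
      show f (xg F2 inE6 r t) ∈ GS F2 l67'
      rcases two_elts t with rfl | rfl
      · have h2 : xg F2 inE6 r 0 = 1 := Subtype.ext (xG_zero inE6 r)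
        rw [h2, map_one]
        exact one_mem _
      · rw [h r hr]
        exact X_le_GS F2 (mem_l67'.2 ⟨r, hr, rfl⟩) (xe_mem (lt67 r hr))
    rintro _ ⟨x, rfl⟩
    obtain ⟨y, hy, hyx⟩ := h1 x.2
    rw [Subtype.ext hyx] at hy
    exact hy
  · refine GS_le F2 fun r hr => ?_
    obtain ⟨s, hs, rfl⟩ := mem_l67'.1 hr
    intro u hu
    rcases (mem_X7 (lt67 s hs)).1 hu with rfl | rfl
    · exact one_mem _
    · exact ⟨_, h s hs⟩

theorem last_zero : ∀ s < 72, rv (ι67 s) 6 = 0 := by decide +kernel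

private noncomputable def _root_.Cfsg.Agent.LsF.fd71e1c_0 : {f // @Cfsg.Agent.ChevalleyStructure.RootVecTab.dig = f} := ⟨_, by first | (delta Cfsg.Agent.ChevalleyStructure.RootVecTab.dig; rewrite [Cfsg.Agent.LsF.nmul_pat]; exact rfl) | exact rfl⟩
private noncomputable def _root_.Cfsg.Agent.LsF.fd71e1c_1 : {f // @Cfsg.Agent.ChevalleyStructure.RootVecTab.packTab = f} := ⟨_, by first | (delta Cfsg.Agent.ChevalleyStructure.RootVecTab.packTab; rewrite [Cfsg.Agent.LsF.instDecEq_eq, Cfsg.Agent.LsF.ite_eq]; exact rfl) | exact rfl⟩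
private noncomputable def _root_.Cfsg.Agent.LsF.fd71e1c_2 : {f // @Cfsg.Agent.ChevalleyStructure.RootVecTab.code = f} := ⟨_, by first | (delta Cfsg.Agent.ChevalleyStructure.RootVecTab.code; rewrite [Cfsg.Agent.LsF.fd71e1c_1.2, Cfsg.Agent.LsF.nmul_pat, Cfsg.Agent.LsF.npow_pat]; exact rfl) | exact rfl⟩
private noncomputable def _root_.Cfsg.Agent.LsF.fd71e1c_3 : {f // @Cfsg.Agent.ChevalleyStructure.RootVec.rt = f} := ⟨_, by first | (delta Cfsg.Agent.ChevalleyStructure.RootVec.rt; rewrite [Cfsg.Agent.LsF.fd71e1c_0.2, Cfsg.Agent.LsF.fd71e1c_2.2, Cfsg.Agent.LsF.nsub_pat, Cfsg.Agent.LsF.isub_pat, Cfsg.Agent.LsF.icast_pat, Cfsg.Agent.LsF.decLt_eq, Cfsg.Agent.LsF.dAnd_eq, Cfsg.Agent.LsF.ite_eq]; exact rfl) | exact rfl⟩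
private noncomputable def _root_.Cfsg.Agent.LsF.fd71e1c_4 : {f // @Cfsg.Agent.Nodes.RGDChev.vec = f} := ⟨_, by first | (delta Cfsg.Agent.Nodes.RGDChev.vec; rewrite [Cfsg.Agent.LsF.fd71e1c_3.2]; exact rfl) | exact rfl⟩
private noncomputable def _root_.Cfsg.Agent.LsF.fd71e1c_5 : {f // @Cfsg.Agent.R2.H27S.ESeven.rv = f} := ⟨_, by first | (delta Cfsg.Agent.R2.H27S.ESeven.rv; rewrite [Cfsg.Agent.LsF.fd71e1c_4.2]; exact rfl) | exact rfl⟩
private noncomputable def _root_.Cfsg.Agent.LsF.fd71e1c_6 : {f // @Cfsg.Agent.ChevalleyStructure.StEmbed.ι67 = f} := ⟨_, by first | (delta Cfsg.Agent.ChevalleyStructure.StEmbed.ι67; rewrite [Cfsg.Agent.LsF.getD_eq]; exact rfl) | exact rfl⟩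
theorem of_last_zero : ∀ r < 126, rv r 6 = 0 → ∃ s ∈ List.range 72, ι67 s = r := by (refine of_decide_eq_true ?_; (try (rewrite [Cfsg.Agent.LsF.fd71e1c_5.2, Cfsg.Agent.LsF.fd71e1c_6.2, Cfsg.Agent.LsF.instDecEq_eq, Cfsg.Agent.LsF.range_eq, Cfsg.Agent.LsF.instIDecEq_eq, Cfsg.Agent.LsF.dBEx_eq, Cfsg.Agent.LsF.dBallLT_eq, Cfsg.Agent.LsF.dAllP_eq, Cfsg.Agent.LsF.decide_eq])); decide +kernel)

/-- the Levi subgroup of type `E₆` -/
theorem GS_eq_LJ : GS F2 l67' = LJ cs7 h7 (T7 F2) (X7 F2) {i | i ≠ 6} := by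
  unfold LJ
  rw [T_bot, bot_sup_eq]
  apply le_antisymm
  · refine GS_le F2 fun r hr => ?_
    obtain ⟨s, hs, rfl⟩ := mem_l67'.1 hr
    refine RGD.le_Sup ⟨isRoot_rv (lt67 s hs), fun k hk => ?_⟩
    have h1 : k = 6 := by
      by_contra h2
      exact hk h2
    rw [h1]
    exact last_zero s hs
  · refine RGD.Sup_le fun x hx => ?_
    obtain ⟨r, hr, rfl⟩ := (isRoot_iff7 x).1 hx.1
    obtain ⟨s, hs, h1⟩ := of_last_zero r hr (hx.2 6 (by simp))
    exact X_le_GS F2 (mem_l67'.2 ⟨s, List.mem_range.1 hs, h1⟩)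

/-- the longest element -/
def w0L : List ℕ := [6, 5, 4, 3, 2, 1, 3, 4, 5, 6, 0, 2, 3, 4, 5, 1, 3, 4, 2, 3, 0, 2, 1, 3, 4, 5, 6, 0, 2, 3, 4, 5, 1,
  3, 4, 2, 3, 0, 2, 1, 3, 4, 5, 1, 3, 4, 2, 3, 0, 2, 1, 3, 4, 2, 3, 0, 2, 1, 3, 0, 2, 1, 0]

private theorem foldr_tab (w : List ℕ) (hw : ∀ i ∈ w, i < 7) (s : ℕ) (hs : s < 126) :
    w.foldr chevE7.reflectRoot s = W0Core.actT W0E7.tabE7 w s ∧ W0Core.actT W0E7.tabE7 w s < 126 := by
  induction w with
  | nil => exact ⟨rfl, hs⟩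
  | cons i w ih =>
    obtain ⟨h1, h2⟩ := ih fun j hj => hw j (List.mem_cons_of_mem _ hj)
    have hi := hw i List.mem_cons_self
    refine ⟨?_, W0Core.rangeOK_spec (W0E7.rangeE7 i hi) h2⟩
    rw [List.foldr_cons, h1]
    exact W0E7.tabE7_ok i hi _ (Nat.lt_of_lt_of_eq h2 (by decide +kernel))

private noncomputable def _root_.Cfsg.Agent.LsF.fd71e1c_7 : {f // @Cfsg.Agent.ChevalleyStructure.W0Core.look = f} := ⟨_, by first | (delta Cfsg.Agent.ChevalleyStructure.W0Core.look; rewrite [Cfsg.Agent.LsF.nmul_pat, Cfsg.Agent.LsF.nmod_pat, Cfsg.Agent.LsF.nshr_pat]; exact rfl) | exact rfl⟩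
private noncomputable def _root_.Cfsg.Agent.LsF.fd71e1c_8 : {f // @Cfsg.Agent.ChevalleyStructure.W0Core.actT = f} := ⟨_, by first | (delta Cfsg.Agent.ChevalleyStructure.W0Core.actT; rewrite [Cfsg.Agent.LsF.fd71e1c_7.2, Cfsg.Agent.LsF.foldr_eq]; exact rfl) | exact rfl⟩
private noncomputable def _root_.Cfsg.Agent.LsF.fd71e1c_9 : {f // @Cfsg.Agent.ChevalleyStructure.W0E7.tabE7 = f} := ⟨_, by first | (delta Cfsg.Agent.ChevalleyStructure.W0E7.tabE7; (try delta Cfsg.Agent.ChevalleyStructure.W0E7.tabE7.match_1); (try rewrite [Cfsg.Agent.LsF.instDecEq_eq, Cfsg.Agent.LsF.dite_eq]); exact rfl) | exact rfl⟩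
private noncomputable def _root_.Cfsg.Agent.LsF.fd71e1c_10 : {f // @Cfsg.Lie.ChevalleyDatum.neg = f} := ⟨_, by first | (delta Cfsg.Lie.ChevalleyDatum.neg; rewrite [Cfsg.Agent.LsF.agetD_eq]; exact rfl) | exact rfl⟩
theorem w0L_act : ∀ r < 126, _root_.Cfsg.Agent.R2.H27S.Wel.act w0L r = chevE7.neg r := fun s hs =>
  (foldr_tab w0L (by decide +kernel) s hs).1.trans
    ((by (refine of_decide_eq_true ?_; (try (rewrite [Cfsg.Agent.LsF.fd71e1c_8.2, Cfsg.Agent.LsF.fd71e1c_9.2, Cfsg.Agent.LsF.fd71e1c_10.2, Cfsg.Agent.LsF.instDecEq_eq, Cfsg.Agent.LsF.dBallLT_eq, Cfsg.Agent.LsF.decide_eq])); decide +kernel) : ∀ s < 126, W0Core.actT W0E7.tabE7 w0L s = chevE7.neg s) s hs)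

theorem neg_mem : ∀ s < 72, ∃ t ∈ List.range 72, ι67 t = chevE7.neg (ι67 s) := by (refine of_decide_eq_true ?_; (try (rewrite [Cfsg.Agent.LsF.fd71e1c_6.2, Cfsg.Agent.LsF.fd71e1c_10.2, Cfsg.Agent.LsF.instDecEq_eq, Cfsg.Agent.LsF.range_eq, Cfsg.Agent.LsF.dBEx_eq, Cfsg.Agent.LsF.dBallLT_eq, Cfsg.Agent.LsF.decide_eq])); decide +kernel)

theorem neg_neg7 : ∀ r < 126, chevE7.neg (chevE7.neg r) = r := by (refine of_decide_eq_true ?_; (try (rewrite [Cfsg.Agent.LsF.fd71e1c_10.2, Cfsg.Agent.LsF.instDecEq_eq, Cfsg.Agent.LsF.dBallLT_eq, Cfsg.Agent.LsF.decide_eq])); decide +kernel)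

/-- the element inducing `-1` -/
theorem exists_n : ∃ (w : W7) (n : G7), Rp cs7 (R7 F2).nsys w n ∧ (∀ r < 126, rep cs7 h7 w (rv r) = rv (chevE7.neg r)) ∧
    (∀ r < 126, n * xe r * n⁻¹ = xe (chevE7.neg r)) ∧ n * n = 1 := by
  obtain ⟨w, n, h1, h2, h3⟩ := exists_rep w0L (by decide)
  have h4 : ∀ r < 126, rep cs7 h7 w (rv r) = rv (chevE7.neg r) := fun r hr => by rw [h2 r hr, w0L_act r hr]
  refine ⟨w, n, h1, h4, fun r hr => by rw [h3 r hr, w0L_act r hr], ?_⟩
  have h5 : w * w = 1 := by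
    apply eq_one_of_act
    intro r hr
    rw [rep_mul_apply, h4 r hr, h4 _ (neg_lt7 r hr), neg_neg7 r hr]
  have h6 := h1.mul h1
  rw [h5] at h6
  have h7 := h6.mem_of_one
  rw [T_bot] at h7
  exact Subgroup.mem_bot.1 h7

theorem n_not_mem {w : W7} {n : G7} (hn : Rp cs7 (R7 F2).nsys w n)
    (hw : ∀ r < 126, rep cs7 h7 w (rv r) = rv (chevE7.neg r)) : n ∉ LJ cs7 h7 (T7 F2) (X7 F2) {i | i ≠ 6} := by
  intro h
  have h0 : w ∈ WJ cs7 ({i | i ≠ 6} : Set (Fin 7)) := by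
    have h1 := LJ_le_PJ h
    exact (cell_mem_PJ_iff (R7 F2) (cell_of_rp hn)).1 h1
  have h1 : sr (6 : Fin 7) ∈ NotJ cs7 h7 ({i | i ≠ 6} : Set (Fin 7)) := sr_mem_NotJ (by simp)
  have h2 := NotJ.act h0 h1
  have h3 := h2.2.1
  have h4 : rep cs7 h7 w (sr (6 : Fin 7)) = - sr (6 : Fin 7) := by
    rw [sr_eq, hw _ (simple_lt7 6), rv_neg (simple_lt7 6)]
  rw [h4] at h3
  have h5 := h3 6
  rw [Pi.zero_apply, Pi.neg_apply, sr_self] at h5
  norm_num at h5

/-- **the Levi subgroup `E₆(2)`** -/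
theorem exists_levi : ∃ φ : ↥(chevE6.group F2) →* G7, Function.Injective φ ∧
    φ.range = LJ cs7 h7 (T7 F2) (X7 F2) {i | i ≠ 6} := by
  obtain ⟨f, h1, h2⟩ := exists_e6
  exact ⟨f, h1, by rw [range_eq h2, GS_eq_LJ]⟩

theorem conj_GS {n : G7} (hn : ∀ r < 126, n * xe r * n⁻¹ = xe (chevE7.neg r)) {x : G7} (hx : x ∈ GS F2 l67') :
    n * x * n⁻¹ ∈ GS F2 l67' := by
  refine conj_mem_GS hn (fun r hr => ?_) hx
  obtain ⟨s, hs, rfl⟩ := mem_l67'.1 hr
  obtain ⟨t, ht, h3⟩ := neg_mem s hs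
  exact ⟨lt67 s hs, neg_lt7 _ (lt67 s hs), mem_l67'.2 ⟨t, List.mem_range.1 ht, h3⟩⟩

/-- **Box S1** -/
theorem boxS1 : BoxS1 := by
  obtain ⟨f, h1, h2⟩ := exists_e6
  obtain ⟨w, n, h3, h4, h5, h6⟩ := exists_n
  have h7 := range_eq h2
  have h8 : n ∉ f.range := by
    rw [h7, GS_eq_LJ]
    exact n_not_mem h3 h4
  have h10 : ∀ x ∈ f.range, n * x * n⁻¹ ∈ f.range := by
    rw [h7]
    intro x hx
    exact conj_GS h5 hx
  have h9 := card_sup_zpowers (Y := G7) (X := f.range) h6 h8 h10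
  refine ⟨f.range, f.range ⊔ Subgroup.zpowers n, ?_, ?_, ?_, ?_⟩
  · exact ⟨(MonoidHom.ofInjective h1).symm⟩
  · exact le_sup_left
  · exact h9.2
  · exact h9.1

end Cfsg.Agent.R2.H27S.BoxOne

private theorem dce_2baf9c0632ba : _root_.True := by
  try have : _root_.True := by simp only [_root_.Cfsg.Agent.R2.H27S.BoxOne.l67'.eq_1]
  exact _root_.True.intro
end

-- part: R2/E72T/BoxT5
section
set_option linter.all false
open scoped Cfsg.Agent.FastGrp

/-!
# Box T5 of S5934: `U₈(2)` in `E₇(2)`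
-/

set_option autoImplicit false
set_option linter.unusedSectionVars false

namespace Cfsg.Agent.R2.E72T

open Cfsg.Lie Cfsg.Agent.ChevalleyStructure Cfsg.Agent.ChevalleyStructure.Elts
open Cfsg.Agent.H420.PG
open Cfsg.Agent.R2.H27
open Matrix (SpecialLinearGroup)
open scoped MatrixGroups

universe u

section Tau

variable {K : Type u} [Field K] [CharP K 2] {n : ℕ}

theorem sl_ext {A B : SpecialLinearGroup (Fin n) K} (h : (A : Matrix (Fin n) (Fin n) K) = B) : A = B := Subtype.ext h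

/-- the twisted Frobenius map of `SL_n` -/
noncomputable def tauS (n : ℕ) (K : Type u) [Field K] [CharP K 2] :
    SpecialLinearGroup (Fin n) K →* SpecialLinearGroup (Fin n) K where
  toFun A := ((SpecialLinearGroup.map (φk K) A)⁻¹).transpose
  map_one' := by
    rw [map_one, inv_one]
    exact sl_ext Matrix.transpose_one
  map_mul' A B := by
    rw [map_mul, mul_inv_rev]
    exact sl_ext (Matrix.transpose_mul _ _)

theorem tauS_transvection {a b : Fin n} (hab : a ≠ b) (c : K) :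
    tauS n K (SpecialLinearGroup.transvection hab c) = SpecialLinearGroup.transvection hab.symm (c ^ 2) := by
  have h1 : SpecialLinearGroup.map (φk K) (SpecialLinearGroup.transvection hab c) =
      SpecialLinearGroup.transvection hab (c ^ 2) := by
    apply Subtype.ext
    show (SpecialLinearGroup.transvection hab c).1.map (φk K) = (SpecialLinearGroup.transvection hab (c ^ 2)).1
    show (Matrix.transvection a b c).map (φk K) = Matrix.transvection a b (c ^ 2)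
    ext i j
    rw [Matrix.map_apply, Matrix.transvection, Matrix.transvection, Matrix.add_apply, Matrix.add_apply, map_add]
    congr 1
    · rw [Matrix.one_apply]; split_ifs <;> simp
    · rw [Matrix.single_apply, Matrix.single_apply]
      split_ifs
      · exact φk_apply c
      · exact map_zero _
  have h2 : (SpecialLinearGroup.transvection hab (c ^ 2))⁻¹ = SpecialLinearGroup.transvection hab (c ^ 2) := by
    apply inv_eq_of_mul_eq_one_right
    apply Subtype.ext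
    show Matrix.transvection a b (c ^ 2) * Matrix.transvection a b (c ^ 2) = 1
    rw [Matrix.transvection_mul_transvection_same _ _ hab, CharTwo.add_self_eq_zero, Matrix.transvection_zero]
  show ((SpecialLinearGroup.map (φk K) (SpecialLinearGroup.transvection hab c))⁻¹).transpose = _
  rw [h1, h2]
  refine sl_ext ?_
  rw [SpecialLinearGroup.coe_transpose]
  show (Matrix.transvection a b (c ^ 2)).transpose = Matrix.transvection b a (c ^ 2)
  rw [Matrix.transvection, Matrix.transvection, Matrix.transpose_add, Matrix.transpose_one, Matrix.transpose_single]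

/-- **The twisted Frobenius map on the image of `SL_n`.** -/
theorem sgk_phi {r : Fin n → Fin n → ℕ} {φ : SpecialLinearGroup (Fin n) K →* ↥(chevE7.group K)}
    (hφ : ∀ a b (hab : a ≠ b) c, ((φ (SpecialLinearGroup.transvection hab c) : ↥(chevE7.group K)) : GL chevE7.Idx K) =
      xG hE7 (r a b) c) (hr : ∀ a b, a ≠ b → r a b < 126) (hneg : ∀ i j, i ≠ j → r j i = chevE7.neg (r i j))
    (A : SpecialLinearGroup (Fin n) K) : sgk K wz (φ A) = φ (tauS n K A) := by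
  let f : SpecialLinearGroup (Fin n) K →* GL chevE7.Idx K := (chevE7.group K).subtype.comp φ
  have h1 : (⊤ : Subgroup (SpecialLinearGroup (Fin n) K)) ≤ ((sgk K wz).comp f).eqLocus (f.comp (tauS n K)) := by
    rw [← Cfsg.Agent.LieClassical.SLGen.closure_transvections, Subgroup.closure_le]
    rintro _ ⟨a, b, hab, c, rfl⟩
    show sgk K wz (φ (SpecialLinearGroup.transvection hab c)) =
      ((φ (tauS n K (SpecialLinearGroup.transvection hab c)) : ↥(chevE7.group K)) : GL chevE7.Idx K)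
    rw [tauS_transvection, hφ, hφ, sgk_x wz_lt (hr a b hab), wz_neg _ (hr a b hab), hneg a b hab]
  exact h1 (Subgroup.mem_top A)

/-- elements of `SU_n(2)` are fixed -/
theorem tauS_of_mem {A : SpecialLinearGroup (Fin n) K} (hA : A ∈ SU n K 2) : tauS n K A = A := by
  have h1 : A.transpose * SpecialLinearGroup.map (φk K) A = 1 := by
    refine sl_ext ?_
    show A.1.transpose * (SpecialLinearGroup.map (φk K) A).1 = 1
    ext i j
    have h2 := hA (Pi.single i 1) (Pi.single j 1)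
    unfold hermForm at h2
    simp only [Matrix.mulVec_single_one] at h2
    rw [Matrix.mul_apply, Matrix.one_apply]
    have h3 : ∀ k, (slToMat n K A).col i k * ((slToMat n K A).col j k) ^ 2 =
        A.1.transpose i k * (SpecialLinearGroup.map (φk K) A).1 k j := by
      intro k
      show A.1 k i * (A.1 k j) ^ 2 = A.1 k i * φk K (A.1 k j)
      rw [φk_apply]
    rw [Finset.sum_congr rfl fun k _ => h3 k] at h2
    rw [h2]
    by_cases hij : i = j
    · subst hij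
      rw [if_pos rfl, Finset.sum_eq_single i]
      · simp
      · intro k _ hk
        rw [Pi.single_eq_of_ne hk, zero_mul]
      · intro h
        exact absurd (Finset.mem_univ i) h
    · rw [if_neg hij]
      refine Finset.sum_eq_zero fun k _ => ?_
      by_cases hk : k = i
      · subst hk
        rw [Pi.single_eq_of_ne (M := fun _ => K) hij]
        simp
      · rw [Pi.single_eq_of_ne hk, zero_mul]
  have h2 : A.transpose = (SpecialLinearGroup.map (φk K) A)⁻¹ := eq_inv_of_mul_eq_one_left h1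
  show ((SpecialLinearGroup.map (φk K) A)⁻¹).transpose = A
  rw [← h2]
  refine sl_ext ?_
  rw [SpecialLinearGroup.coe_transpose, SpecialLinearGroup.coe_transpose, Matrix.transpose_transpose]

end Tau

theorem simple_of_center {G : Type*} [Group G] (h : IsSimpleGroup (G ⧸ Subgroup.center G))
    (hc : Subgroup.center G = ⊥) : IsSimpleGroup G :=
  (MulEquiv.isSimpleGroup_congr ((QuotientGroup.quotientMulEquivOfEq hc).trans QuotientGroup.quotientBot)).1 h

theorem card_of_center {G : Type*} [Group G] (hc : Subgroup.center G = ⊥) :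
    Nat.card (G ⧸ Subgroup.center G) = Nat.card G :=
  Nat.card_congr ((QuotientGroup.quotientMulEquivOfEq hc).trans QuotientGroup.quotientBot).toEquiv

theorem box_T5 : BoxT5 := by
  obtain ⟨K, _, _, hK⟩ := exists_field 2 (by norm_num)
  have hc : CharP K 2 := charTwo_of_card hK
  obtain ⟨e⟩ := isoPk (by norm_num) hK wz_lt wz_pow
  obtain ⟨φ, hφ⟩ := exists_phi8 K
  obtain ⟨h1, -, -, -, -, h6⟩ := rt8
  -- `SL₈(4)` is simple
  have hcS : Subgroup.center (SpecialLinearGroup (Fin 8) K) = ⊥ := by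
    have h2 := Cfsg.Agent.S0280.card_center_SL (K := K) (n := 8) (by norm_num)
    rw [hK] at h2
    exact Subgroup.card_eq_one.1 (h2.trans (by norm_num))
  have hS : IsSimpleGroup (SpecialLinearGroup (Fin 8) K) :=
    simple_of_center (Cfsg.Agent.S0249.result (F := K) 8 (by norm_num)) hcS
  have hφi : Function.Injective φ := by
    rw [← MonoidHom.ker_eq_bot_iff]
    rcases hS.eq_bot_or_eq_top_of_normal _ (MonoidHom.normal_ker φ) with h2 | h2
    · exact h2
    · exfalso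
      have h3 : SpecialLinearGroup.transvection (show (0 : Fin 8) ≠ 1 by decide) (1 : K) ∈ φ.ker := by
        rw [h2]; exact Subgroup.mem_top _
      rw [MonoidHom.mem_ker] at h3
      have h4 := hφ 0 1 (by decide) 1
      rw [h3] at h4
      exact one_ne_zero ((xG_eq_one_iff hE7 (h1 0 1 (by decide)) (1 : K)).1 h4.symm)
  -- `SU₈(2)` is simple
  have hcU : Subgroup.center ↥(SU 8 K 2) = ⊥ := by
    have h2 := Cfsg.Agent.S0279.result (F := K) (q := 2) hK 8 (by norm_num)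
    exact Subgroup.card_eq_one.1 (h2.trans (by norm_num))
  have hU : IsSimpleGroup ↥(SU 8 K 2) :=
    simple_of_center (Cfsg.Agent.S0283.result (F := K) (q := 2) hK 8 (by norm_num) (by norm_num)) hcU
  have hUc : Nat.card ↥(SU 8 K 2) = oU8 := by
    have h2 := Cfsg.Agent.S0280.result (F := K) (q := 2) hK 8 (by norm_num)
    have h3 : Nat.card (PSU 8 K 2) = Nat.card ↥(SU 8 K 2) := card_of_center hcU
    rw [h3] at h2
    simp only [Finset.prod_range_succ, Finset.prod_range_zero] at h2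
    norm_num [Nat.even_iff] at h2
    unfold oU8
    norm_num
    omega
  have hmem : ∀ A : ↥(SU 8 K 2), ((φ A : ↥(chevE7.group K)) : GL chevE7.Idx K) ∈ Pk K wz := by
    intro A
    rw [mem_Pk]
    refine ⟨(φ A).2, ?_⟩
    rw [sgk_phi hφ h1 h6, tauS_of_mem A.2]
  let j : ↥(SU 8 K 2) →* ↥(Pk K wz) :=
    (((chevE7.group K).subtype.comp φ).comp (SU 8 K 2).subtype).codRestrict (Pk K wz) hmem
  have hj : Function.Injective j := by
    intro x y hxy
    apply Subtype.ext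
    apply hφi
    apply Subtype.ext
    exact congrArg (fun z : ↥(Pk K wz) => (z : GL chevE7.Idx K)) hxy
  have hj2 : Function.Injective (e.toMonoidHom.comp j) := e.injective.comp hj
  exact ⟨_, simple_range hj2, (card_range hj2).trans hUc⟩

end Cfsg.Agent.R2.E72T

private theorem dce_68763206e657 : _root_.True := by
  try have : _root_.True := by simp only [_root_.Cfsg.Agent.R2.E72T.φk.congr_simp]
  exact _root_.True.intro
end

-- part: R2/H27/UsB
section
set_option linter.all false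
open scoped Cfsg.Agent.FastGrp

/-!
# Torus elements and reflections in the images of `SL₆(K)`, `SL₃(K)` (S5934, box T7; helper27)
-/

set_option autoImplicit false
set_option linter.unusedSectionVars false
set_option maxRecDepth 100000

namespace Cfsg.Agent.R2.H27.UsB

open CoxeterSystem Cfsg Cfsg.Lie Cfsg.Lie.ChevalleyDatum
open Cfsg.Agent.ChevalleyStructure Cfsg.Agent.ChevalleyStructure.Elts Cfsg.Agent.ChevalleyStructure.CoxeterGeom
  Cfsg.Agent.ChevalleyStructure.CoxeterGeomTypes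
open Cfsg.Agent.Tits.Roots Cfsg.Agent.Tits.Core Cfsg.Agent.Nodes Cfsg.Agent.Nodes.Reps Cfsg.Agent.Nodes.BNOf
  Cfsg.Agent.Nodes.RGDChev Cfsg.Agent.Nodes.Bruhat Cfsg.Agent.Nodes.SubComb Cfsg.Agent.Nodes.NormalForm
  Cfsg.Agent.Nodes.Coroot
open Cfsg.Agent.KFacts.RgdField Cfsg.Agent.KFacts.RgdChevCoord
open Cfsg.Agent.H129.TorusChar
open Cfsg.Agent.OddHalf.NI.ModelChev
open Cfsg.Agent.FixBN.FieldRGD (uu vv dd ww)
open Cfsg.Agent.H904.E7Form
open Cfsg.Agent.R2.H27.Par Cfsg.Agent.R2.H27.WeylE7 Cfsg.Agent.R2.H27.UsA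
open scoped MatrixGroups

/-- the roots as vectors -/
abbrev rv (r : ℕ) : Fin 7 → ℤ := vec chevE7 7 r

theorem isRoot_rv {r : ℕ} (hr : r < 126) : IsRoot cs7 h7 (rv r) := isRoot_vec hp7 cs7 (show r < chevE7.nroots from hr)

theorem rv_neg {r : ℕ} (hr : r < 126) : rv (chevE7.neg r) = -rv r := vec_neg hp7 (show r < chevE7.nroots from hr)

section K

variable {K : Type} [Field K] [Fintype K] [CharP K 2]

theorem nu_xc (w : W7) {r : ℕ} (hr : r < 126) (t : K) :
    nu K w * xc hp7 (rv r) t * (nu K w)⁻¹ = xc hp7 (rep cs7 h7 w (rv r)) t := by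
  obtain ⟨ω, rfl⟩ := cs7.wordProd_surjective w
  have h1 := Cfsg.Agent.H154.PQE.rep_word ω (show r < chevE7.nroots from hr)
  have h2 := (Cfsg.Agent.H420.PG.nwd_conj (F := K) hp7.inList (w := ω.map Fin.val) (by
    intro i hi
    obtain ⟨j, -, rfl⟩ := List.mem_map.1 hi
    exact lt_rank hp7 j) (show r < chevE7.nroots from hr) t).1
  have h3 : rep cs7 h7 (cs7.wordProd ω) (rv r) = vec chevE7 7
    (ω.foldr (fun (i : Fin 7) r => chevE7.reflectRoot (i : ℕ) r) r) := h1.2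
  rw [h3]
  apply Subtype.ext
  rw [Subgroup.coe_mul, Subgroup.coe_mul, Subgroup.coe_inv, coe_xc hp7 (show r < chevE7.nroots from hr),
    coe_xc hp7 h1.1, coe_nu_wordProd, h2, List.foldr_map]

theorem nu_xc' (w : W7) {a : Fin 7 → ℤ} (ha : IsRoot cs7 h7 a) (t : K) :
    nu K w * xc hp7 a t * (nu K w)⁻¹ = xc hp7 (rep cs7 h7 w a) t := by
  obtain ⟨r, hr, rfl⟩ := (isRoot_iff hp7 cs7 a).1 ha
  exact nu_xc w hr t

/-- the product of root elements representing a reflection -/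
noncomputable def nN (a : Fin 7 → ℤ) : Y K := xc hp7 a 1 * xc hp7 (-a) 1 * xc hp7 a 1

/-- the product of root elements representing a torus element -/
noncomputable def hH (a : Fin 7 → ℤ) (c : K) : Y K := xc hp7 a c * xc hp7 (-a) c⁻¹ * xc hp7 a c * nN a

theorem sl_nN (i : Fin 7) : sl hp7 (K := K) i (ww 1 one_ne_zero) = nN (sr i) := by
  have h1 : (ww 1 one_ne_zero : SL(2, K)) = uu 1 * vv 1 * uu 1 := by
    apply Subtype.ext
    show !![0, 1; -(1 : K)⁻¹, 0] = !![1, 1; 0, 1] * !![1, 0; 1, 1] * !![1, 1; 0, 1]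
    have h2 : (1 : K) + 1 = 0 := CharTwo.add_self_eq_zero 1
    rw [Matrix.mul_fin_two, Matrix.mul_fin_two, inv_one, CharTwo.neg_eq]
    ext a b
    fin_cases a <;> fin_cases b <;> simp [h2]
  rw [h1, map_mul, map_mul, sl_uu, sl_vv]
  rfl

theorem sl_hH (i : Fin 7) {c : K} (hc0 : c ≠ 0) : sl hp7 (K := K) i (dd c hc0) = hH (sr i) c := by
  have h1 : (dd c hc0 : SL(2, K)) = uu c * vv c⁻¹ * uu c * ww 1 one_ne_zero := by
    apply Subtype.ext
    show !![c, 0; 0, c⁻¹] = !![1, c; 0, 1] * !![1, 0; c⁻¹, 1] * !![1, c; 0, 1] * !![0, 1; -(1 : K)⁻¹, 0]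
    have h2 : (1 : K) + 1 = 0 := CharTwo.add_self_eq_zero 1
    have h3 : c * c⁻¹ = 1 := mul_inv_cancel₀ hc0
    have h4 : c⁻¹ * c = 1 := inv_mul_cancel₀ hc0
    rw [Matrix.mul_fin_two, Matrix.mul_fin_two, Matrix.mul_fin_two, inv_one, CharTwo.neg_eq]
    ext a b
    fin_cases a <;> fin_cases b <;> simp [h2, h3, h4]
  rw [h1, map_mul, map_mul, map_mul, sl_uu, sl_vv, sl_nN]
  rfl

theorem nu_nN (w : W7) {a : Fin 7 → ℤ} (ha : IsRoot cs7 h7 a) : nu K w * nN a * (nu K w)⁻¹ = nN (rep cs7 h7 w a) := by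
  unfold nN
  rw [← nu_xc' w ha, ← map_neg (rep cs7 h7 w) a, ← nu_xc' w ha.neg]
  group

theorem nu_hH (w : W7) {a : Fin 7 → ℤ} (ha : IsRoot cs7 h7 a) (c : K) :
    nu K w * hH a c * (nu K w)⁻¹ = hH (rep cs7 h7 w a) c := by
  unfold hH
  rw [← nu_nN w ha, ← nu_xc' w ha, ← map_neg (rep cs7 h7 w) a, ← nu_xc' w ha.neg]
  group

theorem pairing_eq_bf (i : Fin 7) (x : Fin 7 → ℤ) : pairing (cartanOf chevE7 7) i x = bf x (sr i) := by
  have h1 := Cfsg.Agent.R2.H27S.ESeven.cpr_eq x (isRoot_sr cs7 h7 i)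
  rw [← h1]
  have h2 := cpr_rep_sr cs7 h7 x 1 i
  rw [map_one, Module.End.one_apply, inv_one, map_one, Module.End.one_apply] at h2
  exact h2.symm

theorem cX_hc (i : Fin 7) {c : K} (hc0 : c ≠ 0) (x : Fin 7 → ℤ) :
    cX hp7 (hc hp7 i c) x = c ^ bf x (sr i) := by
  have hφ : IsMC (fun x => c ^ bf x (sr i)) := by
    refine ⟨?_, fun x y => ?_⟩
    · have : bf 0 (sr i) = 0 := by
        rw [← pairing_eq_bf]; simpa using pairing_smul (cartanOf chevE7 7) i 0 0
      show c ^ bf 0 (sr i) = 1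
      rw [this, zpow_zero]
    · show c ^ bf (x + y) (sr i) = c ^ bf x (sr i) * c ^ bf y (sr i)
      rw [← zpow_add₀ hc0, ← pairing_eq_bf, ← pairing_eq_bf, ← pairing_eq_bf, pairing_add]
  refine (isMC_cX hp7 (hc_mem hp7 i hc0)).ext hφ (fun j => ?_) x
  rw [cX_sr, ← vec_simple hp7 j, ch_hc hp7 i hc0 (NPerm.simple_lt hp7.inList (lt_rank hp7 j)), ← cartanOf_def chevE7 7 i j,
    vec_simple hp7 j, ← pairing_eq_bf, pairing, sr]
  rw [Finset.sum_eq_single j]
  · rw [Pi.single_eq_same, mul_one]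
  · intro k _ hk
    rw [Pi.single_eq_of_ne hk, mul_zero]
  · intro h
    exact absurd (Finset.mem_univ j) h

/-- **The torus element of a root.** -/
theorem hH_spec {a : Fin 7 → ℤ} (ha : IsRoot cs7 h7 a) {c : K} (hc0 : c ≠ 0) :
    hH a c ∈ T K ∧ ∀ x, cX hp7 (hH a c) x = c ^ bf x a := by
  obtain ⟨w, i, rfl⟩ := ha
  have hi := hc_mem hp7 (K := K) i hc0
  have h1 : hH (rep cs7 h7 w (sr i)) c = nu K w * hc hp7 i c * (nu K w)⁻¹ := by
    rw [← nu_hH w (isRoot_sr cs7 h7 i), ← sl_hH i hc0, sl_dd]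
  rw [h1]
  refine ⟨nu_T w hi, fun x => ?_⟩
  rw [cX_nu' w hi, cX_hc i hc0]
  congr 1
  have h2 := Cfsg.Agent.H904.E7Main.bf_rep cs7 w (rep cs7 h7 w⁻¹ x) (sr i)
  rw [← h2]
  congr 1
  exact rep_apply_inv cs7 h7 w x

/-- the reflections -/
theorem exists_refl {a : Fin 7 → ℤ} (ha : IsRoot cs7 h7 a) : ∃ s : W7, nu K s = nN a ∧
    ∀ x, rep cs7 h7 s x = x - bf x a • a := by
  obtain ⟨w, i, rfl⟩ := ha
  refine ⟨w * cs7.simple i * w⁻¹, ?_, fun x => ?_⟩
  · rw [map_mul, map_mul, map_inv, nu_simple, ← nu_nN w (isRoot_sr cs7 h7 i), ← sl_nN, sl_ww]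
  · rw [rep_mul_apply, rep_mul_apply, TorC.rep_simple_eq, map_sub, map_zsmul, TorC.pa_apply, pairing_eq_bf,
      rep_apply_inv]
    congr 2
    have h2 := Cfsg.Agent.H904.E7Main.bf_rep cs7 w (rep cs7 h7 w⁻¹ x) (sr i)
    rw [← h2]
    congr 1
    exact rep_apply_inv cs7 h7 w x

end K

end Cfsg.Agent.R2.H27.UsB

private theorem dce_1e7395114128 : _root_.True := by
  try have : _root_.True := by simp only [_root_.Cfsg.Agent.R2.H27.UsA.nu.congr_simp]
  exact _root_.True.intro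
end

-- part: R2/H27/P6
section
set_option linter.all false
open scoped Cfsg.Agent.FastGrp

/-!
# S5934, box P6 (helper27)
-/

set_option autoImplicit false

namespace Cfsg.Agent.R2.H27.P6

open Subgroup Cfsg.Agent.R2.H27.Asm
open Cfsg.Agent.Nodes.BNOf Cfsg.Agent.Nodes.StabComb Cfsg.Agent.Nodes.LeviDec Cfsg.Agent.Nodes.OppDec Cfsg.Agent.Nodes.Bruhat

theorem hasHom_of_split {G E : Type*} [Group G] [Group E] {P L V : Subgroup G} (hLP : L ≤ P) (hVP : V ≤ P)
    (hPV : P ≤ normalizer (V : Set G)) (hV : IsPGroup 2 ↥V) (hmem : ∀ g ∈ P, ∃ l ∈ L, ∃ v ∈ V, g = l * v)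
    (hd : L ⊓ V = ⊥) {φ : E →* G} (hinj : Function.Injective φ) (hr : φ.range = L) : HasHom ↥P E := by
  have hn : (V.subgroupOf P).Normal := (Subgroup.normal_subgroupOf_iff_le_normalizer hVP).2 hPV
  have hφP : ∀ x, φ x ∈ P := fun x => hLP (hr ▸ ⟨x, rfl⟩)
  let ψ : E →* (↥P ⧸ V.subgroupOf P) := (QuotientGroup.mk' (V.subgroupOf P)).comp (φ.codRestrict P hφP)
  have hb : Function.Bijective ψ := by
    constructor
    · rw [← MonoidHom.ker_eq_bot_iff, eq_bot_iff]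
      intro x hx
      rw [MonoidHom.mem_ker] at hx
      have h1 : φ.codRestrict P hφP x ∈ V.subgroupOf P := by
        rw [← QuotientGroup.ker_mk' (V.subgroupOf P), MonoidHom.mem_ker]
        exact hx
      have h2 : φ x ∈ V := h1
      have h3 : φ x ∈ L ⊓ V := ⟨hr ▸ ⟨x, rfl⟩, h2⟩
      rw [hd, mem_bot] at h3
      rw [mem_bot]
      exact hinj (h3.trans (map_one φ).symm)
    · intro y
      obtain ⟨⟨g, hg⟩, rfl⟩ := QuotientGroup.mk'_surjective _ y
      obtain ⟨l, hl, v, hv, rfl⟩ := hmem g hg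
      rw [← hr] at hl
      obtain ⟨x, rfl⟩ := hl
      refine ⟨x, ?_⟩
      show QuotientGroup.mk' (V.subgroupOf P) (φ.codRestrict P hφP x) = QuotientGroup.mk' (V.subgroupOf P) _
      rw [QuotientGroup.mk'_eq_mk']
      exact ⟨⟨v, hVP hv⟩, hv, rfl⟩
  refine hom_of_quot hn ?_ (MulEquiv.ofBijective ψ hb).symm
  exact (hV.comap_of_injective P.subtype P.subtype_injective)

theorem box_P6 : BoxP6 := by
  obtain ⟨φ, h1, h2⟩ := Cfsg.Agent.R2.H27S.BoxOne.exists_levi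
  have h2' : φ.range = LJ Par.cs7 Par.h7 Par.T7 Par.X7 {i | i ≠ 6} := h2
  have hV : IsPGroup 2 ↥(VJ Par.cs7 Par.h7 Par.X7 ({i | i ≠ 6} : Set (Fin 7))) :=
    (Par.R7.isPGroup_Upos).to_le (VJ_le_U _)
  exact hasHom_of_split (P := Par.P7 6) LJ_le_PJ VJ_le_PJ (PJ_le_normalizer_VJ Par.R7 _) hV
    (fun g hg => (mem_PJ Par.R7).1 hg) (LJ_inf_VJ Par.R7 _) h1 h2'

end Cfsg.Agent.R2.H27.P6
end

-- part: R2/E72T/T2a
section
set_option linter.all false
open scoped Cfsg.Agent.FastGrp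

/-!
# `3·²E₆(2)` in `E₇(2)` (S5934, box T2)
-/

set_option autoImplicit false
set_option linter.unusedSectionVars false

namespace Cfsg.Agent.R2.E72T

open Cfsg.Lie Cfsg.Agent.ChevalleyStructure Cfsg.Agent.ChevalleyStructure.Elts
open Cfsg.Agent.ChevalleyStructure.StBasic
open Cfsg.Agent.ChevalleyStructure.StEmbed (ι67 m67 emb67)
open Cfsg.Agent.ChevalleyStructure.SL2Hom (up lo mem_closure_SL2)
open Cfsg.Agent.ChevalleyStructure.BruhatSplit (hG_simple_conj)
open Cfsg.Agent.Nodes.RGDFoldSL Cfsg.Agent.Nodes.RGDChev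
open Cfsg.Agent.H420.PG
open Cfsg.Agent.R2.H27
open scoped MatrixGroups

universe u

theorem hE6 : InList chevE6 := by simp

section K

variable {K : Type u} [Field K]

/-- the embedding -/
noncomputable def Θ6 (K : Type u) [Field K] : chevE6.SteinbergGroup K →* GL chevE7.Idx K :=
  (StTheta.thetaGL hE7 K).comp (StEmbed.hom emb67 K)

theorem Θ6_gen {r : ℕ} (hr : r < 72) (t : K) : Θ6 K (chevE6.stGen K r t) = xG hE7 (ι67 r) t := by
  rw [Θ6, MonoidHom.comp_apply, StEmbed.hom_stGen emb67 (show r < chevE6.nroots from hr), StTheta.thetaGL_stGen]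

theorem Θ6_mem (x : chevE6.SteinbergGroup K) : Θ6 K x ∈ chevE7.group K := StTheta.thetaGL_mem hE7 _

/-- the central element -/
noncomputable def zz (t : K) : chevE6.SteinbergGroup K :=
  hab chevE6 e6p1 e6p6 e6m1 e6m6 t * hab chevE6 e6p3 e6p5 e6m3 e6m5 (t ^ 2)

variable [CharP K 2]

theorem Θ6_zz (t : K) : Θ6 K (zz t) = hG hE7 (ι67 e6p1) t * hG hE7 (ι67 e6p6) (t ^ 2) *
    (hG hE7 (ι67 e6p3) (t ^ 2) * hG hE7 (ι67 e6p5) ((t ^ 2) ^ 2)) := by
  obtain ⟨n1, n6, n3, n5⟩ := neg67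
  rw [zz, map_mul, map_hab okP7a (fun t => Θ6_gen (by decide) t) (fun t => Θ6_gen (by decide) t)
    (fun t => by rw [n1]; exact Θ6_gen (by decide) t) (fun t => by rw [n6]; exact Θ6_gen (by decide) t),
    map_hab okP7b (fun t => Θ6_gen (by decide) t) (fun t => Θ6_gen (by decide) t)
    (fun t => by rw [n3]; exact Θ6_gen (by decide) t) (fun t => by rw [n5]; exact Θ6_gen (by decide) t)]

theorem θ6_zz (t : K) : StTheta.thetaGL hE6 K (zz t) = hG hE6 e6p1 t * hG hE6 e6p6 (t ^ 2) *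
    (hG hE6 e6p3 (t ^ 2) * hG hE6 e6p5 ((t ^ 2) ^ 2)) := by
  obtain ⟨n1, n6, n3, n5⟩ := neg6
  rw [zz, map_mul, map_hab okP6a (fun t => StTheta.thetaGL_stGen hE6 _ t) (fun t => StTheta.thetaGL_stGen hE6 _ t)
    (fun t => by rw [n1]; exact StTheta.thetaGL_stGen hE6 _ t) (fun t => by rw [n6]; exact StTheta.thetaGL_stGen hE6 _ t),
    map_hab okP6b (fun t => StTheta.thetaGL_stGen hE6 _ t) (fun t => StTheta.thetaGL_stGen hE6 _ t)
    (fun t => by rw [n3]; exact StTheta.thetaGL_stGen hE6 _ t) (fun t => by rw [n5]; exact StTheta.thetaGL_stGen hE6 _ t)]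

theorem zpow_three {t : K} (ht : t ^ 3 = 1) (h0 : t ≠ 0) {n : ℤ} (hn : (3 : ℤ) ∣ n) : t ^ n = 1 := by
  obtain ⟨m, rfl⟩ := hn
  rw [zpow_mul]
  have : t ^ (3 : ℤ) = 1 := by exact_mod_cast ht
  rw [this, one_zpow]

theorem θ6_zz_comm {t : K} (ht : t ^ 3 = 1) {s : ℕ} (hs : s < 72) (u : K) :
    StTheta.thetaGL hE6 K (zz t) * xG hE6 s u * (StTheta.thetaGL hE6 K (zz t))⁻¹ = xG hE6 s u := by
  have h0 : t ≠ 0 := fun h => by rw [h] at ht; norm_num at ht
  obtain ⟨s1, s6, s3, s5⟩ := simple6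
  have e5 := hG_simple_conj hE6 (i := 4) (by decide) (show s < chevE6.nroots from hs) (pow_ne_zero 2 (pow_ne_zero 2 h0)) u
  have e3 := hG_simple_conj hE6 (i := 2) (by decide) (show s < chevE6.nroots from hs) (pow_ne_zero 2 h0)
    (((t ^ 2) ^ 2) ^ chevE6.cartan 4 s * u)
  have e6 := hG_simple_conj hE6 (i := 5) (by decide) (show s < chevE6.nroots from hs) (pow_ne_zero 2 h0)
    ((t ^ 2) ^ chevE6.cartan 2 s * (((t ^ 2) ^ 2) ^ chevE6.cartan 4 s * u))
  have e1 := hG_simple_conj hE6 (i := 0) (by decide) (show s < chevE6.nroots from hs) h0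
    ((t ^ 2) ^ chevE6.cartan 5 s * ((t ^ 2) ^ chevE6.cartan 2 s * (((t ^ 2) ^ 2) ^ chevE6.cartan 4 s * u)))
  rw [s1] at e1
  rw [s6] at e6
  rw [s3] at e3
  rw [s5] at e5
  have e : t ^ chevE6.cartan 0 s * ((t ^ 2) ^ chevE6.cartan 5 s * ((t ^ 2) ^ chevE6.cartan 2 s *
      (((t ^ 2) ^ 2) ^ chevE6.cartan 4 s * u))) = u := by
    have e7 := zpow_three ht h0 (exp6 s hs)
    rw [zpow_add₀ h0, zpow_add₀ h0, zpow_add₀ h0, zpow_mul, zpow_mul, zpow_mul] at e7
    have e8 : ((t ^ 2) ^ 2 : K) = t ^ (4 : ℤ) := by rw [← pow_mul]; norm_cast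
    have e9 : (t ^ 2 : K) = t ^ (2 : ℤ) := by norm_cast
    rw [e8, e9]
    calc _ = t ^ chevE6.cartan 0 s * (t ^ (2 : ℤ)) ^ chevE6.cartan 5 s *
          ((t ^ (2 : ℤ)) ^ chevE6.cartan 2 s * (t ^ (4 : ℤ)) ^ chevE6.cartan 4 s) * u := by ring
      _ = u := by rw [e7, one_mul]
  rw [e] at e1
  rw [θ6_zz]
  conv_rhs => rw [← e1, ← e6, ← e3, ← e5]
  group

/-- the centre of `E₆(K)` is trivial -/
theorem center_E6 (K : Type u) [Field K] : Subgroup.center ↥(chevE6.group K) = ⊥ := by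
  obtain ⟨h1, h2⟩ := Cfsg.Agent.S1054.result (F := K) chevE6 (by simp)
  rcases h1.eq_bot_or_eq_top_of_normal (Subgroup.center ↥(chevE6.group K)) inferInstance with h3 | h3
  · exact h3
  · exfalso
    apply h2
    refine ⟨⟨fun a b => ?_⟩⟩
    have : b ∈ Subgroup.center ↥(chevE6.group K) := by rw [h3]; exact Subgroup.mem_top b
    exact Subgroup.mem_center_iff.1 this a

/-- **The element is central.** -/
theorem zz_mem_center {t : K} (ht : t ^ 3 = 1) : zz t ∈ Subgroup.center (chevE6.SteinbergGroup K) := by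
  rw [← Cfsg.Agent.H65.MultE.ker_theta (K := K) hE6, MonoidHom.mem_ker]
  have h1 : StTheta.theta hE6 K (zz t) ∈ Subgroup.center ↥(chevE6.group K) := by
    rw [Subgroup.mem_center_iff]
    rintro ⟨g, hg⟩
    apply Subtype.ext
    show g * StTheta.thetaGL hE6 K (zz t) = StTheta.thetaGL hE6 K (zz t) * g
    have h2 : chevE6.group K ≤ Subgroup.centralizer {StTheta.thetaGL hE6 K (zz t)} := by
      rw [group_le_iff hE6]
      intro r hr u
      rw [Subgroup.mem_centralizer_singleton_iff]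
      have h3 := θ6_zz_comm ht (show r < 72 from hr) u
      rw [mul_inv_eq_iff_eq_mul] at h3
      exact h3.symm
    exact Subgroup.mem_centralizer_singleton_iff.1 (h2 hg)
  rw [center_E6, Subgroup.mem_bot] at h1
  exact h1

/-- `R = ⟨words⟩` in the Steinberg group -/
noncomputable abbrev R6 (K : Type u) [Field K] : Subgroup (chevE6.SteinbergGroup K) := stS chevE6 (e6Words K 2)

theorem uab_mem {a b : ℕ} (h : (a, b) ∈ [(e6p1, e6p6), (e6m1, e6m6), (e6p3, e6p5), (e6m3, e6m5)]) (t : K) :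
    uab chevE6 a b t ∈ R6 K :=
  Subgroup.subset_closure ⟨_, Or.inr ⟨t, (a, b), h, rfl⟩, rfl⟩

theorem zz_mem (t : K) : zz t ∈ R6 K := by
  refine mul_mem ?_ ?_
  · refine mul_mem (mul_mem ?_ (mul_mem ?_ ?_)) (mul_mem ?_ (mul_mem ?_ ?_)) <;> exact uab_mem (by decide) _
  · refine mul_mem (mul_mem ?_ (mul_mem ?_ ?_)) (mul_mem ?_ (mul_mem ?_ ?_)) <;> exact uab_mem (by decide) _

end K

section Fin

variable {K : Type u} [Field K] [Fintype K] [CharP K 2]

theorem Θ6_zz_ne {t : K} (ht : t ^ 3 = 1) (h1 : t ≠ 1) : Θ6 K (zz t) ≠ 1 := by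
  have h0 : t ≠ 0 := fun h => by rw [h] at ht; norm_num at ht
  obtain ⟨l1, l6, l3, l5⟩ := ι67_pos
  intro h
  have hs : 63 < 126 := by norm_num
  have e5 := hG_conj7 (K := K) l5 (pow_ne_zero 2 (pow_ne_zero 2 h0)) 63 hs 1
  have e3 := hG_conj7 (K := K) l3 (pow_ne_zero 2 h0) 63 hs (((t ^ 2) ^ 2) ^ pr7 63 (ι67 e6p5) * 1)
  have e6 := hG_conj7 (K := K) l6 (pow_ne_zero 2 h0) 63 hs
    ((t ^ 2) ^ pr7 63 (ι67 e6p3) * (((t ^ 2) ^ 2) ^ pr7 63 (ι67 e6p5) * 1))
  have e1 := hG_conj7 (K := K) l1 h0 63 hs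
    ((t ^ 2) ^ pr7 63 (ι67 e6p6) * ((t ^ 2) ^ pr7 63 (ι67 e6p3) * (((t ^ 2) ^ 2) ^ pr7 63 (ι67 e6p5) * 1)))
  rw [← e6, ← e3, ← e5] at e1
  have e2 : Θ6 K (zz t) * xG hE7 63 1 * (Θ6 K (zz t))⁻¹ = xG hE7 63 (t ^ (-2 : ℤ)) := by
    have e : t ^ pr7 63 (ι67 e6p1) * ((t ^ 2) ^ pr7 63 (ι67 e6p6) * ((t ^ 2) ^ pr7 63 (ι67 e6p3) *
        (((t ^ 2) ^ 2) ^ pr7 63 (ι67 e6p5) * 1))) = t ^ (-2 : ℤ) := by
      rw [← exp7, zpow_add₀ h0, zpow_add₀ h0, zpow_add₀ h0, zpow_mul, zpow_mul, zpow_mul]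
      have e8 : ((t ^ 2) ^ 2 : K) = t ^ (4 : ℤ) := by rw [← pow_mul]; norm_cast
      have e9 : (t ^ 2 : K) = t ^ (2 : ℤ) := by norm_cast
      rw [e8, e9]
      ring
    rw [← e, ← hG_conj7 (K := K) l1 h0 63 hs, ← hG_conj7 (K := K) l6 (pow_ne_zero 2 h0) 63 hs,
      ← hG_conj7 (K := K) l3 (pow_ne_zero 2 h0) 63 hs, ← hG_conj7 (K := K) l5 (pow_ne_zero 2 (pow_ne_zero 2 h0)) 63 hs,
      Θ6_zz]
    group
  rw [h, one_mul, inv_one, mul_one] at e2
  have e4 := xG_injective hE7 (show 63 < chevE7.nroots by decide) e2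
  have e7 : t ^ (2 : ℤ) = 1 := by
    rw [zpow_neg] at e4
    exact (inv_eq_one.1 e4.symm)
  have e8 : t ^ 2 = 1 := by exact_mod_cast e7
  apply h1
  calc t = t ^ 2 * t := by rw [e8, one_mul]
    _ = t ^ 3 := by ring
    _ = 1 := ht

end Fin

end Cfsg.Agent.R2.E72T

private theorem dce_9eb67afa0b4e : _root_.True := by
  try have : _root_.True := by simp only [_root_.Cfsg.Agent.R2.E72T.Θ6.eq_1]
  try have : _root_.True := by simp only [_root_.Cfsg.Agent.R2.E72T.zz.eq_1]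
  exact _root_.True.intro
end

-- part: R2/H27/UsC
section
prune_inst 0x20000000000000000000000000000000
set_option linter.all false
open scoped Cfsg.Agent.FastGrp

/-!
# `3·U₆(2)` in the twisted form of `E₇(4)` (S5934, box T7; helper27)

* `sig` : the unitary Frobenius map of `SL_n(4)`; `tau_f6`, `tau_f3`;
* `f6_injective`, `f3_injective`; `zz` : the element of order 3 in the centre;
* `X6` : the image of `SU₆(2)`, `Y3` : the image of `SU₃(2)`.
-/

set_option autoImplicit false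
set_option linter.unusedSectionVars false
set_option maxRecDepth 100000

namespace Cfsg.Agent.R2.H27.UsC

open CoxeterSystem Cfsg Cfsg.Lie Cfsg.Lie.ChevalleyDatum
open Cfsg.Agent.ChevalleyStructure Cfsg.Agent.ChevalleyStructure.Elts Cfsg.Agent.ChevalleyStructure.CoxeterGeom
  Cfsg.Agent.ChevalleyStructure.CoxeterGeomTypes
open Cfsg.Agent.Tits.Roots Cfsg.Agent.Tits.Core Cfsg.Agent.Nodes Cfsg.Agent.Nodes.Reps Cfsg.Agent.Nodes.BNOf
  Cfsg.Agent.Nodes.RGDChev Cfsg.Agent.Nodes.Bruhat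
open Cfsg.Agent.KFacts.RgdField Cfsg.Agent.KFacts.RgdChevCoord
open Cfsg.Agent.H129.TorusChar
open Cfsg.Agent.H904.E7Form
open Cfsg.Agent.R2.H27.Par Cfsg.Agent.R2.H27.WeylE7 Cfsg.Agent.R2.H27.UsA Cfsg.Agent.R2.H27.UsB
open Matrix (SpecialLinearGroup)
open Subgroup

/-! ### generalities -/

section Gen

/-- a homomorphism of a quasisimple group with centre of order dividing 3 is injective if a central element survives -/
theorem injective_of {S Y : Type*} [Group S] [Finite S] [Group Y] (f : S →* Y)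
    (hs : IsSimpleGroup (S ⧸ center S)) (h3 : Nat.card (center S) ∣ 3) {a b : S} (hab : f a * f b ≠ f b * f a) {s : S}
    (hc1 : f s ≠ 1) (hcc : ∀ g, f g * f s = f s * f g) : Function.Injective f := by
  have hk : f.ker ≤ center S := Cfsg.Agent.R2.E72T.ker_le_center hs hab
  rw [← MonoidHom.ker_eq_bot_iff]
  by_contra hne
  have hk1 : Nat.card f.ker ≠ 1 := fun h => hne (Subgroup.card_eq_one.1 h)
  have hk2 : Nat.card f.ker ∣ Nat.card (center S) := Subgroup.card_dvd_of_le hk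
  have hk3 : Nat.card f.ker = 3 := by
    rcases (Nat.dvd_prime Nat.prime_three).1 (hk2.trans h3) with h | h
    · exact absurd h hk1
    · exact h
  have hk4 : f.ker = center S := by
    refine Subgroup.eq_of_le_of_card_ge hk ?_
    rw [hk3]
    exact Nat.le_of_dvd (by norm_num) h3
  have h1 : (QuotientGroup.mk' (center S) s) ∈ center (S ⧸ center S) := by
    rw [Subgroup.mem_center_iff]
    intro g
    obtain ⟨g, rfl⟩ := QuotientGroup.mk'_surjective (center S) g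
    rw [← map_mul, ← map_mul]
    refine QuotientGroup.eq.2 ?_
    rw [← hk4, MonoidHom.mem_ker, map_mul, map_inv, map_mul, map_mul, hcc g]
    group
  rcases hs.eq_bot_or_eq_top_of_normal (center (S ⧸ center S)) inferInstance with h | h
  · rw [h, Subgroup.mem_bot] at h1
    have h2 : s ∈ center S := (QuotientGroup.eq_one_iff s).1 h1
    rw [← hk4] at h2
    exact hc1 h2
  · have h2 : QuotientGroup.mk' (center S) a ∈ center (S ⧸ center S) := by rw [h]; exact Subgroup.mem_top _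
    have h3 := (Subgroup.mem_center_iff.1 h2) (QuotientGroup.mk' (center S) b)
    rw [← map_mul, ← map_mul] at h3
    have h4 := QuotientGroup.eq.1 h3
    rw [← hk4, MonoidHom.mem_ker, map_mul, map_inv, map_mul, map_mul] at h4
    apply hab
    rw [inv_mul_eq_one] at h4
    exact h4.symm

variable {K : Type} [Field K] [CharP K 2] {n : ℕ}

/-- the unitary Frobenius map -/
noncomputable def sig : SpecialLinearGroup (Fin n) K →* SpecialLinearGroup (Fin n) K where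
  toFun g := (SpecialLinearGroup.map (iterateFrobenius K 2 1) g).transpose⁻¹
  map_one' := by
    rw [map_one]
    have : (1 : SpecialLinearGroup (Fin n) K).transpose = 1 := by
      apply Subtype.ext
      exact Matrix.transpose_one
    rw [this, inv_one]
  map_mul' a b := by
    have : ∀ x y : SpecialLinearGroup (Fin n) K, (x * y).transpose = y.transpose * x.transpose := by
      intro x y
      apply Subtype.ext
      exact Matrix.transpose_mul _ _
    rw [map_mul, this, mul_inv_rev]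

theorem sig_apply (g : SpecialLinearGroup (Fin n) K) :
    sig g = (SpecialLinearGroup.map (iterateFrobenius K 2 1) g).transpose⁻¹ := rfl

theorem sig_tv {a b : Fin n} (hab : a ≠ b) (c : K) :
    sig (SpecialLinearGroup.transvection hab c) = SpecialLinearGroup.transvection hab.symm (c ^ 2) := by
  have h1 : (SpecialLinearGroup.map (iterateFrobenius K 2 1) (SpecialLinearGroup.transvection hab c)).transpose =
      SpecialLinearGroup.transvection hab.symm (c ^ 2) := by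
    apply Subtype.ext
    show ((Matrix.transvection a b c).map (iterateFrobenius K 2 1)).transpose = Matrix.transvection b a (c ^ 2)
    ext i j
    rw [Matrix.transpose_apply, Matrix.map_apply, Matrix.transvection, Matrix.transvection, Matrix.add_apply,
      Matrix.add_apply, map_add]
    congr 1
    · rw [Matrix.one_apply, Matrix.one_apply]
      by_cases h : i = j
      · rw [if_pos h, if_pos h.symm, map_one]
      · rw [if_neg h, if_neg (Ne.symm h), map_zero]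
    · rw [Matrix.single_apply, Matrix.single_apply]
      by_cases h : b = i ∧ a = j
      · rw [if_pos h, if_pos ⟨h.2, h.1⟩, iterateFrobenius_def, pow_one]
      · rw [if_neg h, if_neg (fun h2 => h ⟨h2.2, h2.1⟩), map_zero]
  rw [sig_apply, h1]
  symm
  apply eq_inv_of_mul_eq_one_left
  apply Subtype.ext
  show Matrix.transvection b a (c ^ 2) * Matrix.transvection b a (c ^ 2) = 1
  rw [Matrix.transvection_mul_transvection_same _ _ hab.symm, CharTwo.add_self_eq_zero, Matrix.transvection_zero]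

theorem sig_iff [Fintype K] (g : SpecialLinearGroup (Fin n) K) : sig g = g ↔ g ∈ Cfsg.SU n K 2 := by
  rw [Cfsg.Agent.H155.Unit.mem_SU_iff_matrix (iterateFrobenius K 2 1) (fun x => by rw [iterateFrobenius_def, pow_one]) g,
    sig_apply, inv_eq_iff_mul_eq_one]
  constructor
  · intro h
    have h1 : (SpecialLinearGroup.map (iterateFrobenius K 2 1) g).1.transpose * g.1 = 1 := congrArg Subtype.val h
    have h2 := congrArg Matrix.transpose h1
    rw [Matrix.transpose_mul, Matrix.transpose_transpose, Matrix.transpose_one] at h2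
    exact h2
  · intro h
    apply Subtype.ext
    have h1 := congrArg Matrix.transpose h
    rw [Matrix.transpose_mul, Matrix.transpose_transpose, Matrix.transpose_one] at h1
    exact h1

end Gen

/-! ### the homomorphisms -/

theorem neg5 : ∀ a b : Fin 6, a ≠ b → chevE7.neg (r5 a b) = r5 b a := by decide +kernel
theorem neg2 : ∀ a b : Fin 3, a ≠ b → chevE7.neg (r2 a b) = r2 b a := by decide +kernel

section K

variable {K : Type} [Field K] [Fintype K] [CharP K 2]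

theorem tau_f6 (g : SpecialLinearGroup (Fin 6) K) : tau (f6 K g) = f6 K (sig g) := by
  have h1 : (⊤ : Subgroup (SpecialLinearGroup (Fin 6) K)) ≤ (tau.comp (f6 K)).eqLocus ((f6 K).comp sig) := by
    rw [← Cfsg.Agent.LieClassical.SLGen.closure_transvections, Subgroup.closure_le]
    rintro _ ⟨a, b, hab, c, rfl⟩
    show tau (f6 K _) = f6 K (sig _)
    rw [sig_tv, f6_tv, f6_tv, tau_x (r5_lt a b), neg5 a b hab]
  exact h1 (Subgroup.mem_top g)

theorem tau_f3 (g : SpecialLinearGroup (Fin 3) K) : tau (f3 K g) = f3 K (sig g) := by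
  have h1 : (⊤ : Subgroup (SpecialLinearGroup (Fin 3) K)) ≤ (tau.comp (f3 K)).eqLocus ((f3 K).comp sig) := by
    rw [← Cfsg.Agent.LieClassical.SLGen.closure_transvections, Subgroup.closure_le]
    rintro _ ⟨a, b, hab, c, rfl⟩
    show tau (f3 K _) = f3 K (sig _)
    rw [sig_tv, f3_tv, f3_tv, tau_x (r2_lt a b), neg2 a b hab]
  exact h1 (Subgroup.mem_top g)

/-- reflections -/
noncomputable def n6 {a b : Fin 6} (hab : a ≠ b) : SpecialLinearGroup (Fin 6) K :=
  SpecialLinearGroup.transvection hab 1 * SpecialLinearGroup.transvection hab.symm 1 *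
    SpecialLinearGroup.transvection hab 1

/-- torus elements -/
noncomputable def h6 {a b : Fin 6} (hab : a ≠ b) (c : K) : SpecialLinearGroup (Fin 6) K :=
  SpecialLinearGroup.transvection hab c * SpecialLinearGroup.transvection hab.symm c⁻¹ *
    SpecialLinearGroup.transvection hab c * n6 hab

/-- reflections -/
noncomputable def n3 {a b : Fin 3} (hab : a ≠ b) : SpecialLinearGroup (Fin 3) K :=
  SpecialLinearGroup.transvection hab 1 * SpecialLinearGroup.transvection hab.symm 1 *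
    SpecialLinearGroup.transvection hab 1

/-- torus elements -/
noncomputable def h3 {a b : Fin 3} (hab : a ≠ b) (c : K) : SpecialLinearGroup (Fin 3) K :=
  SpecialLinearGroup.transvection hab c * SpecialLinearGroup.transvection hab.symm c⁻¹ *
    SpecialLinearGroup.transvection hab c * n3 hab

theorem f6_n6 {a b : Fin 6} (hab : a ≠ b) : f6 K (n6 hab) = nN (rv (r5 a b)) := by
  unfold n6 nN
  rw [map_mul, map_mul, f6_tv, f6_tv, ← rv_neg (r5_lt a b), neg5 a b hab]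

theorem f6_h6 {a b : Fin 6} (hab : a ≠ b) (c : K) : f6 K (h6 hab c) = hH (rv (r5 a b)) c := by
  unfold h6 hH
  rw [map_mul, map_mul, map_mul, f6_n6, f6_tv, f6_tv, ← rv_neg (r5_lt a b), neg5 a b hab]

theorem f3_n3 {a b : Fin 3} (hab : a ≠ b) : f3 K (n3 hab) = nN (rv (r2 a b)) := by
  unfold n3 nN
  rw [map_mul, map_mul, f3_tv, f3_tv, ← rv_neg (r2_lt a b), neg2 a b hab]

theorem f3_h3 {a b : Fin 3} (hab : a ≠ b) (c : K) : f3 K (h3 hab c) = hH (rv (r2 a b)) c := by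
  unfold h3 hH
  rw [map_mul, map_mul, map_mul, f3_n3, f3_tv, f3_tv, ← rv_neg (r2_lt a b), neg2 a b hab]

/-- torus elements commuting with root elements -/
theorem xc_comm {t : Y K} (ht : t ∈ T K) {r : ℕ} (hr : r < 126) (h : cX hp7 t (rv r) = 1) (c : K) :
    t * xc hp7 (rv r) c = xc hp7 (rv r) c * t := by
  have h1 := (act hp7 (show r < chevE7.nroots from hr) ht).2 c
  rw [← cX_vec hp7 ht (show r < chevE7.nroots from hr), h, one_mul, mul_inv_eq_iff_eq_mul] at h1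
  exact h1

theorem cX_of_comm {t : Y K} (ht : t ∈ T K) {r : ℕ} (hr : r < 126)
    (h : t * xc hp7 (rv r) 1 = xc hp7 (rv r) (1 : K) * t) : cX hp7 t (rv r) = 1 := by
  have h1 := (act hp7 (show r < chevE7.nroots from hr) ht).2 1
  rw [← cX_vec hp7 ht (show r < chevE7.nroots from hr), mul_one, mul_inv_eq_iff_eq_mul, h] at h1
  have h2 := mul_right_cancel h1
  exact (xc_inj hp7 (show r < chevE7.nroots from hr) h2).symm

theorem f6_commute {y : Y K} (h : ∀ a b : Fin 6, a ≠ b → ∀ c : K, xc hp7 (rv (r5 a b)) c * y = y * xc hp7 (rv (r5 a b)) c)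
    (g : SpecialLinearGroup (Fin 6) K) : f6 K g * y = y * f6 K g :=
  Cfsg.Agent.H150.E6T.commute_hom (f6 K) y (fun a b hab c => by rw [f6_tv]; exact h a b hab c) g

theorem f3_commute {y : Y K} (h : ∀ a b : Fin 3, a ≠ b → ∀ c : K, xc hp7 (rv (r2 a b)) c * y = y * xc hp7 (rv (r2 a b)) c)
    (g : SpecialLinearGroup (Fin 3) K) : f3 K g * y = y * f3 K g :=
  Cfsg.Agent.H150.E6T.commute_hom (f3 K) y (fun a b hab c => by rw [f3_tv]; exact h a b hab c) g

/-! ### the element of order three -/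

theorem ne01 : (0 : Fin 6) ≠ 1 := by decide
theorem ne12 : (1 : Fin 6) ≠ 2 := by decide
theorem ne34 : (3 : Fin 6) ≠ 4 := by decide
theorem ne45 : (4 : Fin 6) ≠ 5 := by decide
theorem me01 : (0 : Fin 3) ≠ 1 := by decide
theorem me12 : (1 : Fin 3) ≠ 2 := by decide

/-- the scalar matrix -/
noncomputable def z6 (ζ : K) : SpecialLinearGroup (Fin 6) K := h6 ne01 ζ * h6 ne12 (ζ ^ 2) * (h6 ne34 ζ * h6 ne45 (ζ ^ 2))

/-- the scalar matrix -/
noncomputable def z3 (ζ : K) : SpecialLinearGroup (Fin 3) K := h3 me01 ζ * h3 me12 (ζ ^ 2)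

/-- the functional -/
def fz (x : Fin 7 → ℤ) : ℤ :=
  bf x (rv (r5 0 1)) + 2 * bf x (rv (r5 1 2)) + (bf x (rv (r5 3 4)) + 2 * bf x (rv (r5 4 5)))

def fy (x : Fin 7 → ℤ) : ℤ := bf x (rv (r2 0 1)) + 2 * bf x (rv (r2 1 2))

theorem T_mul {s t : Y K} (hs : s ∈ T K) (ht : t ∈ T K) : s * t ∈ T K := mul_mem hs ht

theorem z6_mem {ζ : K} (h0 : ζ ≠ 0) : f6 K (z6 ζ) ∈ T K := by
  have h2 := pow_ne_zero 2 h0
  unfold z6
  rw [map_mul, map_mul, map_mul, f6_h6, f6_h6, f6_h6, f6_h6]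
  exact T_mul (T_mul (hH_spec (isRoot_rv (r5_lt _ _)) h0).1 (hH_spec (isRoot_rv (r5_lt _ _)) h2).1)
    (T_mul (hH_spec (isRoot_rv (r5_lt _ _)) h0).1 (hH_spec (isRoot_rv (r5_lt _ _)) h2).1)

theorem cX_z6 {ζ : K} (h0 : ζ ≠ 0) (x : Fin 7 → ℤ) : cX hp7 (f6 K (z6 ζ)) x = ζ ^ fz x := by
  have h2 := pow_ne_zero 2 h0
  have a1 := hH_spec (isRoot_rv (r5_lt 0 1)) h0
  have a2 := hH_spec (isRoot_rv (r5_lt 1 2)) h2
  have a3 := hH_spec (isRoot_rv (r5_lt 3 4)) h0
  have a4 := hH_spec (isRoot_rv (r5_lt 4 5)) h2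
  unfold z6
  rw [map_mul, map_mul, map_mul, f6_h6, f6_h6, f6_h6, f6_h6, cX_mul hp7 (T_mul a1.1 a2.1) (T_mul a3.1 a4.1),
    cX_mul hp7 a1.1 a2.1, cX_mul hp7 a3.1 a4.1, a1.2, a2.2, a3.2, a4.2, fz]
  have h3 : ∀ m : ℤ, (ζ ^ 2) ^ m = ζ ^ (2 * m) := fun m => by
    rw [← zpow_natCast, ← zpow_mul, Nat.cast_ofNat]
  rw [h3, h3, zpow_add₀ h0, zpow_add₀ h0, zpow_add₀ h0]

theorem z3_mem {ζ : K} (h0 : ζ ≠ 0) : f3 K (z3 ζ) ∈ T K := by
  have h2 := pow_ne_zero 2 h0
  unfold z3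
  rw [map_mul, f3_h3, f3_h3]
  exact T_mul (hH_spec (isRoot_rv (r2_lt _ _)) h0).1 (hH_spec (isRoot_rv (r2_lt _ _)) h2).1

theorem cX_z3 {ζ : K} (h0 : ζ ≠ 0) (x : Fin 7 → ℤ) : cX hp7 (f3 K (z3 ζ)) x = ζ ^ fy x := by
  have h2 := pow_ne_zero 2 h0
  have a1 := hH_spec (isRoot_rv (r2_lt 0 1)) h0
  have a2 := hH_spec (isRoot_rv (r2_lt 1 2)) h2
  unfold z3
  rw [map_mul, f3_h3, f3_h3, cX_mul hp7 a1.1 a2.1, a1.2, a2.2, fy]
  have h3 : ∀ m : ℤ, (ζ ^ 2) ^ m = ζ ^ (2 * m) := fun m => by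
    rw [← zpow_natCast, ← zpow_mul, Nat.cast_ofNat]
  rw [h3, zpow_add₀ h0]

theorem fz5 : ∀ a b : Fin 6, a ≠ b → fz (rv (r5 a b)) % 3 = 0 := by decide +kernel
theorem fz2 : ∀ a b : Fin 3, a ≠ b → fz (rv (r2 a b)) % 3 = 0 := by decide +kernel
theorem fz_fy : ∀ i : Fin 7, (fz (sr i) - fy (sr i)) % 3 = 0 := by decide +kernel
theorem fz4 : fz (sr 4) % 3 = 2 := by decide +kernel

/-- roots on which `z` is trivial -/
theorem fz_root : ∀ r ∈ List.range 126, fz (rv r) % 3 = 0 → (∃ a b : Fin 6, a ≠ b ∧ r5 a b = r) ∨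
    (∃ a b : Fin 3, a ≠ b ∧ r2 a b = r) := by decide +kernel

theorem zpow_eq_iff {ζ : K} (hζ : IsPrimitiveRoot ζ 3) (a b : ℤ) : ζ ^ a = ζ ^ b ↔ (a - b) % 3 = 0 := by
  have h0 : ζ ≠ 0 := hζ.ne_zero (by norm_num)
  rw [← sub_eq_zero (a := ζ ^ a), ← Int.dvd_iff_emod_eq_zero]
  have h1 := hζ.zpow_eq_one_iff_dvd (a - b)
  rw [zpow_sub₀ h0, div_eq_one_iff_eq (zpow_ne_zero _ h0)] at h1
  rw [sub_eq_zero]
  exact h1

theorem zpow_one_iff {ζ : K} (hζ : IsPrimitiveRoot ζ 3) (a : ℤ) : ζ ^ a = 1 ↔ a % 3 = 0 := by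
  have h1 := zpow_eq_iff hζ a 0
  rwa [zpow_zero, sub_zero] at h1

theorem exists_zeta (hK : Fintype.card K = 4) : ∃ ζ : K, IsPrimitiveRoot ζ 3 := by
  obtain ⟨u, hu⟩ := IsCyclic.exists_ofOrder_eq_natCard (α := Kˣ)
  rw [Nat.card_units, Nat.card_eq_fintype_card, hK] at hu
  have h1 : orderOf (u : K) = 3 := by rw [orderOf_units]; exact hu
  exact ⟨u, by rw [← h1]; exact IsPrimitiveRoot.orderOf _⟩

variable {ζ : K} (hζ : IsPrimitiveRoot ζ 3)

include hζ

theorem z3_eq : f3 K (z3 ζ) = f6 K (z6 ζ) := by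
  have h0 : ζ ≠ 0 := hζ.ne_zero (by norm_num)
  refine cX_inj hp7 (z3_mem h0) (z6_mem h0) fun i => ?_
  rw [cX_z3 h0, cX_z6 h0, zpow_eq_iff hζ]
  have := fz_fy i
  omega

theorem z6_ne : f6 K (z6 ζ) ≠ 1 := by
  have h0 : ζ ≠ 0 := hζ.ne_zero (by norm_num)
  intro h
  have h1 := cX_z6 h0 (sr 4)
  rw [h, cX_one] at h1
  have h2 := (zpow_one_iff hζ _).1 h1.symm
  rw [fz4] at h2
  omega

theorem z6_pow : f6 K (z6 ζ) ^ 3 = 1 := by
  have h0 : ζ ≠ 0 := hζ.ne_zero (by norm_num)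
  refine cX_inj hp7 (pow_mem (z6_mem h0) 3) (one_mem _) fun i => ?_
  rw [cX_pow hp7 (z6_mem h0), cX_z6 h0, cX_one, ← zpow_natCast, ← zpow_mul, mul_comm, zpow_mul, zpow_natCast,
    hζ.pow_eq_one, one_zpow]

theorem z6_order : orderOf (f6 K (z6 ζ)) = 3 := orderOf_eq_prime (z6_pow hζ) (z6_ne hζ)

theorem z6_xc5 {a b : Fin 6} (hab : a ≠ b) (c : K) :
    xc hp7 (rv (r5 a b)) c * f6 K (z6 ζ) = f6 K (z6 ζ) * xc hp7 (rv (r5 a b)) c := by
  have h0 : ζ ≠ 0 := hζ.ne_zero (by norm_num)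
  refine (xc_comm (z6_mem h0) (r5_lt a b) ?_ c).symm
  rw [cX_z6 h0, zpow_one_iff hζ]
  exact fz5 a b hab

theorem z6_xc2 {a b : Fin 3} (hab : a ≠ b) (c : K) :
    xc hp7 (rv (r2 a b)) c * f6 K (z6 ζ) = f6 K (z6 ζ) * xc hp7 (rv (r2 a b)) c := by
  have h0 : ζ ≠ 0 := hζ.ne_zero (by norm_num)
  refine (xc_comm (z6_mem h0) (r2_lt a b) ?_ c).symm
  rw [cX_z6 h0, zpow_one_iff hζ]
  exact fz2 a b hab

/-- `z` commutes with the images -/
theorem z6_comm6 (g : SpecialLinearGroup (Fin 6) K) : f6 K g * f6 K (z6 ζ) = f6 K (z6 ζ) * f6 K g :=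
  f6_commute (fun _ _ hab c => z6_xc5 hζ hab c) g

theorem z6_comm3 (g : SpecialLinearGroup (Fin 3) K) : f3 K g * f6 K (z6 ζ) = f6 K (z6 ζ) * f3 K g :=
  f3_commute (fun _ _ hab c => z6_xc2 hζ hab c) g

omit hζ in
theorem card_centerSL (hK : Fintype.card K = 4) (n : ℕ) : Nat.card (center (SpecialLinearGroup (Fin n) K)) ∣ 3 := by
  have h1 := Nat.card_congr (Matrix.SpecialLinearGroup.center_equiv_rootsOfUnity (n := Fin n) (R := K)).toEquiv
  have h2 : Nat.card Kˣ = 3 := by rw [Nat.card_units, Nat.card_eq_fintype_card, hK]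
  rw [h1, ← h2]
  exact Subgroup.card_subgroup_dvd_card _

theorem root_nc {r : ℕ} (hr : r < 126) (hbf : bf (rv r) (rv r) = 2) :
    hH (rv r) ζ * xc hp7 (rv r) 1 ≠ xc hp7 (rv r) (1 : K) * hH (rv r) ζ := by
  have h0 : ζ ≠ 0 := hζ.ne_zero (by norm_num)
  intro h
  obtain ⟨h1, h2⟩ := hH_spec (isRoot_rv hr) h0
  have h3 := cX_of_comm h1 hr h
  rw [h2, hbf] at h3
  have h4 := (zpow_one_iff hζ 2).1 h3
  omega

theorem f6_injective (hK : Fintype.card K = 4) : Function.Injective (f6 K) := by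
  refine injective_of (f6 K) (Cfsg.Agent.S0249.result 6 (by norm_num)) (card_centerSL hK 6)
    (a := h6 ne01 ζ) (b := SpecialLinearGroup.transvection ne01 1) ?_ (z6_ne hζ) (z6_comm6 hζ)
  rw [f6_h6, f6_tv]
  exact root_nc hζ (r5_lt 0 1) (by decide +kernel)

theorem f3_injective (hK : Fintype.card K = 4) : Function.Injective (f3 K) := by
  refine injective_of (f3 K) (Cfsg.Agent.S0249.result 3 (by norm_num)) (card_centerSL hK 3)
    (a := h3 me01 ζ) (b := SpecialLinearGroup.transvection me01 1) (s := z3 ζ) ?_ ?_ ?_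
  · rw [f3_h3, f3_tv]
    exact root_nc hζ (r2_lt 0 1) (by decide +kernel)
  · rw [z3_eq hζ]
    exact z6_ne hζ
  · intro g
    rw [z3_eq hζ]
    exact z6_comm3 hζ g

end K

end Cfsg.Agent.R2.H27.UsC

private theorem dce_b992101c4bd2 : _root_.True := by
  try have : _root_.True := by simp only [_root_.Cfsg.Agent.R2.H27.UsC.fy.eq_1]
  try have : _root_.True := by simp only [_root_.Cfsg.Agent.R2.H27.UsC.fz.eq_1]
  exact _root_.True.intro
end
end
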