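import Cfsg.Agent.R2.H27.Asm_m3
import Cfsg.Agent.ChevFast.E7
import Cfsg.Agent.ChevFast.Lin
import Cfsg.Agent.H501.TwoCyc.Ord_m3
import Cfsg.Agent.FastGrp
import Cfsg.Agent.Prune
set_option linter.all false

section
prune_inst 0x7f00000000000000000000000000000000000000000000000000000000000000000000000000000000000000000000000000000000000000000000000000000000000000000000000000000000000000003fffffffffffffffffffffffffffbeffbdffffffff

-- part: R2/H27/UsD
section
set_option linter.all false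
open scoped Cfsg.Agent.FastGrp

/-!
# The torus, `z` and the centraliser of `z` in the twisted form of `E₇(4)` (S5934, box T7; helper27)

* `cent_T` : `C(T) ≤ T`;
* `eq_zz` : the condition on the cyclic subgroups of the torus normalised by `C(z)`;
* `three_ten` : `3 ^ 10 ∣ |C(z)|`.
-/

set_option autoImplicit false
set_option linter.unusedSectionVars false
set_option maxRecDepth 100000

namespace Cfsg.Agent.R2.H27.UsD

open CoxeterSystem Cfsg Cfsg.Lie Cfsg.Lie.ChevalleyDatum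
open Cfsg.Agent.ChevalleyStructure Cfsg.Agent.ChevalleyStructure.Elts Cfsg.Agent.ChevalleyStructure.CoxeterGeom
  Cfsg.Agent.ChevalleyStructure.CoxeterGeomTypes
open Cfsg.Agent.Tits.Roots Cfsg.Agent.Tits.Core Cfsg.Agent.Nodes Cfsg.Agent.Nodes.Reps Cfsg.Agent.Nodes.BNOf
  Cfsg.Agent.Nodes.RGDChev Cfsg.Agent.Nodes.Bruhat
open Cfsg.Agent.KFacts.RgdField Cfsg.Agent.KFacts.RgdChevCoord
open Cfsg.Agent.H129.TorusChar
open Cfsg.Agent.BpExc.TorChev
open Cfsg.Agent.H904.E7Form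
open Cfsg.Agent.R2.H27.Par Cfsg.Agent.R2.H27.WeylE7 Cfsg.Agent.R2.H27.UsA Cfsg.Agent.R2.H27.UsB Cfsg.Agent.R2.H27.UsC
open Matrix (SpecialLinearGroup)
open Subgroup

/-! ### tables -/

/-- the roots of `A₅ + A₂` -/
def LL : List ℕ := [1, 2, 3, 7, 0, 93, 94, 95, 99, 73, 74, 83, 69, 79, 78, 124, 32, 123, 31, 52, 122, 30, 51, 56, 118,
  26, 42, 46, 47, 125, 64, 65, 61, 63, 60, 62]

theorem LL_cases : ∀ r ∈ LL, (∃ a b : Fin 6, a ≠ b ∧ r5 a b = r) ∨ (∃ a b : Fin 3, a ≠ b ∧ r2 a b = r) := by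
  decide +kernel

theorem LL_tab : ∀ r ∈ LL, r < 126 ∧ ∃ r' ∈ LL, bf (rv r') (rv r) = -1 ∧
    ∃ y ∈ List.range 126, bf (rv y) (rv r) = 1 ∧ bf (rv y) (rv r') = 0 := by decide +kernel

theorem LL_simple : ∀ i : Fin 7, i ≠ 4 → chevE7.simple i ∈ LL := by decide +kernel

theorem fz_simple : ∀ i : Fin 7, i ≠ 4 → fz (sr i) % 3 = 0 := by decide +kernel

section Refl

/-- reflections of simply laced roots -/
def IsRefl (s : W7) (a : Fin 7 → ℤ) : Prop := ∀ x, rep cs7 h7 s x = x - bf x a • a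

theorem rep_inj {s t : W7} (h : ∀ x, rep cs7 h7 s x = rep cs7 h7 t x) : s = t :=
  rep_injective cs7 h7 (LinearMap.ext h)

theorem bf_sub' (x y z : Fin 7 → ℤ) : bf (y - z) x = bf y x - bf z x := by
  have h1 := bf_add' x y (-z)
  have h2 := bf_smul' x z (-1)
  rw [← sub_eq_add_neg] at h1
  rw [h1]
  have h3 : (-1 : ℤ) • z = -z := neg_one_smul _ _
  rw [h3] at h2
  rw [h2]; ring

theorem refl_comm {s t : W7} {a b : Fin 7 → ℤ} (hs : IsRefl s a) (ht : IsRefl t b) (h : bf a b = 0) : Commute s t := by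
  apply rep_inj
  intro x
  have h' : bf b a = 0 := by rw [bf_symm]; exact h
  rw [rep_mul_apply, rep_mul_apply, ht, hs, hs, ht, bf_sub', bf_sub', bf_smul', bf_smul', h, h', mul_zero, mul_zero,
    sub_zero, sub_zero]
  abel

theorem refl_three {s t : W7} {a b : Fin 7 → ℤ} (hs : IsRefl s a) (ht : IsRefl t b) (ha : bf a a = 2) (hb : bf b b = 2)
    (h : bf a b = -1) : (s * t) ^ 3 = 1 := by
  have h' : bf b a = -1 := by rw [bf_symm]; exact h
  have key : ∀ x, rep cs7 h7 (s * t) x = x - (bf x a + bf x b) • a - bf x b • b := by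
    intro x
    rw [rep_mul_apply, ht, hs, bf_sub', bf_smul', h']
    module
  have k1 : ∀ x, bf (rep cs7 h7 (s * t) x) a = - bf x a - bf x b := by
    intro x
    rw [key, bf_sub', bf_sub', bf_smul', bf_smul', ha, h']; ring
  have k2 : ∀ x, bf (rep cs7 h7 (s * t) x) b = bf x a := by
    intro x
    rw [key, bf_sub', bf_sub', bf_smul', bf_smul', hb, h]; ring
  apply rep_inj
  intro x
  rw [pow_succ, pow_two, rep_mul_apply, rep_mul_apply, map_one, Module.End.one_apply]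
  set y := rep cs7 h7 (s * t) x with hy
  have e1 := k1 x
  have e2 := k2 x
  rw [← hy] at e1 e2
  have e3 := k1 y
  have e4 := k2 y
  rw [key (rep cs7 h7 (s * t) y), e3, e4, key y, e1, e2, hy, key x]
  module

theorem refl_fix {s : W7} {a x : Fin 7 → ℤ} (hs : IsRefl s a) (h : bf x a = 0) : rep cs7 h7 s x = x := by
  rw [hs, h, zero_smul, sub_zero]

theorem fix_of_zpowers {c x : W7} (hc : c ^ 3 = 1) (hx : x ∈ zpowers c) (hx1 : x ≠ 1) {v : Fin 7 → ℤ}
    (h : rep cs7 h7 x v = v) : rep cs7 h7 c v = v := by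
  have h1 : c ∈ zpowers x := by
    have hc1 : c ≠ 1 := by
      rintro rfl
      rw [zpowers_one_eq_bot, mem_bot] at hx
      exact hx1 hx
    have : Fact (Nat.Prime 3) := ⟨Nat.prime_three⟩
    have h2 : Nat.card ↥(zpowers c) = 3 := by rw [Nat.card_zpowers, orderOf_eq_prime hc hc1]
    have h3 := mem_zpowers_of_prime_card (p := 3) h2 (g := (⟨x, hx⟩ : ↥(zpowers c)))
      (g' := ⟨c, mem_zpowers c⟩) (fun h => hx1 (congrArg Subtype.val h))
    obtain ⟨n, hn⟩ := mem_zpowers_iff.1 h3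
    exact mem_zpowers_iff.2 ⟨n, congrArg Subtype.val hn⟩
  have h2 : ∀ y ∈ zpowers x, rep cs7 h7 y v = v := by
    intro y hy
    have : zpowers x ≤ { carrier := {y | rep cs7 h7 y v = v}
                         one_mem' := by rw [Set.mem_ofPred_eq, map_one, Module.End.one_apply]
                         mul_mem' := by
                          intro a b ha hb
                          rw [Set.mem_ofPred_eq] at ha hb ⊢
                          rw [rep_mul_apply, hb, ha]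
                         inv_mem' := by
                          intro a ha
                          rw [Set.mem_ofPred_eq] at ha ⊢
                          conv_lhs => rw [← ha]
                          exact rep_inv_apply _ _ _ _ : Subgroup W7 } := by
      rw [zpowers_le]
      exact h
    exact this hy
  exact h2 c h1

/-- **A subgroup of order 27 of the Weyl group.** -/
theorem exists_V : ∃ V : Subgroup W7, Nat.card ↥V = 27 ∧ ∀ H : Subgroup W7,
    (∀ s : W7, ∀ r ∈ LL, IsRefl s (rv r) → s ∈ H) → V ≤ H := by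
  have hex : ∀ r < 126, ∃ s : W7, IsRefl s (rv r) := by
    intro r hr
    obtain ⟨w, i, hw⟩ := isRoot_rv hr
    refine ⟨w * cs7.simple i * w⁻¹, fun x => ?_⟩
    rw [hw, rep_mul_apply, rep_mul_apply, TorC.rep_simple_eq, map_sub, map_zsmul, TorC.pa_apply, pairing_eq_bf,
      rep_apply_inv]
    congr 2
    have h2 := Cfsg.Agent.H904.E7Main.bf_rep cs7 w (rep cs7 h7 w⁻¹ x) (sr i)
    rw [← h2]
    congr 1
    exact rep_apply_inv cs7 h7 w x
  obtain ⟨a1, ha1⟩ := hex 0 (by decide)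
  obtain ⟨b1, hb1⟩ := hex 93 (by decide)
  obtain ⟨a2, ha2⟩ := hex 69 (by decide)
  obtain ⟨b2, hb2⟩ := hex 78 (by decide)
  obtain ⟨a3, ha3⟩ := hex 64 (by decide)
  obtain ⟨b3, hb3⟩ := hex 63 (by decide)
  have h1 : (a1 * b1) ^ 3 = 1 := refl_three ha1 hb1 (by decide +kernel) (by decide +kernel) (by decide +kernel)
  have h2 : (a2 * b2) ^ 3 = 1 := refl_three ha2 hb2 (by decide +kernel) (by decide +kernel) (by decide +kernel)
  have h3 : (a3 * b3) ^ 3 = 1 := refl_three ha3 hb3 (by decide +kernel) (by decide +kernel) (by decide +kernel)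
  have c12 : Commute (a1 * b1) (a2 * b2) :=
    ((refl_comm ha1 ha2 (by decide +kernel)).mul_right (refl_comm ha1 hb2 (by decide +kernel))).mul_left
      ((refl_comm hb1 ha2 (by decide +kernel)).mul_right (refl_comm hb1 hb2 (by decide +kernel)))
  have c13 : Commute (a1 * b1) (a3 * b3) :=
    ((refl_comm ha1 ha3 (by decide +kernel)).mul_right (refl_comm ha1 hb3 (by decide +kernel))).mul_left
      ((refl_comm hb1 ha3 (by decide +kernel)).mul_right (refl_comm hb1 hb3 (by decide +kernel)))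
  have c23 : Commute (a2 * b2) (a3 * b3) :=
    ((refl_comm ha2 ha3 (by decide +kernel)).mul_right (refl_comm ha2 hb3 (by decide +kernel))).mul_left
      ((refl_comm hb2 ha3 (by decide +kernel)).mul_right (refl_comm hb2 hb3 (by decide +kernel)))
  -- action on roots
  have m1 : rep cs7 h7 (a1 * b1) (rv 93) ≠ rv 93 := by
    rw [rep_mul_apply, hb1, ha1]
    decide +kernel
  have m2 : rep cs7 h7 (a2 * b2) (rv 78) ≠ rv 78 := by
    rw [rep_mul_apply, hb2, ha2]
    decide +kernel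
  have m3 : rep cs7 h7 (a3 * b3) (rv 63) ≠ rv 63 := by
    rw [rep_mul_apply, hb3, ha3]
    decide +kernel
  have f21 : rep cs7 h7 (a2 * b2) (rv 93) = rv 93 := by
    rw [rep_mul_apply, refl_fix hb2 (by decide +kernel), refl_fix ha2 (by decide +kernel)]
  have f13 : rep cs7 h7 (a1 * b1) (rv 63) = rv 63 := by
    rw [rep_mul_apply, refl_fix hb1 (by decide +kernel), refl_fix ha1 (by decide +kernel)]
  have f23 : rep cs7 h7 (a2 * b2) (rv 63) = rv 63 := by
    rw [rep_mul_apply, refl_fix hb2 (by decide +kernel), refl_fix ha2 (by decide +kernel)]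
  have o : ∀ {c : W7} {v : Fin 7 → ℤ}, c ^ 3 = 1 → rep cs7 h7 c v ≠ v → Nat.card ↥(zpowers c) = 3 := by
    intro c v hc hv
    have : Fact (Nat.Prime 3) := ⟨Nat.prime_three⟩
    rw [Nat.card_zpowers, orderOf_eq_prime hc]
    rintro rfl
    exact hv (by rw [map_one, Module.End.one_apply])
  have hfix : ∀ {S : Subgroup W7} {v : Fin 7 → ℤ}, (∀ x ∈ S, rep cs7 h7 x v = v) → ∀ {c : W7}, c ^ 3 = 1 →
      rep cs7 h7 c v ≠ v → S ⊓ zpowers c = ⊥ := by
    intro S v hS c hc hv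
    rw [eq_bot_iff]
    rintro x ⟨hx, hxc⟩
    rw [mem_bot]
    by_contra hne
    exact hv (fix_of_zpowers hc hxc hne (hS x hx))
  have fixS : ∀ v : Fin 7 → ℤ, ∃ F : Subgroup W7, ∀ y, y ∈ F ↔ rep cs7 h7 y v = v := by
    intro v
    refine ⟨{ carrier := {y | rep cs7 h7 y v = v}
              one_mem' := by rw [Set.mem_ofPred_eq, map_one, Module.End.one_apply]
              mul_mem' := by
                intro a b ha hb
                rw [Set.mem_ofPred_eq] at ha hb ⊢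
                rw [rep_mul_apply, hb, ha]
              inv_mem' := by
                intro a ha
                rw [Set.mem_ofPred_eq] at ha ⊢
                conv_lhs => rw [← ha]
                exact rep_inv_apply _ _ _ _ }, fun y => Iff.rfl⟩
  obtain ⟨F93, hF93⟩ := fixS (rv 93)
  obtain ⟨F63, hF63⟩ := fixS (rv 63)
  have i12 : zpowers (a2 * b2) ⊓ zpowers (a1 * b1) = ⊥ := by
    refine hfix (v := rv 93) (fun x hx => ?_) h1 m1
    have : zpowers (a2 * b2) ≤ F93 := by rw [zpowers_le, hF93]; exact f21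
    exact (hF93 x).1 (this hx)
  have n12 : zpowers (a1 * b1) ≤ normalizer ((zpowers (a2 * b2) : Subgroup W7) : Set W7) := by
    refine le_trans ?_ (centralizer_le_normalizer _)
    rw [zpowers_le, mem_centralizer_iff]
    intro x hx
    obtain ⟨n, rfl⟩ := mem_zpowers_iff.1 hx
    exact (c12.zpow_right n).eq.symm
  have card12 : Nat.card ↥(zpowers (a2 * b2) ⊔ zpowers (a1 * b1) : Subgroup W7) = 9 := by
    rw [TorD.card_sup_norm n12 i12, o h2 m2, o h1 m1]
  have le63 : zpowers (a2 * b2) ⊔ zpowers (a1 * b1) ≤ F63 := by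
    refine sup_le ?_ ?_
    · rw [zpowers_le, hF63]; exact f23
    · rw [zpowers_le, hF63]; exact f13
  have i3 : (zpowers (a2 * b2) ⊔ zpowers (a1 * b1)) ⊓ zpowers (a3 * b3) = ⊥ :=
    hfix (v := rv 63) (fun x hx => (hF63 x).1 (le63 hx)) h3 m3
  have cc3 : ∀ x ∈ zpowers (a2 * b2) ⊔ zpowers (a1 * b1), (a3 * b3) * x = x * (a3 * b3) := by
    have : zpowers (a2 * b2) ⊔ zpowers (a1 * b1) ≤ centralizer {a3 * b3} := by
      refine sup_le ?_ ?_
      · rw [zpowers_le, mem_centralizer_singleton_iff]; exact c23.eq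
      · rw [zpowers_le, mem_centralizer_singleton_iff]; exact c13.eq
    intro x hx
    exact (mem_centralizer_singleton_iff.1 (this hx)).symm
  have n3 : zpowers (a3 * b3) ≤ normalizer ((zpowers (a2 * b2) ⊔ zpowers (a1 * b1) : Subgroup W7) : Set W7) := by
    refine le_trans ?_ (centralizer_le_normalizer _)
    rw [zpowers_le, mem_centralizer_iff]
    intro x hx
    exact (cc3 x hx).symm
  refine ⟨zpowers (a2 * b2) ⊔ zpowers (a1 * b1) ⊔ zpowers (a3 * b3), ?_, fun H hH => ?_⟩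
  · rw [TorD.card_sup_norm n3 i3, card12, o h3 m3]
  · refine sup_le (sup_le ?_ ?_) ?_
    · rw [zpowers_le]
      exact mul_mem (hH _ 69 (by decide) ha2) (hH _ 78 (by decide) hb2)
    · rw [zpowers_le]
      exact mul_mem (hH _ 0 (by decide) ha1) (hH _ 93 (by decide) hb1)
    · rw [zpowers_le]
      exact mul_mem (hH _ 64 (by decide) ha3) (hH _ 63 (by decide) hb3)

end Refl

end Cfsg.Agent.R2.H27.UsD
end

-- part: R2/H27/UsE
section
set_option linter.all false
open scoped Cfsg.Agent.FastGrp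

/-!
# The centraliser of `z` in the twisted form of `E₇(4)` (S5934, box T7; helper27)

* `cent_T` : `C(T) ≤ T`;
* `eq_zz` : the condition on the cyclic subgroups of the torus normalised by `C(z)`;
* `three_ten` : `3 ^ 10 ∣ |C(z)|`.
-/

set_option autoImplicit false
set_option linter.unusedSectionVars false
set_option maxRecDepth 100000

namespace Cfsg.Agent.R2.H27.UsE

open CoxeterSystem Cfsg Cfsg.Lie Cfsg.Lie.ChevalleyDatum
open Cfsg.Agent.ChevalleyStructure Cfsg.Agent.ChevalleyStructure.Elts Cfsg.Agent.ChevalleyStructure.CoxeterGeom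
  Cfsg.Agent.ChevalleyStructure.CoxeterGeomTypes
open Cfsg.Agent.Tits.Roots Cfsg.Agent.Tits.Core Cfsg.Agent.Nodes Cfsg.Agent.Nodes.Reps Cfsg.Agent.Nodes.BNOf
  Cfsg.Agent.Nodes.RGDChev Cfsg.Agent.Nodes.Bruhat
open Cfsg.Agent.KFacts.RgdField Cfsg.Agent.KFacts.RgdChevCoord
open Cfsg.Agent.H129.TorusChar
open Cfsg.Agent.BpExc.TorChev
open Cfsg.Agent.H904.E7Form
open Cfsg.Agent.R2.H27.Par Cfsg.Agent.R2.H27.WeylE7 Cfsg.Agent.R2.H27.UsA Cfsg.Agent.R2.H27.UsB Cfsg.Agent.R2.H27.UsC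
  Cfsg.Agent.R2.H27.UsD
open Matrix (SpecialLinearGroup)
open Subgroup

section K

variable {K : Type} [Field K] [Fintype K] [CharP K 2]

/-- torus elements from functionals -/
theorem exists_T {ζ : K} (hζ : ζ ^ 3 = 1) (f : (Fin 7 → ℤ) →+ ℤ) : ∃ t ∈ T K, ∀ x, cX hp7 t x = ζ ^ f x := by
  have h0 : ζ ≠ 0 := by
    rintro rfl
    simp at hζ
  have hφ : IsMC (fun x => ζ ^ f x) := ⟨by rw [map_zero, zpow_zero], fun x y => by rw [map_add, zpow_add₀ h0]⟩
  exact exists_cX hp7 invC_E7 two_ne_zero hφ fun i => Cfsg.Agent.R2.E72T.exists_sqrt _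

theorem T_comm' {s t : Y K} (hs : s ∈ T K) (ht : t ∈ T K) : s * t = t * s := TT_comm hp7 s hs t ht

theorem exists_ne {ζ : K} (hζ : IsPrimitiveRoot ζ 3) {a : Fin 7 → ℤ} (ha : IsRoot cs7 h7 a) :
    ∃ t ∈ T K, cX hp7 t a ≠ 1 := by
  obtain ⟨r, hr, rfl⟩ := TorB.exists_vec ha
  obtain ⟨i, hi⟩ := TorB.roots_ne r hr
  obtain ⟨t, ht, h1⟩ := exists_T hζ.pow_eq_one (TorB.co i)
  refine ⟨t, ht, ?_⟩
  rw [h1, TorB.co_apply]
  intro h2
  apply hi
  exact (zpow_one_iff hζ _).1 h2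

theorem eq_one_of_cX {ζ : K} (hζ : IsPrimitiveRoot ζ 3) {w : W7}
    (hw : ∀ t ∈ T K, ∀ a, IsRoot cs7 h7 a → cX hp7 t (rep cs7 h7 w a) = cX hp7 t a) : w = 1 := by
  have h1 : ∀ a, IsRoot cs7 h7 a → rep cs7 h7 w a = a := by
    intro a ha
    obtain ⟨r, hr, h2⟩ := TorB.exists_vec (ha.act w)
    obtain ⟨s, hs, h3⟩ := TorB.exists_vec ha
    have h4 : r = s := by
      refine TorB.roots_mod r hr s hs fun i => ?_
      obtain ⟨t, ht, h5⟩ := exists_T hζ.pow_eq_one (TorB.co i)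
      have h6 := hw t ht a ha
      rw [h5, h5, zpow_eq_iff hζ, TorB.co_apply, TorB.co_apply, h2, h3] at h6
      exact h6
    rw [h2, h4, ← h3]
  apply rep_injective cs7 h7
  apply LinearMap.ext
  intro x
  rw [map_one, Module.End.one_apply]
  conv_lhs => rw [Cfsg.Agent.H154.PQE.sum_sr x]
  conv_rhs => rw [Cfsg.Agent.H154.PQE.sum_sr x]
  rw [map_sum]
  refine Finset.sum_congr rfl fun k _ => ?_
  rw [map_smul, h1 _ (isRoot_sr cs7 h7 k)]

/-- **`C(T) = T`** -/
theorem cent_T (hK : Fintype.card K = 4) : centralizer (T K : Set (Y K)) = T K := by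
  obtain ⟨ζ, hζ⟩ := exists_zeta hK
  apply le_antisymm
  · intro c hc
    exact TorA.mem_TT_of_centralizer hp7 cs7 (lfK K) 2 (Set.toFinite _) (fun _ h => h) (fun a ha => exists_ne hζ ha)
      (fun w hw => eq_one_of_cX hζ hw) hc
  · intro c hc
    rw [mem_centralizer_iff]
    intro t ht
    exact T_comm' ht hc

theorem nu_mem_T (hK : Fintype.card K = 4) {w : W7} (h : nu K w ∈ T K) : w = 1 := by
  obtain ⟨ζ, hζ⟩ := exists_zeta hK
  refine eq_one_of_cX hζ fun t ht a ha => ?_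
  have h1 := cX_nu w ht a
  have h2 : nu K w * t * (nu K w)⁻¹ = t := by
    rw [T_comm' h ht]; group
  rwa [h2] at h1

theorem nu_injective (hK : Fintype.card K = 4) : Function.Injective (nu K) := by
  rw [← MonoidHom.ker_eq_bot_iff, eq_bot_iff]
  intro w hw
  rw [mem_bot]
  apply nu_mem_T hK
  rw [MonoidHom.mem_ker.1 hw]
  exact one_mem _

theorem card_T (hK : Fintype.card K = 4) : Nat.card ↥(T K) = 3 ^ 7 := by
  have h1 := Cfsg.Agent.S1035.result (F := K) hK (chevE7, Nat.gcd 2 (4 - 1)) (by simp)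
  have h2 : Nat.card (chevE7.diagonalSubgroup K) = 3 ^ 7 := by
    have e : Nat.gcd 2 (4 - 1) = 1 := by decide
    simp only [e, one_mul] at h1
    exact h1
  rw [← h2]
  exact Nat.card_congr (Subgroup.subgroupOfEquivOfLe (Cfsg.Agent.ChevalleyStructure.Elts.diagonal_le_group hp7.inList K)).toEquiv

/-- reflections belonging to `A₅ + A₂` are in `C(z)` -/
theorem nN_comm {ζ : K} (hζ : IsPrimitiveRoot ζ 3) {r : ℕ} (hr : r ∈ LL) :
    nN (rv r) * f6 K (z6 ζ) = f6 K (z6 ζ) * nN (rv r) := by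
  rcases LL_cases r hr with ⟨a, b, hab, rfl⟩ | ⟨a, b, hab, rfl⟩
  · rw [← f6_n6 hab]
    exact z6_comm6 hζ _
  · rw [← f3_n3 hab]
    exact z6_comm3 hζ _

theorem nu_refl {s : W7} {r : ℕ} (hr : r < 126) (hs : IsRefl s (rv r)) : nu K s = nN (rv r) := by
  obtain ⟨s', h1, h2⟩ := exists_refl (K := K) (isRoot_rv hr)
  have h3 : s = s' := rep_inj fun x => by rw [hs, h2]
  rw [h3, h1]

theorem exists_refl' {r : ℕ} (hr : r < 126) : ∃ s : W7, IsRefl s (rv r) ∧ nu K s = nN (rv r) := by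
  obtain ⟨s, h1, h2⟩ := exists_refl (K := K) (isRoot_rv hr)
  exact ⟨s, h2, h1⟩

theorem LL_lt {r : ℕ} (hr : r ∈ LL) : r < 126 := (LL_tab r hr).1

/-- `C(z)` in the group of fixed points -/
noncomputable abbrev CZ (ζ : K) : Subgroup (Y K) := centralizer {f6 K (z6 ζ)} ⊓ P4 K

theorem T_le_CZ (hK : Fintype.card K = 4) {ζ : K} (hζ : IsPrimitiveRoot ζ 3) : T K ≤ CZ ζ := by
  refine le_inf ?_ (T_le hK)
  intro t ht
  rw [mem_centralizer_singleton_iff]
  exact T_comm' ht (z6_mem (hζ.ne_zero (by norm_num)))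

theorem nu_mem_CZ {ζ : K} (hζ : IsPrimitiveRoot ζ 3) {s : W7} {r : ℕ} (hr : r ∈ LL) (hs : IsRefl s (rv r)) :
    nu K s ∈ CZ ζ := by
  refine ⟨?_, nu_mem_P4 s⟩
  show nu K s ∈ centralizer {f6 K (z6 ζ)}
  rw [mem_centralizer_singleton_iff, nu_refl (LL_lt hr) hs]
  exact nN_comm hζ hr

/-- **`3 ^ 10 ∣ |C(z)|`** -/
theorem three_ten (hK : Fintype.card K = 4) {ζ : K} (hζ : IsPrimitiveRoot ζ 3) : 3 ^ 10 ∣ Nat.card ↥(CZ ζ) := by
  obtain ⟨V, hV, hV2⟩ := exists_V
  have h1 : V ≤ (CZ ζ).comap (nu K) := hV2 _ fun s r hr hs => nu_mem_CZ hζ hr hs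
  have h2 : V.map (nu K) ≤ CZ ζ := Subgroup.map_le_iff_le_comap.2 h1
  have h3 : V.map (nu K) ≤ normalizer ((T K : Subgroup (Y K)) : Set (Y K)) := by
    rintro _ ⟨w, -, rfl⟩
    exact (rp_nu w).mem_normalizer
  have h4 : T K ⊓ V.map (nu K) = ⊥ := by
    rw [eq_bot_iff]
    rintro _ ⟨ht, w, -, rfl⟩
    rw [mem_bot, nu_mem_T hK ht, map_one]
  have h5 : Nat.card ↥(T K ⊔ V.map (nu K) : Subgroup (Y K)) = 3 ^ 10 := by
    rw [TorD.card_sup_norm h3 h4, card_T hK,
      ← Nat.card_congr (V.equivMapOfInjective (nu K) (nu_injective hK)).toEquiv, hV]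
    norm_num
  rw [← h5]
  exact Subgroup.card_dvd_of_le (sup_le (T_le_CZ hK hζ) h2)

/-! ### the condition on cyclic subgroups -/

theorem pow_three_T (hK : Fintype.card K = 4) {e : Y K} (he : e ∈ T K) (x : Fin 7 → ℤ) : cX hp7 e x ^ 3 = 1 :=
  pow_three hK ((isMC_cX hp7 he).ne_zero x)

theorem T_pow_three (hK : Fintype.card K = 4) {e : Y K} (he : e ∈ T K) : e ^ 3 = 1 := by
  refine cX_inj hp7 (pow_mem he 3) (one_mem _) fun i => ?_
  rw [cX_pow hp7 he, pow_three_T hK he, cX_one]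

theorem cX_sub {e : Y K} (he : e ∈ T K) (x : Fin 7 → ℤ) (m : ℤ) (a : Fin 7 → ℤ) :
    cX hp7 e (x - m • a) = cX hp7 e x * (cX hp7 e a ^ m)⁻¹ := by
  rw [(isMC_cX hp7 he).sub, (isMC_cX hp7 he).zsmul, div_eq_mul_inv]

theorem isPGroup_T (hK : Fintype.card K = 4) : IsPGroup 3 ↥(T K) := by
  rw [IsPGroup.iff_card]
  exact ⟨7, card_T hK⟩

/-- **The condition on the cyclic subgroups of the torus normalised by `C(z)`.** -/
theorem eq_zz (hK : Fintype.card K = 4) {ζ : K} (hζ : IsPrimitiveRoot ζ 3) {e : Y K} (he : e ∈ T K) (he1 : e ≠ 1)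
    (hn : CZ ζ ≤ normalizer (zpowers e : Set (Y K))) : zpowers e = zpowers (f6 K (z6 ζ)) := by
  have h0 : ζ ≠ 0 := hζ.ne_zero (by norm_num)
  have he3 := T_pow_three hK he
  have hord : orderOf e = 3 := orderOf_eq_prime he3 he1
  -- the alternatives
  have alt : ∀ r ∈ LL, cX hp7 e (rv r) = 1 ∨ ∀ x, bf x (rv r) = 0 → cX hp7 e x = 1 := by
    intro r hr
    obtain ⟨s, hs, -⟩ := exists_refl' (K := K) (LL_lt hr)
    have h1 := hn (nu_mem_CZ hζ hr hs)
    have h2 : nu K s * e * (nu K s)⁻¹ ∈ zpowers e := ((mem_normalizer_iff.1 h1) e).1 (mem_zpowers e)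
    obtain ⟨k, hk⟩ := mem_zpowers_iff.1 h2
    have h3 : ∀ x, cX hp7 e x = cX hp7 e (rep cs7 h7 s x) ^ k := by
      intro x
      rw [← cX_nu s he x, ← hk]
      have : ∀ m : ℤ, cX hp7 (e ^ m) (rep cs7 h7 s x) = cX hp7 e (rep cs7 h7 s x) ^ m := by
        intro m
        rcases Int.eq_nat_or_neg m with ⟨n, rfl | rfl⟩
        · rw [zpow_natCast, zpow_natCast, cX_pow hp7 he]
        · rw [zpow_neg, zpow_neg, zpow_natCast, zpow_natCast, cX_inv (pow_mem he n), cX_pow hp7 he]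
      exact this k
    obtain ⟨-, r', -, -, y, hy, hy1, -⟩ := LL_tab r hr
    have h3' : ∀ x, bf x (rv r) = 0 → cX hp7 e x = cX hp7 e x ^ k := by
      intro x hx
      have := h3 x
      rwa [refl_fix hs hx] at this
    have hmod : k % 3 = 0 ∨ k % 3 = 1 ∨ k % 3 = 2 := by omega
    have hred : ∀ x, cX hp7 e x ^ k = cX hp7 e x ^ (k % 3) := by
      intro x
      have hx0 := (isMC_cX hp7 he).ne_zero x
      conv_lhs => rw [← Int.emod_add_mul_ediv k 3]
      rw [zpow_add₀ hx0, zpow_mul]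
      have : cX hp7 e x ^ (3 : ℤ) = 1 := by
        have := pow_three_T hK he x
        exact_mod_cast this
      rw [this, one_zpow, mul_one]
    rcases hmod with hm | hm | hm
    · right
      intro x hx
      rw [h3' x hx, hred, hm, zpow_zero]
    · left
      have h4 := h3 (rv y)
      rw [hred, hm, zpow_one, hs, hy1, cX_sub he, zpow_one] at h4
      have h5 := (isMC_cX hp7 he).ne_zero (rv y)
      have h6 : (cX hp7 e (rv r))⁻¹ = 1 := by
        have : cX hp7 e (rv y) * 1 = cX hp7 e (rv y) * (cX hp7 e (rv r))⁻¹ := by rw [mul_one]; exact h4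
        exact (mul_left_cancel₀ h5 this).symm
      exact inv_eq_one.1 h6
    · right
      intro x hx
      have h4 := h3' x hx
      rw [hred, hm] at h4
      have h5 := (isMC_cX hp7 he).ne_zero x
      have h6 : cX hp7 e x * 1 = cX hp7 e x * cX hp7 e x := by
        rw [mul_one]
        conv_lhs => rw [h4]
        rw [show (2 : ℤ) = ((2 : ℕ) : ℤ) from rfl, zpow_natCast, pow_two]
      exact (mul_left_cancel₀ h5 h6).symm
  -- the second alternative does not occur
  have key : ∀ r ∈ LL, cX hp7 e (rv r) = 1 := by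
    intro r hr
    rcases alt r hr with h | h
    · exact h
    exfalso
    apply he1
    obtain ⟨-, r', hr', hadj, y, hy, hy1, hy2⟩ := LL_tab r hr
    refine cX_inj hp7 he (one_mem _) fun i => ?_
    rw [cX_one]
    rcases alt r' hr' with h' | h'
    · have h1 := h (sr i - (-bf (sr i) (rv r)) • rv r') (by
        rw [bf_sub', bf_smul', hadj]; ring)
      rw [cX_sub he, h', one_zpow, inv_one, mul_one] at h1
      exact h1
    · have h2 := h' (rv y) hy2
      have h1 := h (sr i - bf (sr i) (rv r) • rv y) (by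
        rw [bf_sub', bf_smul', hy1]; ring)
      rw [cX_sub he, h2, one_zpow, inv_one, mul_one] at h1
      exact h1
  -- the conclusion
  obtain ⟨m, -, hm⟩ := hζ.eq_pow_of_pow_eq_one (pow_three_T hK he (sr 4))
  have hz := z6_mem (K := K) h0
  have h5 : e = f6 K (z6 ζ) ^ (2 * m) := by
    refine cX_inj hp7 he (pow_mem hz _) fun i => ?_
    rw [cX_pow hp7 hz, cX_z6 h0]
    by_cases hi : i = 4
    · subst hi
      rw [← hm, ← zpow_natCast, ← zpow_natCast, ← zpow_mul, zpow_eq_iff hζ]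
      have := fz4
      push_cast
      have h6 : fz (sr 4) = 3 * (fz (sr 4) / 3) + 2 := by omega
      rw [h6]
      ring_nf
      omega
    · rw [← vec_simple hp7 i, key _ (LL_simple i hi), vec_simple hp7 i, (zpow_one_iff hζ _).2 (fz_simple i hi), one_pow]
  have h6 : e ∈ zpowers (f6 K (z6 ζ)) := by
    rw [h5]
    exact pow_mem (mem_zpowers _) _
  refine Subgroup.eq_of_le_of_card_ge (zpowers_le.2 h6) ?_
  rw [Nat.card_zpowers, Nat.card_zpowers, hord, z6_order hζ]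

end K

end Cfsg.Agent.R2.H27.UsE

private theorem dce_d4d76d893c39 : _root_.True := by
  try have : _root_.True := by simp only [_root_.Cfsg.Agent.H129.TorusChar.cX.congr_simp]
  exact _root_.True.intro
end

-- part: R2/H27/UsF
section
set_option linter.all false
open scoped Cfsg.Agent.FastGrp

/-!
# The centraliser of `3·U₆(2)` in the twisted form of `E₇(4)` (S5934, box T7; helper27)

* `X6`, `Y3` : the images of `SU₆(2)`, `SU₃(2)`;
* `form_of_cent` : the elements of `C(X6)`; `card_cent` : `|C(X6)| ∣ 2^3 3^4`.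
-/

set_option autoImplicit false
set_option linter.unusedSectionVars false
set_option maxRecDepth 100000

namespace Cfsg.Agent.R2.H27.UsF

open CoxeterSystem Cfsg Cfsg.Lie Cfsg.Lie.ChevalleyDatum
open Cfsg.Agent.ChevalleyStructure Cfsg.Agent.ChevalleyStructure.Elts Cfsg.Agent.ChevalleyStructure.CoxeterGeom
  Cfsg.Agent.ChevalleyStructure.CoxeterGeomTypes
open Cfsg.Agent.Tits.Roots Cfsg.Agent.Tits.Core Cfsg.Agent.Nodes Cfsg.Agent.Nodes.Reps Cfsg.Agent.Nodes.BNOf
  Cfsg.Agent.Nodes.RGDChev Cfsg.Agent.Nodes.Bruhat Cfsg.Agent.Nodes.StabComb Cfsg.Agent.Nodes.NormalForm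
open Cfsg.Agent.KFacts.RgdField Cfsg.Agent.KFacts.RgdChevCoord
open Cfsg.Agent.H129.TorusChar
open Cfsg.Agent.BpExc.TorChev Cfsg.Agent.BpExc.TorCent
open Cfsg.Agent.H904.E7Form
open Cfsg.Agent.R2.H27.Par Cfsg.Agent.R2.H27.WeylE7 Cfsg.Agent.R2.H27.UsA Cfsg.Agent.R2.H27.UsB Cfsg.Agent.R2.H27.UsC
  Cfsg.Agent.R2.H27.UsD Cfsg.Agent.R2.H27.UsE
open Matrix (SpecialLinearGroup)
open Subgroup

/-! ### generalities -/

section Gen

variable {G : Type*} [Group G]

theorem card_sup_mul_inf {A B : Subgroup G} (h : B ≤ normalizer (A : Set G)) :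
    Nat.card ↥(A ⊔ B : Subgroup G) * Nat.card ↥(A ⊓ B : Subgroup G) = Nat.card ↥A * Nat.card ↥B := by
  set N := A ⊔ B with hN
  have hAN : A ≤ N := le_sup_left
  have hBN : B ≤ N := le_sup_right
  have hNn : N ≤ normalizer (A : Set G) := sup_le Subgroup.le_normalizer h
  have hnorm : (A.subgroupOf N).Normal := Subgroup.normal_subgroupOf_of_le_normalizer hNn
  have h1 := relIndex_sup_right (B.subgroupOf N) (A.subgroupOf N)
  have h2 : B.subgroupOf N ⊔ A.subgroupOf N = ⊤ := by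
    rw [← Subgroup.subgroupOf_sup hBN hAN, sup_comm, ← hN, Subgroup.subgroupOf_self]
  rw [h2, relIndex_top_right, relIndex_subgroupOf hBN] at h1
  have h3 := (A.subgroupOf N).card_mul_index
  rw [Nat.card_congr (Subgroup.subgroupOfEquivOfLe hAN).toEquiv, h1] at h3
  have h4 := (A.subgroupOf B).card_mul_index
  have h5 : Nat.card ↥(A.subgroupOf B) = Nat.card ↥(A ⊓ B : Subgroup G) := by
    rw [← Subgroup.inf_subgroupOf_right]
    exact Nat.card_congr (Subgroup.subgroupOfEquivOfLe inf_le_right).toEquiv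
  rw [h5] at h4
  have h6 : A.relIndex B = (A.subgroupOf B).index := rfl
  rw [← h3, ← h4, h6]
  ring

theorem card_sup_dvd {A B : Subgroup G} (h : B ≤ normalizer (A : Set G)) :
    Nat.card ↥(A ⊔ B : Subgroup G) ∣ Nat.card ↥A * Nat.card ↥B :=
  ⟨_, (card_sup_mul_inf h).symm⟩

theorem le_normalizer_inf {H A P : Subgroup G} (h1 : H ≤ normalizer (A : Set G)) (h2 : H ≤ P) :
    H ≤ normalizer ((A ⊓ P : Subgroup G) : Set G) := by
  intro g hg
  rw [mem_normalizer_iff]
  intro x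
  have e1 := (mem_normalizer_iff.1 (h1 hg)) x
  have e2 : x ∈ P ↔ g * x * g⁻¹ ∈ P := by
    constructor
    · intro hx
      exact P.mul_mem (P.mul_mem (h2 hg) hx) (P.inv_mem (h2 hg))
    · intro hx
      have := P.mul_mem (P.mul_mem (P.inv_mem (h2 hg)) hx) (h2 hg)
      have e : g⁻¹ * (g * x * g⁻¹) * g = x := by group
      rwa [e] at this
  exact ⟨fun hx => ⟨e1.1 hx.1, e2.1 hx.2⟩, fun hx => ⟨e1.2 hx.1, e2.2 hx.2⟩⟩

end Gen

/-! ### tables -/

/-- the base of `A₅` -/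
def B5 : List ℕ := [0, 93, 73, 69, 78]

theorem B5_LL : ∀ r ∈ B5, r ∈ LL := by decide +kernel

theorem B5_ex : ∀ c ∈ B5, ∃ a b : Fin 6, a ≠ b ∧ r5 a b = c := by decide +kernel

theorem tab_perp : ∀ r ∈ List.range 126, (∀ c ∈ B5, bf (rv r) (rv c) % 3 = 0) → ∃ a b : Fin 3, a ≠ b ∧ r2 a b = r := by
  decide +kernel

theorem tab_det : ∀ a ∈ B5, ∀ s ∈ List.range 126, (∀ c ∈ B5, (bf (rv s) (rv c) - bf (rv a) (rv c)) % 3 = 0) → s = a := by
  decide +kernel

/-- a dominant vector in the lattice of `A₅` -/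
def dom : Fin 7 → ℤ := ![28, 40, 54, 78, 60, 40, 20]

theorem dom_eq : dom = (-20 : ℤ) • rv 0 - (12 : ℤ) • rv 93 - (6 : ℤ) • rv 73 - (2 : ℤ) • rv 69 := by decide +kernel

theorem dom_pair : ∀ i : Fin 7, pairing (cartanOf chevE7 7) i dom = if i = 5 ∨ i = 6 then 0 else 2 := by (delta Cfsg.Agent.ChevalleyStructure.CoxeterGeomTypes.cartanOf; rewrite [Cfsg.Agent.ChevFast.E7.cartan]; decide +kernel)

theorem perp56 : ∀ r ∈ List.range 126, (∀ k : Fin 7, k ≠ 5 → k ≠ 6 → rv r k = 0) → ∃ a b : Fin 3, a ≠ b ∧ r2 a b = r := by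
  decide +kernel

theorem cm52 : ∀ a b : Fin 6, ∀ c d : Fin 3, a ≠ b → c ≠ d → r2 c d ≠ r5 a b ∧ r2 c d ≠ chevE7.neg (r5 a b) ∧
    chevE7.commTerms (r5 a b) (r2 c d) = [] := by (rewrite [Cfsg.Agent.ChevFast.E7.commTerms, Cfsg.Agent.ChevFast.E7.neg]; open scoped Cfsg.Agent.ChevFast.Lin in decide +kernel)

section K

variable {K : Type} [Field K] [Fintype K] [CharP K 2]

/-- the images commute -/
theorem f6_f3 (g : SpecialLinearGroup (Fin 6) K) (g' : SpecialLinearGroup (Fin 3) K) :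
    f6 K g * f3 K g' = f3 K g' * f6 K g := by
  refine f6_commute (fun a b hab c => ?_) g
  refine (f3_commute (fun a' b' hab' c' => ?_) g').symm
  obtain ⟨h1, h2, h3⟩ := cm52 a b a' b' hab hab'
  exact (Cfsg.Agent.H150.E6T.xc_commute hp7 (show r5 a b < chevE7.nroots from r5_lt a b)
    (show r2 a' b' < chevE7.nroots from r2_lt a' b') h1 h2 h3 c c').eq.symm

variable (K) in
/-- the image of `SU₆(2)` -/
noncomputable def X6 : Subgroup (Y K) := (Cfsg.SU 6 K 2).map (f6 K)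

variable (K) in
/-- the image of `SU₃(2)` -/
noncomputable def Y3 : Subgroup (Y K) := (Cfsg.SU 3 K 2).map (f3 K)

theorem X6_le : X6 K ≤ P4 K := by
  rintro _ ⟨g, hg, rfl⟩
  rw [mem_P4, tau_f6, (sig_iff g).2 hg]

theorem Y3_le : Y3 K ≤ P4 K := by
  rintro _ ⟨g, hg, rfl⟩
  rw [mem_P4, tau_f3, (sig_iff g).2 hg]

variable {ζ : K} (hζ : IsPrimitiveRoot ζ 3) (hK : Fintype.card K = 4)

include hζ hK

theorem mem_X6 (g : SpecialLinearGroup (Fin 6) K) : f6 K g ∈ X6 K ↔ f6 K g ∈ P4 K := by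
  constructor
  · exact fun h => X6_le h
  · intro h
    rw [mem_P4, tau_f6] at h
    exact ⟨g, (sig_iff g).1 (f6_injective hζ hK h), rfl⟩

theorem mem_Y3 (g : SpecialLinearGroup (Fin 3) K) : f3 K g ∈ Y3 K ↔ f3 K g ∈ P4 K := by
  constructor
  · exact fun h => Y3_le h
  · intro h
    rw [mem_P4, tau_f3] at h
    exact ⟨g, (sig_iff g).1 (f3_injective hζ hK h), rfl⟩

theorem Y3_eq : Y3 K = (f3 K).range ⊓ P4 K := by
  ext y
  constructor
  · intro hy
    refine ⟨?_, Y3_le hy⟩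
    obtain ⟨g, -, rfl⟩ := hy
    exact ⟨g, rfl⟩
  · rintro ⟨⟨g, rfl⟩, h⟩
    exact (mem_Y3 hζ hK g).2 h

theorem hH_mem_X6 {r : ℕ} (hr : r ∈ B5) : hH (rv r) ζ ∈ X6 K := by
  obtain ⟨a, b, hab, rfl⟩ := B5_ex r hr
  have h0 : ζ ≠ 0 := hζ.ne_zero (by norm_num)
  rw [← f6_h6 hab, mem_X6 hζ hK, f6_h6 hab]
  exact T_le hK (hH_spec (isRoot_rv (r5_lt a b)) h0).1

theorem nN_mem_X6 {r : ℕ} (hr : r ∈ B5) : nN (rv r) ∈ X6 K := by
  obtain ⟨a, b, hab, rfl⟩ := B5_ex r hr
  rw [← f6_n6 hab, mem_X6 hζ hK, f6_n6 hab]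
  obtain ⟨s, -, hs⟩ := exists_refl' (K := K) (r5_lt a b)
  rw [← hs]
  exact nu_mem_P4 s

/-- **The elements of the centraliser.** -/
theorem form_of_cent {c : Y K} (hc : c ∈ centralizer (X6 K : Set (Y K))) :
    ∃ t ∈ T K, (∀ r ∈ B5, cX hp7 t (rv r) = 1) ∧ ∃ g, c = t * f3 K g := by
  have h0 : ζ ≠ 0 := hζ.ne_zero (by norm_num)
  set S : Set (Y K) := {y | ∃ r ∈ B5, y = hH (rv r) ζ} with hSdef
  have hST : S ⊆ T K := by
    rintro _ ⟨r, hr, rfl⟩
    obtain ⟨a, b, -, rfl⟩ := B5_ex r hr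
    exact (hH_spec (isRoot_rv (r5_lt a b)) h0).1
  have hcS : c ∈ centralizer S := by
    rw [mem_centralizer_iff]
    rintro _ ⟨r, hr, rfl⟩
    exact mem_centralizer_iff.1 hc _ (hH_mem_X6 hζ hK hr)
  have hcG : c ∈ GG cs7 h7 (T K) (XX chevE7 7 K) := by
    rw [GG_top hp7 cs7]; exact mem_top c
  obtain ⟨u, hu, w, k, hk, hkS, v, hv, hcuv⟩ := mem_centralizer (RK K) hST hcG hcS
  have hBlt : ∀ r ∈ B5, r < 126 := fun r hr => by
    obtain ⟨a, b, -, rfl⟩ := B5_ex r hr
    exact r5_lt a b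
  -- root groups
  have hroot : ∀ x, IsRoot cs7 h7 x → XX chevE7 7 K x ⊓ centralizer S ≤ (f3 K).range := by
    rintro x hx y ⟨hy, hyS⟩
    obtain ⟨r, hr, rfl⟩ := TorB.exists_vec hx
    have hr' := List.mem_range.1 hr
    by_cases hy1 : y = 1
    · rw [hy1]; exact one_mem _
    have h1 : ∀ c ∈ B5, bf (rv r) (rv c) % 3 = 0 := by
      intro c hcB
      have hcT : hH (rv c) ζ ∈ T K := hST ⟨c, hcB, rfl⟩
      have h2 := mem_Sx_of_centralizer (CK K) (x := hH (rv c) ζ) hcT hx hy hy1 (by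
        rw [mem_centralizer_singleton_iff]
        exact (mem_centralizer_iff.1 hyS _ ⟨c, hcB, rfl⟩).symm)
      have h3 : ch hp7 (vec chevE7 7 r) (hH (rv c) ζ) = 1 := h2.2
      rw [← cX_root hp7 cs7 hcT hx, (hH_spec (isRoot_rv (hBlt c hcB)) h0).2, zpow_one_iff hζ] at h3
      exact h3
    obtain ⟨a, b, hab, hab2⟩ := tab_perp r hr h1
    obtain ⟨d, hd⟩ := (Cfsg.Agent.Nodes.ChevCls.mem_XX hp7 (show r < chevE7.nroots from hr') y).1 hy
    refine ⟨SpecialLinearGroup.transvection hab d, ?_⟩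
    rw [f3_tv, hab2, hd]
  have hsup : ∀ y ∈ RGD.Sup (fun x => XX chevE7 7 K x ⊓ centralizer S) (RGD.Pos cs7 h7), y ∈ (f3 K).range := by
    have : RGD.Sup (fun x => XX chevE7 7 K x ⊓ centralizer S) (RGD.Pos cs7 h7) ≤ (f3 K).range :=
      RGD.Sup_le fun x hx => hroot x hx.1
    exact fun y hy => this hy
  -- the Weyl group element
  have hwfix : ∀ r ∈ B5, rep cs7 h7 w (rv r) = rv r := by
    intro r hr
    have hrr := isRoot_rv (hBlt r hr)
    obtain ⟨s, hs, h2⟩ := TorB.exists_vec (hrr.act w)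
    have h3 : s = r := by
      refine tab_det r hr s hs fun c hcB => ?_
      have hcT : hH (rv c) ζ ∈ T K := hST ⟨c, hcB, rfl⟩
      have h4 := chi_of_centralizer (RK K) (CK K) (x := hH (rv c) ζ) hcT hk (by
        rw [mem_centralizer_singleton_iff]
        exact (mem_centralizer_iff.1 hkS _ ⟨c, hcB, rfl⟩).symm) hrr
      rw [← cX_root hp7 cs7 hcT (hrr.act w), ← cX_root hp7 cs7 hcT hrr, (hH_spec (isRoot_rv (hBlt c hcB)) h0).2,
        (hH_spec (isRoot_rv (hBlt c hcB)) h0).2, zpow_eq_iff hζ, h2] at h4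
      exact h4
    rw [h2, h3]
  have hwd : rep cs7 h7 w dom = dom := by
    rw [dom_eq, map_sub, map_sub, map_sub, map_smul, map_smul, map_smul, map_smul, hwfix 0 (by decide),
      hwfix 93 (by decide), hwfix 73 (by decide), hwfix 69 (by decide)]
  have hdom : Dom (cartanOf chevE7 7) dom := by
    intro i
    rw [dom_pair]
    split_ifs <;> norm_num
  have hwJ := mem_WJ_of_rep hdom hwd
  have hkJ := rp_mem_LJ (RK K) hwJ hk
  have hJ : LJ cs7 h7 (T K) (XX chevE7 7 K) (orth cs7 h7 dom) ≤ T K ⊔ (f3 K).range := by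
    refine sup_le_sup_left (RGD.Sup_le ?_) _
    rintro x ⟨hx, hx2⟩
    obtain ⟨r, hr, rfl⟩ := TorB.exists_vec hx
    obtain ⟨a, b, hab, hab2⟩ := perp56 r hr fun k hk5 hk6 => hx2 k (by
      rw [mem_orth, dom_pair, if_neg (by tauto)]; norm_num)
    intro y hy
    obtain ⟨d, hd⟩ := (Cfsg.Agent.Nodes.ChevCls.mem_XX hp7 (show r < chevE7.nroots from List.mem_range.1 hr) y).1 hy
    refine ⟨SpecialLinearGroup.transvection hab d, ?_⟩
    rw [f3_tv, hab2, hd]
  -- the torus normalises the image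
  have hTn : ∀ t ∈ T K, ∀ g, t * f3 K g * t⁻¹ ∈ (f3 K).range := by
    intro t ht g
    have h1 : (⊤ : Subgroup (SpecialLinearGroup (Fin 3) K)) ≤
        (f3 K).range.comap (((MulAut.conj t).toMonoidHom).comp (f3 K)) := by
      rw [← Cfsg.Agent.LieClassical.SLGen.closure_transvections, Subgroup.closure_le]
      rintro _ ⟨a, b, hab, d, rfl⟩
      show t * f3 K _ * t⁻¹ ∈ (f3 K).range
      rw [f3_tv, (act hp7 (show r2 a b < chevE7.nroots from r2_lt a b) ht).2 d]
      exact ⟨SpecialLinearGroup.transvection hab _, f3_tv hab _⟩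
    exact h1 (mem_top g)
  have hcsup : c ∈ T K ⊔ (f3 K).range := by
    rw [hcuv]
    exact mul_mem (mul_mem (le_sup_right (a := T K) (hsup u hu)) (hJ hkJ)) (le_sup_right (a := T K) (hsup v hv))
  have hTn' : T K ≤ normalizer ((f3 K).range : Set (Y K)) := by
    intro t ht
    rw [mem_normalizer_iff]
    intro y
    constructor
    · rintro ⟨g, rfl⟩
      exact hTn t ht g
    · rintro ⟨g, hg⟩
      have h1 := hTn t⁻¹ (inv_mem ht) g
      rw [hg] at h1
      have e : t⁻¹ * (t * y * t⁻¹) * t⁻¹⁻¹ = y := by group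
      rwa [e] at h1
  have hset : c ∈ ((T K ⊔ (f3 K).range : Subgroup (Y K)) : Set (Y K)) := hcsup
  rw [Subgroup.coe_mul_of_left_le_normalizer_right _ _ hTn', Set.mem_mul] at hset
  obtain ⟨t, ht, y, ⟨g, rfl⟩, hty⟩ := hset
  refine ⟨t, ht, fun r hr => ?_, g, hty.symm⟩
  -- `t` commutes with the reflections
  have h1 : t * nN (rv r) = nN (rv r) * t := by
    have h2 := mem_centralizer_iff.1 hc _ (nN_mem_X6 hζ hK hr)
    obtain ⟨a, b, hab, rfl⟩ := B5_ex r hr
    rw [← hty] at h2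
    have h3 : nN (rv (r5 a b)) * f3 K g = f3 K g * nN (rv (r5 a b)) := by rw [← f6_n6 hab]; exact f6_f3 _ _
    have h4 : nN (rv (r5 a b)) * t * f3 K g = t * nN (rv (r5 a b)) * f3 K g := by
      rw [mul_assoc t, h3, ← mul_assoc, ← h2, mul_assoc]
    exact (mul_right_cancel h4).symm
  obtain ⟨s, hs, hs2⟩ := exists_refl' (K := K) (hBlt r hr)
  have h5 : nu K s * t * (nu K s)⁻¹ = t := by rw [hs2, ← h1, mul_inv_cancel_right]
  have h6 : ∀ x, cX hp7 t (rep cs7 h7 s x) = cX hp7 t x := by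
    intro x
    have := cX_nu s ht x
    rwa [h5] at this
  have hrL : r ∈ LL := B5_LL r hr
  obtain ⟨-, r', -, -, y, hy, hy1, -⟩ := LL_tab r hrL
  have h7' := h6 (rv y)
  rw [hs, hy1, cX_sub ht, zpow_one] at h7'
  have h8 := (isMC_cX hp7 ht).ne_zero (rv y)
  have h9 : (cX hp7 t (rv r))⁻¹ = 1 := mul_left_cancel₀ h8 (by rw [mul_one]; exact h7')
  exact inv_eq_one.1 h9

end K

end Cfsg.Agent.R2.H27.UsF
end

-- part: R2/H27/BoxT7
section
set_option linter.all false
open scoped Cfsg.Agent.FastGrp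

-- part: R2/H27/UsG
section
/-!
# Box T7 of S5934: `3·U₆(2)` in `E₇(2)` (helper27)
-/

set_option autoImplicit false
set_option linter.unusedSectionVars false
set_option maxRecDepth 100000

namespace Cfsg.Agent.R2.H27.UsG

open CoxeterSystem Cfsg Cfsg.Lie Cfsg.Lie.ChevalleyDatum
open Cfsg.Agent.ChevalleyStructure Cfsg.Agent.ChevalleyStructure.Elts Cfsg.Agent.ChevalleyStructure.CoxeterGeom
  Cfsg.Agent.ChevalleyStructure.CoxeterGeomTypes
open Cfsg.Agent.Tits.Roots Cfsg.Agent.Tits.Core Cfsg.Agent.Nodes Cfsg.Agent.Nodes.Reps Cfsg.Agent.Nodes.BNOf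
  Cfsg.Agent.Nodes.RGDChev Cfsg.Agent.Nodes.Bruhat
open Cfsg.Agent.KFacts.RgdField Cfsg.Agent.KFacts.RgdChevCoord
open Cfsg.Agent.H129.TorusChar
open Cfsg.Agent.BpExc.TorChev Cfsg.Agent.BpExc.TorCent
open Cfsg.Agent.H904.E7Form
open Cfsg.Agent.R2.H27.Par Cfsg.Agent.R2.H27.WeylE7 Cfsg.Agent.R2.H27.UsA Cfsg.Agent.R2.H27.UsB Cfsg.Agent.R2.H27.UsC
  Cfsg.Agent.R2.H27.UsD Cfsg.Agent.R2.H27.UsE Cfsg.Agent.R2.H27.UsF
open Cfsg.Agent.R2.H27.Asm
open Matrix (SpecialLinearGroup)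
open Subgroup

section K

variable {K : Type} [Field K] [Fintype K] [CharP K 2]

variable (K) in
/-- the torus elements centralising `X6` -/
noncomputable def BB : Subgroup (Y K) where
  carrier := {t | t ∈ T K ∧ ∀ r ∈ B5, cX hp7 t (rv r) = 1}
  mul_mem' := by
    rintro a b ⟨ha, ha'⟩ ⟨hb, hb'⟩
    exact ⟨mul_mem ha hb, fun r hr => by rw [cX_mul hp7 ha hb, ha' r hr, hb' r hr, one_mul]⟩
  one_mem' := ⟨one_mem _, fun r _ => cX_one hp7 _⟩
  inv_mem' := by
    rintro a ⟨ha, ha'⟩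
    exact ⟨inv_mem ha, fun r hr => by rw [cX_inv ha, ha' r hr, inv_one]⟩

theorem mem_BB {t : Y K} : t ∈ BB K ↔ t ∈ T K ∧ ∀ r ∈ B5, cX hp7 t (rv r) = 1 := Iff.rfl

theorem rv_sr : rv 93 = sr 0 ∧ rv 78 = sr 1 ∧ rv 73 = sr 2 ∧ rv 69 = sr 3 := by decide +kernel

theorem rv_zero : rv 0 = -((2 : ℤ) • sr 0 + (2 : ℤ) • sr 1 + (3 : ℤ) • sr 2 + (4 : ℤ) • sr 3 + (3 : ℤ) • sr 4 +
    (2 : ℤ) • sr 5 + sr 6) := by decide +kernel

theorem card_BB (hK : Fintype.card K = 4) : Nat.card ↥(BB K) ∣ 9 := by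
  let f : ↥(BB K) →* Kˣ × Kˣ :=
    { toFun := fun t => (Units.mk0 (cX hp7 (t : Y K) (sr 4)) ((isMC_cX hp7 t.2.1).ne_zero _),
        Units.mk0 (cX hp7 (t : Y K) (sr 5)) ((isMC_cX hp7 t.2.1).ne_zero _))
      map_one' := by
        apply Prod.ext <;> apply Units.ext <;> exact cX_one hp7 _
      map_mul' := fun a b => by
        apply Prod.ext <;> apply Units.ext <;> exact cX_mul hp7 a.2.1 b.2.1 _ }
  have hf : Function.Injective f := by
    intro a b hab
    have h4 : cX hp7 (a : Y K) (sr 4) = cX hp7 (b : Y K) (sr 4) :=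
      congrArg (fun p : Kˣ × Kˣ => (p.1 : K)) hab
    have h5 : cX hp7 (a : Y K) (sr 5) = cX hp7 (b : Y K) (sr 5) :=
      congrArg (fun p : Kˣ × Kˣ => (p.2 : K)) hab
    have hv : ∀ t : ↥(BB K), cX hp7 (t : Y K) (sr 0) = 1 ∧ cX hp7 (t : Y K) (sr 1) = 1 ∧ cX hp7 (t : Y K) (sr 2) = 1 ∧
        cX hp7 (t : Y K) (sr 3) = 1 ∧ cX hp7 (t : Y K) (sr 6) = cX hp7 (t : Y K) (sr 5) := by
      intro t
      obtain ⟨e0, e1, e2, e3⟩ := rv_sr
      have k0 : cX hp7 (t : Y K) (sr 0) = 1 := by rw [← e0]; exact t.2.2 93 (by decide)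
      have k1 : cX hp7 (t : Y K) (sr 1) = 1 := by rw [← e1]; exact t.2.2 78 (by decide)
      have k2 : cX hp7 (t : Y K) (sr 2) = 1 := by rw [← e2]; exact t.2.2 73 (by decide)
      have k3 : cX hp7 (t : Y K) (sr 3) = 1 := by rw [← e3]; exact t.2.2 69 (by decide)
      refine ⟨k0, k1, k2, k3, ?_⟩
      have k := t.2.2 0 (by decide)
      have hM := isMC_cX hp7 t.2.1
      rw [rv_zero, hM.neg, hM.add, hM.add, hM.add, hM.add, hM.add, hM.add, hM.zsmul, hM.zsmul, hM.zsmul, hM.zsmul,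
        hM.zsmul, hM.zsmul, k0, k1, k2, k3] at k
      simp only [one_zpow, one_mul] at k
      have c4 : cX hp7 (t : Y K) (sr 4) ^ (3 : ℤ) = 1 := by exact_mod_cast pow_three_T hK t.2.1 (sr 4)
      have c5 : cX hp7 (t : Y K) (sr 5) ^ (3 : ℤ) = 1 := by exact_mod_cast pow_three_T hK t.2.1 (sr 5)
      rw [c4, one_mul, inv_eq_one] at k
      have n5 := hM.ne_zero (sr 5)
      have k' : cX hp7 (t : Y K) (sr 5) ^ (2 : ℤ) * cX hp7 (t : Y K) (sr 6) =
          cX hp7 (t : Y K) (sr 5) ^ (2 : ℤ) * cX hp7 (t : Y K) (sr 5) := by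
        rw [k, ← zpow_add_one₀ n5]
        exact c5.symm
      exact mul_left_cancel₀ (zpow_ne_zero _ n5) k'
    apply Subtype.ext
    refine cX_inj hp7 a.2.1 b.2.1 fun i => ?_
    obtain ⟨a0, a1, a2, a3, a6⟩ := hv a
    obtain ⟨b0, b1, b2, b3, b6⟩ := hv b
    have hi7 : ∀ i : Fin 7, i = 0 ∨ i = 1 ∨ i = 2 ∨ i = 3 ∨ i = 4 ∨ i = 5 ∨ i = 6 := by decide
    rcases hi7 i with rfl | rfl | rfl | rfl | rfl | rfl | rfl
    · rw [a0, b0]
    · rw [a1, b1]
    · rw [a2, b2]
    · rw [a3, b3]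
    · exact h4
    · exact h5
    · rw [a6, b6, h5]
  have h1 := Subgroup.card_dvd_of_injective f hf
  have h2 : Nat.card (Kˣ × Kˣ) = 9 := by
    rw [Nat.card_prod, Nat.card_units, Nat.card_eq_fintype_card, hK]
  rwa [h2] at h1

variable {ζ : K} (hζ : IsPrimitiveRoot ζ 3) (hK : Fintype.card K = 4)

include hζ hK

theorem card_Y3 : Nat.card ↥(Y3 K) = 216 := by
  have h1 : Nat.card ↥(Cfsg.SU 3 K 2) = 216 := by
    rw [Cfsg.Agent.H372.FxU.card_three (q := 2) (by rw [hK]; norm_num)]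
    norm_num
  rw [← h1]
  exact (Nat.card_congr ((Cfsg.SU 3 K 2).equivMapOfInjective (f3 K) (f3_injective hζ hK)).toEquiv).symm

omit hζ hK in
theorem T_norm3 : T K ≤ normalizer ((f3 K).range : Set (Y K)) := by
  have hTn : ∀ t ∈ T K, ∀ g, t * f3 K g * t⁻¹ ∈ (f3 K).range := by
    intro t ht g
    have h1 : (⊤ : Subgroup (_root_.Matrix.SpecialLinearGroup (Fin 3) K)) ≤
        (f3 K).range.comap (((MulAut.conj t).toMonoidHom).comp (f3 K)) := by
      rw [← Cfsg.Agent.LieClassical.SLGen.closure_transvections, Subgroup.closure_le]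
      rintro _ ⟨a, b, hab, d, rfl⟩
      show t * f3 K _ * t⁻¹ ∈ (f3 K).range
      rw [f3_tv, (act hp7 (show r2 a b < chevE7.nroots from r2_lt a b) ht).2 d]
      exact ⟨SpecialLinearGroup.transvection hab _, f3_tv hab _⟩
    exact h1 (mem_top g)
  intro t ht
  rw [mem_normalizer_iff]
  intro y
  constructor
  · rintro ⟨g, rfl⟩
    exact hTn t ht g
  · rintro ⟨g, hg⟩
    have h1 := hTn t⁻¹ (inv_mem ht) g
    rw [hg] at h1
    have e : t⁻¹ * (t * y * t⁻¹) * t⁻¹⁻¹ = y := by group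
    rwa [e] at h1

omit hζ hK in
theorem fz_B5 : ∀ r ∈ B5, fz (rv r) % 3 = 0 := by decide +kernel

/-- **`|C(X)| ∣ 2^3 3^4`** -/
theorem card_cent : Nat.card ↥(centralizer (X6 K : Set (Y K)) ⊓ P4 K : Subgroup (Y K)) ∣ 2 ^ 3 * 3 ^ 4 := by
  have h0 : ζ ≠ 0 := hζ.ne_zero (by norm_num)
  have h1 : centralizer (X6 K : Set (Y K)) ⊓ P4 K ≤ Y3 K ⊔ BB K := by
    rintro c ⟨hc, hcP⟩
    obtain ⟨t, ht, ht2, g, rfl⟩ := form_of_cent hζ hK hc
    have h2 : f3 K g ∈ Y3 K := by
      rw [mem_Y3 hζ hK]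
      have := (P4 K).mul_mem ((P4 K).inv_mem (T_le hK ht)) hcP
      rwa [inv_mul_cancel_left] at this
    exact mul_mem (le_sup_right (a := Y3 K) (mem_BB.2 ⟨ht, ht2⟩)) (le_sup_left (a := Y3 K) h2)
  have h2 : BB K ≤ normalizer (Y3 K : Set (Y K)) := by
    rw [Y3_eq hζ hK]
    have h3 : BB K ≤ T K := fun t ht => ht.1
    exact le_normalizer_inf (h3.trans T_norm3) (h3.trans (T_le hK))
  have h3 := card_sup_mul_inf h2
  rw [card_Y3 hζ hK] at h3
  have h4 : 3 ∣ Nat.card ↥(Y3 K ⊓ BB K : Subgroup (Y K)) := by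
    have h5 : f6 K (z6 ζ) ∈ Y3 K ⊓ BB K := by
      constructor
      · show f6 K (z6 ζ) ∈ Y3 K
        rw [← z3_eq hζ, mem_Y3 hζ hK, z3_eq hζ]
        exact T_le hK (z6_mem h0)
      · refine ⟨z6_mem h0, fun r hr => ?_⟩
        rw [cX_z6 h0, zpow_one_iff hζ]
        exact fz_B5 r hr
    have h6 := Subgroup.orderOf_dvd_natCard _ h5
    rwa [z6_order hζ] at h6
  obtain ⟨j, hj⟩ := h4
  obtain ⟨b, hb⟩ := card_BB hK
  have h5 := Subgroup.card_dvd_of_le h1
  refine h5.trans ?_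
  rw [hj] at h3
  have h6 : 3 * Nat.card ↥(Y3 K ⊔ BB K : Subgroup (Y K)) ∣ 3 * 648 := by
    refine ⟨j * b, ?_⟩
    have : 3 * 648 = 216 * 9 := by norm_num
    rw [this, hb]
    calc 216 * (Nat.card ↥(BB K) * b) = (216 * Nat.card ↥(BB K)) * b := by ring
      _ = (Nat.card ↥(Y3 K ⊔ BB K : Subgroup (Y K)) * (3 * j)) * b := by rw [h3]
      _ = 3 * Nat.card ↥(Y3 K ⊔ BB K : Subgroup (Y K)) * (j * b) := by ring
  have h7 := Nat.dvd_of_mul_dvd_mul_left (by norm_num) h6
  norm_num only [] at h7 ⊢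
  exact h7

/-! ### `19` does not divide `|C(z)|` -/

omit hζ in
theorem not19_SL (n : ℕ) (hn : n = 6 ∨ n = 3) : ¬ 19 ∣ Nat.card (_root_.Matrix.SpecialLinearGroup (Fin n) K) := by
  intro h
  have h1 : Nat.card (_root_.Matrix.SpecialLinearGroup (Fin n) K) ∣ Nat.card (GL (Fin n) K) :=
    Subgroup.card_dvd_of_injective SpecialLinearGroup.toGL Matrix.SpecialLinearGroup.toGL_injective
  have h2 := h.trans h1
  rw [Matrix.card_GL_field, hK] at h2
  rcases hn with rfl | rfl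
  · revert h2
    decide +kernel
  · revert h2
    decide +kernel

theorem not19 : ¬ 19 ∣ Nat.card ↥(CZ ζ) := by
  have h0 : ζ ≠ 0 := hζ.ne_zero (by norm_num)
  have hzT := z6_mem (K := K) h0
  intro hd
  have : Fact (Nat.Prime 19) := ⟨by norm_num⟩
  obtain ⟨g, hg⟩ := exists_prime_orderOf_dvd_card' 19 hd
  have hgc : (g : Y K) ∈ centralizer {f6 K (z6 ζ)} := g.2.1
  have hgG : (g : Y K) ∈ GG cs7 h7 (T K) (XX chevE7 7 K) := by
    rw [GG_top hp7 cs7]; exact mem_top _
  have hchi : ∀ a, IsRoot cs7 h7 a → ch hp7 a (f6 K (z6 ζ)) ^ 3 = 1 := by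
    intro a ha
    rw [← cX_root hp7 cs7 hzT ha]
    exact pow_three_T hK hzT a
  have hA : ChAdd cs7 h7 (T K) (ch hp7 (K := K)) := chAdd hp7 cs7 2
  obtain ⟨m, hm⟩ := exists_pow_mem (RK K) (CK K) hzT (fun s hs t ht => T_comm' hs ht) hA Nat.prime_three hchi hgG hgc
  have hord : orderOf ((g : Y K) ^ 3 ^ m) = 19 := by
    rw [Nat.Coprime.orderOf_pow]
    · rw [orderOf_coe, hg]
    · rw [orderOf_coe, hg]
      exact Nat.Coprime.pow_right m (by norm_num)
  have hMM : MM cs7 h7 (XX chevE7 7 K) (ch hp7) (f6 K (z6 ζ)) ≤ (f6 K).range ⊔ (f3 K).range := by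
    refine RGD.Sup_le ?_
    rintro x ⟨hx, hx1⟩
    obtain ⟨r, hr, rfl⟩ := TorB.exists_vec hx
    have h3 : fz (rv r) % 3 = 0 := by
      have hx1' : ch hp7 (vec chevE7 7 r) (f6 K (z6 ζ)) = 1 := hx1
      rw [← cX_root hp7 cs7 hzT hx, cX_z6 h0, zpow_one_iff hζ] at hx1'
      exact hx1'
    intro y hy
    obtain ⟨d, hd⟩ := (Cfsg.Agent.Nodes.ChevCls.mem_XX hp7 (show r < chevE7.nroots from List.mem_range.1 hr) y).1 hy
    rcases fz_root r hr h3 with ⟨a, b, hab, hab2⟩ | ⟨a, b, hab, hab2⟩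
    · exact le_sup_left (a := (f6 K).range) ⟨SpecialLinearGroup.transvection hab d, by rw [f6_tv, hab2, hd]⟩
    · exact le_sup_right (a := (f6 K).range) ⟨SpecialLinearGroup.transvection hab d, by rw [f3_tv, hab2, hd]⟩
  have h5 : Nat.card ↥((f6 K).range ⊔ (f3 K).range : Subgroup (Y K)) ∣
      Nat.card ↥(f6 K).range * Nat.card ↥(f3 K).range := by
    apply card_sup_dvd
    refine le_trans ?_ (centralizer_le_normalizer _)
    rintro _ ⟨g', rfl⟩
    rw [mem_centralizer_iff]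
    rintro _ ⟨g, rfl⟩
    exact f6_f3 g g'
  have h6 : Nat.card ↥(f6 K).range ∣ Nat.card (_root_.Matrix.SpecialLinearGroup (Fin 6) K) := Subgroup.card_range_dvd _
  have h7' : Nat.card ↥(f3 K).range ∣ Nat.card (_root_.Matrix.SpecialLinearGroup (Fin 3) K) := Subgroup.card_range_dvd _
  have h8 := card_sup_dvd (T_le_normalizer_MM (RK K) (CK K) (χ := ch hp7) (x := f6 K (z6 ζ)) hzT)
  have h9 : 19 ∣ Nat.card ↥(MM cs7 h7 (XX chevE7 7 K) (ch hp7) (f6 K (z6 ζ)) ⊔ T K : Subgroup (Y K)) := by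
    rw [← hord]
    exact Subgroup.orderOf_dvd_natCard _ hm
  have h10 := h9.trans h8
  rcases (Nat.Prime.dvd_mul (by norm_num)).1 h10 with h | h
  · have h11 := (h.trans (Subgroup.card_dvd_of_le hMM)).trans h5
    rcases (Nat.Prime.dvd_mul (by norm_num)).1 h11 with h | h
    · exact not19_SL hK 6 (Or.inl rfl) (h.trans h6)
    · exact not19_SL hK 3 (Or.inr rfl) (h.trans h7')
  · rw [card_T hK] at h
    have := (Nat.Prime.dvd_of_dvd_pow (by norm_num) h)
    norm_num at this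

end K

end Cfsg.Agent.R2.H27.UsG
end

-- part: R2/H27/BoxT7
section
/-!
# Box T7 of S5934: `3·U₆(2)` in `E₇(2)`, end (helper27)
-/

set_option autoImplicit false
set_option linter.unusedSectionVars false
set_option maxRecDepth 100000

namespace Cfsg.Agent.R2.H27.UsH

open Cfsg Cfsg.Lie
open Cfsg.Agent.R2.H27.UsA Cfsg.Agent.R2.H27.UsB Cfsg.Agent.R2.H27.UsC
  Cfsg.Agent.R2.H27.UsD Cfsg.Agent.R2.H27.UsE Cfsg.Agent.R2.H27.UsF Cfsg.Agent.R2.H27.UsG
open Cfsg.Agent.R2.H27.Asm Cfsg.Agent.R2.H27.TorD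
open Matrix (SpecialLinearGroup)
open Subgroup
open scoped commutatorElement

section Gen

variable {G : Type*} [Group G]

/-- the content of box T7 -/
structure IsT7 (X A : Subgroup G) (z : G) : Prop where
  perf : ⁅X, X⁆ = X
  simp : IsSimpleGroup (↥X ⧸ center ↥X)
  card : Nat.card ↥X = 3 * oU6
  cent : Nat.card ↥(center ↥X) = 3
  mem : z ∈ X
  ord : orderOf z = 3
  le : X ≤ centralizer {z}
  cX : Nat.card (centralizer (X : Set G) : Subgroup G) ∣ 2 ^ 3 * 3 ^ 4
  ten : 3 ^ 10 ∣ Nat.card (centralizer {z} : Subgroup G)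
  n19 : ¬ 19 ∣ Nat.card (centralizer {z} : Subgroup G)
  leA : A ≤ centralizer {z}
  pgA : IsPGroup 3 ↥A
  cA : centralizer (A : Set G) = A
  ee : ∀ e ∈ A, e ≠ 1 → centralizer {z} ≤ normalizer (zpowers e : Set G) → zpowers e = zpowers z

theorem map_centralizer {H : Type*} [Group H] (e : G ≃* H) (S : Set G) :
    (centralizer S).map e.toMonoidHom = centralizer (e '' S) := by
  ext x
  constructor
  · rintro ⟨g, hg, rfl⟩
    rw [mem_centralizer_iff]
    rintro _ ⟨s, hs, rfl⟩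
    show e s * e g = e g * e s
    rw [← map_mul, mem_centralizer_iff.1 hg s hs, map_mul]
  · intro hx
    refine ⟨e.symm x, ?_, by simp⟩
    rw [SetLike.mem_coe, mem_centralizer_iff]
    intro s hs
    apply e.injective
    rw [map_mul, map_mul, e.apply_symm_apply]
    exact mem_centralizer_iff.1 hx _ ⟨s, hs, rfl⟩

theorem card_map_equiv {H : Type*} [Group H] (e : G ≃* H) (X : Subgroup G) :
    Nat.card ↥(X.map e.toMonoidHom) = Nat.card ↥X :=
  (Nat.card_congr (X.equivMapOfInjective _ e.injective).toEquiv).symm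

theorem IsT7.map {X A : Subgroup G} {z : G} (h : IsT7 X A z) {H : Type*} [Group H] (e : G ≃* H) :
    IsT7 (X.map e.toMonoidHom) (A.map e.toMonoidHom) (e z) := by
  have hz : centralizer {e z} = (centralizer {z}).map e.toMonoidHom := by
    rw [map_centralizer, Set.image_singleton]
  have hX : centralizer ((X.map e.toMonoidHom : Subgroup H) : Set H) = (centralizer (X : Set G)).map e.toMonoidHom := by
    rw [map_centralizer]; rfl
  have hA : centralizer ((A.map e.toMonoidHom : Subgroup H) : Set H) = (centralizer (A : Set G)).map e.toMonoidHom := by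
    rw [map_centralizer]; rfl
  have eX : ↥X ≃* ↥(X.map e.toMonoidHom) := X.equivMapOfInjective _ e.injective
  refine ⟨?_, ?_, ?_, ?_, ?_, ?_, ?_, ?_, ?_, ?_, ?_, ?_, ?_, ?_⟩
  · rw [← Subgroup.map_commutator, h.perf]
  · exact Asm.simple_congr (Asm.centerCongr eX) h.simp
  · rw [card_map_equiv, h.card]
  · rw [← h.cent]; exact (Asm.card_center_congr eX).symm
  · exact ⟨z, h.mem, rfl⟩
  · have := orderOf_injective e.toMonoidHom e.injective z
    rw [← h.ord]; exact this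
  · rw [hz]; exact Subgroup.map_mono h.le
  · rw [hX, card_map_equiv]; exact h.cX
  · rw [hz, card_map_equiv]; exact h.ten
  · rw [hz, card_map_equiv]; exact h.n19
  · rw [hz]; exact Subgroup.map_mono h.leA
  · exact h.pgA.map e.toMonoidHom
  · rw [hA, h.cA]
  · rintro _ ⟨a, ha, rfl⟩ ha1 hn
    have h1 : a ≠ 1 := by
      rintro rfl
      exact ha1 (map_one _)
    have h2 : centralizer {z} ≤ normalizer (zpowers a : Set G) := by
      intro g hg
      have h3 : e g ∈ centralizer {e z} := by rw [hz]; exact ⟨g, hg, rfl⟩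
      have h4 := hn h3
      rw [mem_normalizer_iff] at h4 ⊢
      intro x
      have h5 := h4 (e x)
      have key : ∀ y, y ∈ zpowers a ↔ e y ∈ zpowers (e.toMonoidHom a) := by
        intro y
        rw [← MonoidHom.map_zpowers]
        constructor
        · intro hy
          exact ⟨y, hy, rfl⟩
        · rintro ⟨y', hy', hy2⟩
          rwa [← e.injective hy2]
      rw [key x, key (g * x * g⁻¹), map_mul, map_mul, map_inv]
      exact h5
    have h3 := h.ee a ha h1 h2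
    rw [← MonoidHom.map_zpowers, h3, MonoidHom.map_zpowers]
    rfl

theorem exists_T7_congr {G H : Type*} [Group G] [Group H] {P : Subgroup G} {Q : Subgroup H}
    (e : Nonempty (↥P ≃* ↥Q)) (h : ∃ (X A : Subgroup ↥P) (z : ↥P), IsT7 X A z) :
    ∃ (X A : Subgroup ↥Q) (z : ↥Q), IsT7 X A z := by
  obtain ⟨e⟩ := e
  obtain ⟨X, A, z, h⟩ := h
  exact ⟨_, _, _, h.map e⟩

theorem centralizer_singleton_subgroupOf {P : Subgroup G} {z : G} (hz : z ∈ P) :
    centralizer {(⟨z, hz⟩ : ↥P)} = (centralizer {z}).subgroupOf P := by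
  ext x
  rw [mem_centralizer_singleton_iff, mem_subgroupOf, mem_centralizer_singleton_iff]
  constructor
  · intro h
    exact congrArg Subtype.val h
  · intro h
    exact Subtype.ext h

theorem card_subgroupOf_inf (X P : Subgroup G) : Nat.card ↥(X.subgroupOf P) = Nat.card ↥(X ⊓ P : Subgroup G) := by
  rw [← Subgroup.inf_subgroupOf_right]
  exact Nat.card_congr (Subgroup.subgroupOfEquivOfLe inf_le_right).toEquiv

theorem isT7_of {P X A : Subgroup G} {z : G} (hX : X ≤ P) (hA : A ≤ P) (hzX : z ∈ X)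
    (h1 : ⁅X, X⁆ = X) (h2 : IsSimpleGroup (↥X ⧸ center ↥X)) (h3 : Nat.card ↥X = 3 * oU6)
    (h4 : Nat.card ↥(center ↥X) = 3) (h5 : orderOf z = 3) (h6 : X ≤ centralizer {z})
    (h7 : Nat.card ↥(centralizer (X : Set G) ⊓ P : Subgroup G) ∣ 2 ^ 3 * 3 ^ 4)
    (h8 : 3 ^ 10 ∣ Nat.card ↥(centralizer {z} ⊓ P : Subgroup G))
    (h9 : ¬ 19 ∣ Nat.card ↥(centralizer {z} ⊓ P : Subgroup G))
    (h10 : A ≤ centralizer {z}) (h11 : IsPGroup 3 ↥A) (h12 : centralizer (A : Set G) = A)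
    (h13 : ∀ e ∈ A, e ≠ 1 → centralizer {z} ⊓ P ≤ normalizer (zpowers e : Set G) → zpowers e = zpowers z) :
    IsT7 (X.subgroupOf P) (A.subgroupOf P) ⟨z, hX hzX⟩ := by
  have hz := centralizer_singleton_subgroupOf (hX hzX)
  refine ⟨perfect_subgroupOf hX h1, quasi_subgroupOf hX h2, by rw [Asm.card_subgroupOf hX, h3],
    by rw [card_center_subgroupOf hX, h4], hzX, ?_, ?_, ?_, ?_, ?_, ?_, ?_, ?_, ?_⟩
  · rw [← h5]
    exact (orderOf_injective P.subtype P.subtype_injective ⟨z, hX hzX⟩).symm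
  · rw [hz]; exact fun x hx => h6 hx
  · rw [centralizer_subgroupOf hX, card_subgroupOf_inf]; exact h7
  · rw [hz, card_subgroupOf_inf]; exact h8
  · rw [hz, card_subgroupOf_inf]; exact h9
  · rw [hz]; exact fun x hx => h10 hx
  · exact h11.of_equiv (Subgroup.subgroupOfEquivOfLe hA).symm
  · rw [centralizer_subgroupOf hA, h12]
  · rintro ⟨e, he⟩ heA he1 hn
    have h14 : e ≠ 1 := fun h => he1 (Subtype.ext h)
    have hzp : ∀ (x : ↥P) (y : ↥P), y ∈ zpowers x ↔ (y : G) ∈ zpowers (x : G) := by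
      intro x y
      constructor
      · rintro ⟨n, hn⟩
        exact ⟨n, congrArg Subtype.val hn⟩
      · rintro ⟨n, hn⟩
        exact ⟨n, Subtype.ext hn⟩
    have h15 : centralizer {z} ⊓ P ≤ normalizer (zpowers e : Set G) := by
      rintro g ⟨hg, hgP⟩
      have hg' : (⟨g, hgP⟩ : ↥P) ∈ centralizer {(⟨z, hX hzX⟩ : ↥P)} := by
        rw [hz]
        exact hg
      have h16 := hn hg'
      rw [mem_normalizer_iff] at h16 ⊢
      intro x
      constructor
      · intro hx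
        have hxP : x ∈ P := (zpowers_le.2 he) hx
        have h17 := (h16 ⟨x, hxP⟩).1 ((hzp _ _).2 hx)
        exact (hzp _ _).1 h17
      · intro hx
        have hxP : g * x * g⁻¹ ∈ P := (zpowers_le.2 he) hx
        have hxP' : x ∈ P := by
          have := P.mul_mem (P.mul_mem (P.inv_mem hgP) hxP) hgP
          have e : g⁻¹ * (g * x * g⁻¹) * g = x := by group
          rwa [e] at this
        have h17 := (h16 ⟨x, hxP'⟩).2 ((hzp _ _).2 hx)
        exact (hzp _ _).1 h17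
    have h16 := h13 e heA h14 h15
    ext y
    rw [hzp, hzp]
    show (y : G) ∈ zpowers e ↔ (y : G) ∈ zpowers z
    rw [h16]

end Gen

section K

variable {K : Type} [Field K] [Fintype K] [CharP K 2]

theorem cov_SU (hK : Fintype.card K = 4) : Cfsg.Agent.R2.E72T.Cov oU6 ↥(Cfsg.SU 6 K 2) where
  perf := Cfsg.Agent.LieClassical.HermPerfect.commutator_SU_eq_top (q := 2) (by rw [hK]; norm_num) (by norm_num)
    (by omega)
  simp := Cfsg.Agent.S0283.result (q := 2) (by rw [hK]; norm_num) 6 (by norm_num) (by norm_num)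
  card := by
    rw [Cfsg.Agent.H372.FxU.card_six (q := 2) (by rw [hK]; norm_num)]
    decide +kernel
  cent := by
    rw [Cfsg.Agent.S0279.result (q := 2) (by rw [hK]; norm_num) 6 (by norm_num)]
    decide

theorem isT7_P4 (hK : Fintype.card K = 4) : ∃ (X A : Subgroup ↥(P4 K)) (z : ↥(P4 K)), IsT7 X A z := by
  obtain ⟨ζ, hζ⟩ := exists_zeta hK
  have h0 : ζ ≠ 0 := hζ.ne_zero (by norm_num)
  have hcov : Cfsg.Agent.R2.E72T.Cov oU6 ↥(X6 K) :=
    (cov_SU hK).congr ((Cfsg.SU 6 K 2).equivMapOfInjective (f6 K) (f6_injective hζ hK))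
  obtain ⟨c1, c2, c3, c4⟩ := hcov.sub
  have hzX : f6 K (z6 ζ) ∈ X6 K := by
    rw [mem_X6 hζ hK]
    exact T_le hK (z6_mem h0)
  refine ⟨_, _, _, isT7_of (P := P4 K) (X := X6 K) (A := T K) (z := f6 K (z6 ζ)) X6_le (T_le hK) hzX c1 c2 c3 c4
    (z6_order hζ) ?_ (card_cent hζ hK) (three_ten hK hζ) (not19 hζ hK) ?_ (isPGroup_T hK) (cent_T hK)
    (fun e he he1 hn => eq_zz hK hζ he he1 hn)⟩
  · rintro _ ⟨g, -, rfl⟩
    rw [mem_centralizer_singleton_iff]
    exact z6_comm6 hζ g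
  · exact (T_le_CZ hK hζ).trans inf_le_left

end K

theorem exists_isT7 : ∃ (X A : Subgroup G7) (z : G7), IsT7 X A z := by
  obtain ⟨K, _, _, hK⟩ := Cfsg.Agent.R2.E72T.exists_field 2 (by norm_num)
  have hc : CharP K 2 := Cfsg.Agent.R2.E72T.charTwo_of_card hK
  have hK4 : Fintype.card K = 4 := by rw [hK]; norm_num
  exact exists_T7_congr (Q := chevE7.group (ZMod 2)) (isoP4 hK4) (isT7_P4 hK4)

/-- **Box T7** -/
theorem box_T7 : BoxT7 := by
  obtain ⟨X, A, z, h⟩ := exists_isT7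
  exact ⟨X, A, z, h.perf, h.simp, h.card, h.cent, h.mem, h.ord, h.le, h.cX, h.ten, h.n19, h.leA, h.pgA, h.cA, h.ee⟩

end Cfsg.Agent.R2.H27.UsH
end

private theorem dce_ee0b729bf8d8 : _root_.True := by
  try have : _root_.True := by simp only [_root_.Cfsg.Agent.R2.H27.UsF.Y3.congr_simp]
  try have : _root_.True := by simp only [_root_.Cfsg.Agent.R2.H27.UsG.BB.congr_simp]
  exact _root_.True.intro
end

-- part: R2/E72T/BoxT2
section
set_option linter.all false
open scoped Cfsg.Agent.FastGrp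

/-!
# Box T2 of S5934: `3·²E₆(2)` in `E₇(2)`
-/

set_option autoImplicit false
set_option linter.unusedSectionVars false

namespace Cfsg.Agent.R2.E72T

open Cfsg.Lie Cfsg.Agent.ChevalleyStructure Cfsg.Agent.ChevalleyStructure.Elts
open Cfsg.Agent.ChevalleyStructure.StBasic
open Cfsg.Agent.ChevalleyStructure.StEmbed (ι67 m67 emb67)
open Cfsg.Agent.ChevalleyStructure.SL2Hom (up lo mem_closure_SL2)
open Cfsg.Agent.Nodes.RGDFoldSL Cfsg.Agent.Nodes.RGDChev
open Cfsg.Agent.H420.PG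
open Cfsg.Agent.R2.H27
open scoped MatrixGroups

universe u

/-- the twisted Frobenius map fixes the words -/
theorem fix_word6 {K : Type u} [Field K] [Fintype K] [CharP K 2] (hK : Fintype.card K = 2 ^ 2)
    (w : List (ℕ × K)) (hw : w ∈ e6Words K 2) : sgk K w6 (Θ6 K (wd chevE6 w)) = Θ6 K (wd chevE6 w) := by
  have h0 := w6_E6
  simp only [List.map_cons, List.map_nil, List.cons.injEq, and_true] at h0
  obtain ⟨f1, f2, f3, f4, f5, f6, f7, f8, f9, f10, f11, f12⟩ := h0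
  rcases hw with ⟨t, ht, r, hr, rfl⟩ | ⟨t, rs, hrs, rfl⟩
  · have hr' : r < 72 ∧ w6.foldr chevE7.reflectRoot (ι67 r) = ι67 r := by
      simp only [List.mem_cons, List.not_mem_nil, or_false] at hr
      rcases hr with rfl | rfl | rfl | rfl
      · exact ⟨by decide, f1⟩
      · exact ⟨by decide, f2⟩
      · exact ⟨by decide, f3⟩
      · exact ⟨by decide, f4⟩
    rw [wd_singleton, Θ6_gen hr'.1, sgk_x w6_lt (ι67_lt r hr'.1), hr'.2, ht]
  · obtain ⟨a, b⟩ := rs
    have h1 : a < 72 ∧ b < 72 ∧ w6.foldr chevE7.reflectRoot (ι67 a) = ι67 b ∧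
        w6.foldr chevE7.reflectRoot (ι67 b) = ι67 a ∧ ∀ t u : K, Commute (xG hE7 (ι67 a) t) (xG hE7 (ι67 b) u) := by
      have q1 := okP7a
      have q2 := okP7b
      unfold okP at q1 q2
      simp only [Bool.and_eq_true] at q1 q2
      obtain ⟨n1, n6, n3, n5⟩ := neg67
      rw [n1, n6] at q1
      rw [n3, n5] at q2
      simp only [List.mem_cons, Prod.mk.injEq, List.not_mem_nil, or_false] at hrs
      rcases hrs with ⟨rfl, rfl⟩ | ⟨rfl, rfl⟩ | ⟨rfl, rfl⟩ | ⟨rfl, rfl⟩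
      · exact ⟨by decide, by decide, f5, f6, fun t u => comm_of hE7 q1.1 t u⟩
      · exact ⟨by decide, by decide, f7, f8, fun t u => comm_of hE7 q1.2.2.2 t u⟩
      · exact ⟨by decide, by decide, f9, f10, fun t u => comm_of hE7 q2.1 t u⟩
      · exact ⟨by decide, by decide, f11, f12, fun t u => comm_of hE7 q2.2.2.2 t u⟩
    obtain ⟨ha, hb, e1, e2, hc⟩ := h1
    have e8 : ((t ^ 2) ^ 2 : K) = t := by
      rw [← pow_mul]
      have := FiniteField.pow_card t
      rw [hK] at this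
      exact this
    have e0 : Θ6 K (wd chevE6 [((a, b).1, t), ((a, b).2, t ^ 2)]) = xG hE7 (ι67 a) t * xG hE7 (ι67 b) (t ^ 2) := by
      rw [wd_cons, wd_singleton, map_mul, Θ6_gen ha, Θ6_gen hb]
    rw [e0, map_mul, sgk_x w6_lt (ι67_lt a ha), sgk_x w6_lt (ι67_lt b hb), e1, e2, e8]
    exact (hc t (t ^ 2)).eq.symm

section

variable {K : Type u} [Field K] [Fintype K] [CharP K 2]

theorem card_center6 (hK : Fintype.card K = 2 ^ 2) : Nat.card (Subgroup.center (chevE6.SteinbergGroup K)) = 3 := by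
  have h1 := Cfsg.Agent.S1079.result (K := K) (q := 4) (by rw [hK]; norm_num) (chevE6, 3) (by simp)
  have h2 : Nat.card (Subgroup.center (chevE6.SteinbergGroup K)) = Nat.gcd 3 (4 - 1) := h1
  rw [h2]
  norm_num

theorem simple_quot6 (K : Type u) [Field K] :
    IsSimpleGroup (chevE6.SteinbergGroup K ⧸ Subgroup.center (chevE6.SteinbergGroup K)) := by
  have h1 := (Cfsg.Agent.S1054.result (F := K) chevE6 (by simp)).1
  have e := QuotientGroup.quotientKerEquivOfSurjective (StTheta.theta hE6 K) (StTheta.theta_surjective hE6)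
  exact (MulEquiv.isSimpleGroup_congr ((QuotientGroup.quotientMulEquivOfEq
    (Cfsg.Agent.H65.MultE.ker_theta (K := K) hE6).symm).trans e)).2 h1

/-- a subgroup of order 3 generated by any nontrivial element -/
theorem mem_of_card_three {G : Type*} [Group G] {Z H : Subgroup G} (hZ : Nat.card Z = 3) {z : G} (hz : z ∈ Z)
    (h1 : z ≠ 1) (hH : z ∈ H) : Z ≤ H := by
  intro x hx
  have : Fact (Nat.Prime 3) := ⟨by norm_num⟩
  have h2 := mem_zpowers_of_prime_card (p := 3) hZ (g := (⟨z, hz⟩ : ↥Z)) (g' := ⟨x, hx⟩)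
    (fun h => h1 (congrArg Subtype.val h))
  obtain ⟨n, hn⟩ := Subgroup.mem_zpowers_iff.1 h2
  have h3 : z ^ n = x := congrArg Subtype.val hn
  rw [← h3]
  exact zpow_mem hH n

theorem exists_cube (hK : Fintype.card K = 2 ^ 2) : ∃ t : K, t ^ 3 = 1 ∧ t ≠ 1 := by
  have h1 : ∃ a : K, a ≠ 0 ∧ a ≠ 1 := by
    by_contra h
    push Not at h
    classical
    have h1 : (Finset.univ : Finset K) ⊆ {0, 1} := by
      intro a _
      by_cases h0 : a = 0
      · simp [h0]
      · simp [h a h0]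
    have h2 := (Finset.card_le_card h1).trans Finset.card_le_two
    rw [Finset.card_univ, hK] at h2
    norm_num at h2
  obtain ⟨a, ha, ha1⟩ := h1
  have h2 := FiniteField.pow_card_sub_one_eq_one a ha
  rw [hK] at h2
  exact ⟨a, h2, ha1⟩

theorem Θ6_injective (hK : Fintype.card K = 2 ^ 2) : Function.Injective (Θ6 K) := by
  obtain ⟨t, ht, ht1⟩ := exists_cube hK
  have hne : Θ6 K (chevE6.stGen K e6p1 1) * Θ6 K (chevE6.stGen K e6p3 1) ≠
      Θ6 K (chevE6.stGen K e6p3 1) * Θ6 K (chevE6.stGen K e6p1 1) := by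
    rw [Θ6_gen (by decide), Θ6_gen (by decide)]
    intro h
    have h8 := rel (F := K) hE7 nab6 1 1
    rw [List.map_cons, List.map_nil, List.prod_cons, List.prod_nil, mul_one, h] at h8
    have h9 : xG hE7 94 ((1 : K) ^ 1 * 1 ^ 1) = 1 := by
      have := mul_left_cancel (a := xG hE7 (ι67 e6p3) (1 : K) * xG hE7 (ι67 e6p1) 1) (b := 1)
        (c := xG hE7 94 ((1 : K) ^ 1 * 1 ^ 1)) (by rw [mul_one]; exact h8)
      exact this.symm
    rw [xG_eq_one_iff hE7 (show 94 < chevE7.nroots by decide)] at h9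
    simp at h9
  have hk := ker_le_center (simple_quot6 K) hne
  rw [← MonoidHom.ker_eq_bot_iff, eq_bot_iff]
  intro x hx
  by_contra h1
  rw [Subgroup.mem_bot] at h1
  have h2 := mem_of_card_three (card_center6 hK) (hk hx) h1 hx (zz_mem_center ht)
  exact Θ6_zz_ne ht ht1 h2

theorem cov6 (hK : Fintype.card K = 2 ^ 2) : Cov oTE6 ↥(R6 K) := by
  obtain ⟨t, ht, ht1⟩ := exists_cube hK
  have hfin : Finite (chevE6.SteinbergGroup K) :=
    Cfsg.Agent.H65.MultE.finite_St hE6 (by rw [card_center6 hK]; norm_num)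
  have hθ : ∀ x : ↥(R6 K), StTheta.thetaGL hE6 K x ∈ twistedE6 K 2 := by
    intro x
    rw [twistedE6, ← map_stS hE6]
    exact ⟨x, x.2, rfl⟩
  let ρ : ↥(R6 K) →* ↥(twistedE6 K 2) :=
    ((StTheta.thetaGL hE6 K).comp (R6 K).subtype).codRestrict (twistedE6 K 2) hθ
  have hρ : Function.Surjective ρ := by
    rintro ⟨y, hy⟩
    rw [twistedE6, ← map_stS hE6] at hy
    obtain ⟨x, hx, hxy⟩ := hy
    exact ⟨⟨x, hx⟩, Subtype.ext hxy⟩
  have hcard : Nat.card ↥(twistedE6 K 2) = oTE6 := by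
    have h1 := Cfsg.Agent.S1066.result (K := K) (q := 2) Nat.prime_two.isPrimePow hK
    have h2 : Nat.gcd 3 (2 + 1) = 3 := by decide
    rw [h2] at h1
    unfold oTE6
    norm_num at h1 ⊢
    omega
  have hker : ∀ x : ↥(R6 K), x ∈ ρ.ker ↔ (x : chevE6.SteinbergGroup K) ∈ Subgroup.center (chevE6.SteinbergGroup K) := by
    intro x
    rw [← Cfsg.Agent.H65.MultE.ker_theta (K := K) hE6, MonoidHom.mem_ker, MonoidHom.mem_ker, Subtype.ext_iff,
      Subtype.ext_iff]
    rfl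
  have hle : Subgroup.center (chevE6.SteinbergGroup K) ≤ R6 K :=
    mem_of_card_three (card_center6 hK) (zz_mem_center ht) (fun h => Θ6_zz_ne ht ht1 (by rw [h, map_one])) (zz_mem t)
  refine cov_of_hom hρ (Cfsg.Agent.S1070.result (K := K) (q := 2) Nat.prime_two.isPrimePow hK).1 hcard
    (by norm_num [oTE6]) ?_ ?_ ?_
  · intro x hx
    rw [Subgroup.mem_center_iff]
    intro y
    apply Subtype.ext
    exact Subgroup.mem_center_iff.1 ((hker x).1 hx) y
  · have e : ρ.ker = (Subgroup.center (chevE6.SteinbergGroup K)).subgroupOf (R6 K) := by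
      ext x
      rw [hker, Subgroup.mem_subgroupOf]
    rw [e, Nat.card_congr (Subgroup.subgroupOfEquivOfLe hle).toEquiv, card_center6 hK]
  · -- generated by involutions
    rw [eq_top_iff]
    have key : ∀ x : chevE6.SteinbergGroup K, ∀ hx : x ∈ R6 K,
        (⟨x, hx⟩ : ↥(R6 K)) ∈ Subgroup.closure {g : ↥(R6 K) | g ^ 2 = 1} := by
      intro x hx
      refine Subgroup.closure_induction (p := fun x hx => (⟨x, hx⟩ : ↥(R6 K)) ∈
        Subgroup.closure {g : ↥(R6 K) | g ^ 2 = 1}) ?_ (one_mem _) ?_ ?_ hx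
      · rintro x ⟨w, hw, rfl⟩
        apply Subgroup.subset_closure
        apply Subtype.ext
        show wd chevE6 w ^ 2 = 1
        apply Θ6_injective hK
        rw [map_pow, map_one]
        rcases hw with ⟨t, -, r, hr, rfl⟩ | ⟨t, rs, hrs, rfl⟩
        · have hr' : r < 72 := by
            simp only [List.mem_cons, List.not_mem_nil, or_false] at hr
            rcases hr with rfl | rfl | rfl | rfl <;> decide
          rw [wd_singleton, Θ6_gen hr', sq, xG_add hE7, CharTwo.add_self_eq_zero, xG_zero hE7]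
        · obtain ⟨a, b⟩ := rs
          have h1 : a < 72 ∧ b < 72 ∧ ∀ t u : K, Commute (xG hE7 (ι67 a) t) (xG hE7 (ι67 b) u) := by
            have q1 := okP7a
            have q2 := okP7b
            unfold okP at q1 q2
            simp only [Bool.and_eq_true] at q1 q2
            obtain ⟨n1, n6, n3, n5⟩ := neg67
            rw [n1, n6] at q1
            rw [n3, n5] at q2
            simp only [List.mem_cons, Prod.mk.injEq, List.not_mem_nil, or_false] at hrs
            rcases hrs with ⟨rfl, rfl⟩ | ⟨rfl, rfl⟩ | ⟨rfl, rfl⟩ | ⟨rfl, rfl⟩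
            · exact ⟨by decide, by decide, fun t u => comm_of hE7 q1.1 t u⟩
            · exact ⟨by decide, by decide, fun t u => comm_of hE7 q1.2.2.2 t u⟩
            · exact ⟨by decide, by decide, fun t u => comm_of hE7 q2.1 t u⟩
            · exact ⟨by decide, by decide, fun t u => comm_of hE7 q2.2.2.2 t u⟩
          have e0 : Θ6 K (wd chevE6 [((a, b).1, t), ((a, b).2, t ^ 2)]) = xG hE7 (ι67 a) t * xG hE7 (ι67 b) (t ^ 2) := by
            rw [wd_cons, wd_singleton, map_mul, Θ6_gen h1.1, Θ6_gen h1.2.1]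
          rw [e0, (h1.2.2 t (t ^ 2)).mul_pow, sq, sq, xG_add hE7, xG_add hE7, CharTwo.add_self_eq_zero,
            CharTwo.add_self_eq_zero, xG_zero hE7, xG_zero hE7, one_mul]
      · intro x y hx hy h1 h2
        exact mul_mem h1 h2
      · intro x hx h1
        exact inv_mem h1
    rintro ⟨x, hx⟩ -
    exact key x hx

end

theorem box_T2 : BoxT2 := by
  obtain ⟨K, _, _, hK⟩ := exists_field 2 (by norm_num)
  have hc : CharP K 2 := charTwo_of_card hK
  obtain ⟨e⟩ := isoPk (by norm_num) hK w6_lt w6_pow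
  have hmem : ∀ x : ↥(R6 K), Θ6 K x ∈ Pk K w6 := by
    intro x
    rw [mem_Pk]
    exact ⟨Θ6_mem _, fix_stS _ (fix_word6 hK) x.2⟩
  let j : ↥(R6 K) →* ↥(Pk K w6) := ((Θ6 K).comp (R6 K).subtype).codRestrict (Pk K w6) hmem
  have hj : Function.Injective j := by
    intro x y hxy
    apply Subtype.ext
    exact Θ6_injective hK (congrArg Subtype.val hxy)
  have h1 : Function.Injective (e.toMonoidHom.comp j) := e.injective.comp hj
  exact ⟨_, ((cov6 hK).range h1).sub⟩

end Cfsg.Agent.R2.E72T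

private theorem dce_8e52aa24ce58 : _root_.True := by
  try have : _root_.True := by simp only [_root_.Cfsg.Lie.twistedE6.eq_1]
  try have : _root_.True := by simp only [_root_.Cfsg.Agent.R2.H27.oTE6.eq_1]
  exact _root_.True.intro
end
end
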